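import Mathlib

/-!
# Elementary divisibilities between order polynomials
-/

set_option autoImplicit false

namespace Cfsg.Agent.H365.Near

theorem cancel {C A B : ℤ} (hC : C ≠ 0) (h : C * A ∣ C * B) : A ∣ B := (mul_dvd_mul_iff_left hC).1 h

theorem reduce {A B : ℤ} (Q R : ℤ) (h : A ∣ B) (hB : B = A * Q + R) : A ∣ R := by
  have h2 := dvd_sub h (dvd_mul_right A Q)
  rwa [hB, add_sub_cancel_left] at h2

theorem tooBig {A B : ℤ} (h : A ∣ B) (hB : 0 < B) (hlt : B < A) : False := by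
  have := Int.le_of_dvd hB h
  omega

/-- powers of an integer at least two -/
theorem pw {t : ℤ} (ht : 2 ≤ t) (k : ℕ) : (2 : ℤ) ^ k ≤ t ^ k := pow_le_pow_left₀ (by norm_num) ht k

theorem pw1 {t : ℤ} (ht : 2 ≤ t) {k : ℕ} (hk : k ≠ 0) : 1 < t ^ k := one_lt_pow₀ (by omega) hk

theorem pwm {t : ℤ} (ht : 2 ≤ t) {i j : ℕ} (h : i ≤ j) : t ^ i ≤ t ^ j := pow_le_pow_right₀ (by omega) h

section

variable {t a b : ℤ}

theorem s_L2U3 (ht : 2 ≤ t) (ha : 1 ≤ a) (hb : 1 ≤ b) (hb2 : b ≤ 2)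
    (h : a * ((t ^ 3) ^ 2 - 1) ∣ b * ((t ^ 2 - 1) * (t ^ 3 + 1))) : False := by
  have h3 := pw1 ht (k := 3) (by norm_num)
  have h1 : a * (t ^ 3 - 1) ∣ b * (t ^ 2 - 1) := by
    apply cancel (C := t ^ 3 + 1) (by omega)
    convert h using 1 <;> ring
  have h2 : t ^ 3 - 1 ∣ b * (t ^ 2 - 1) := (dvd_mul_left _ _).trans h1
  have h4 := pw1 ht (k := 2) (by norm_num)
  refine tooBig h2 (by nlinarith) ?_
  nlinarith [mul_le_mul_of_nonneg_right hb2 (show 0 ≤ t ^ 2 - 1 by omega)]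

theorem s_L2Sz (ht : 2 ≤ t) (ha : 1 ≤ a) (hb : 1 ≤ b) (hb2 : b ≤ 2)
    (h : a * ((t ^ 2) ^ 2 - 1) ∣ b * ((t - 1) * (t ^ 2 + 1))) : False := by
  have h1 : a * (t + 1) ∣ b := by
    apply cancel (C := (t - 1) * (t ^ 2 + 1)) (mul_ne_zero (by omega) (by positivity))
    convert h using 1 <;> ring
  exact tooBig ((dvd_mul_left _ _).trans h1) (by omega) (by omega)

theorem s_L2Ree (ht : 2 ≤ t) (ha : 1 ≤ a) (hb : 1 ≤ b) (hb2 : b ≤ 2)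
    (h : a * ((t ^ 3) ^ 2 - 1) ∣ b * ((t - 1) * (t ^ 3 + 1))) : False := by
  have h3 := pw1 ht (k := 3) (by norm_num)
  have h1 : a * (t ^ 2 + t + 1) ∣ b := by
    apply cancel (C := (t - 1) * (t ^ 3 + 1)) (mul_ne_zero (by omega) (by omega))
    convert h using 1 <;> ring
  exact tooBig ((dvd_mul_left _ _).trans h1) (by omega) (by nlinarith)

theorem s_U3L2 (ht : 3 ≤ t) (ha : 1 ≤ a) (hb : 1 ≤ b) (hb2 : b ≤ 3)
    (h : a * ((t ^ 2 - 1) * (t ^ 3 + 1)) ∣ b * ((t ^ 3) ^ 2 - 1)) : False := by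
  have h3 := pw1 (show 2 ≤ t by omega) (k := 3) (by norm_num)
  have h1 : a * (t + 1) ∣ b * (t ^ 2 + t + 1) := by
    apply cancel (C := (t - 1) * (t ^ 3 + 1)) (mul_ne_zero (by omega) (by omega))
    convert h using 1 <;> ring
  have h2 : t + 1 ∣ b := reduce (b * t) b ((dvd_mul_left _ _).trans h1) (by ring)
  exact tooBig h2 (by omega) (by omega)

theorem s_U3Sz (ht : 2 ≤ t) (ha : 1 ≤ a)
    (h : a * (((t ^ 2) ^ 2 - 1) * ((t ^ 2) ^ 3 + 1)) ∣ 1 * ((t ^ 3 - 1) * ((t ^ 3) ^ 2 + 1))) : False := by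
  have h1 : a * (t ^ 4 - 1) ∣ t ^ 3 - 1 := by
    apply cancel (C := t ^ 6 + 1) (by positivity)
    convert h using 1 <;> ring
  have h3 := pw1 ht (k := 3) (by norm_num)
  refine tooBig ((dvd_mul_left _ _).trans h1) (by omega) (by nlinarith)

theorem s_U3Ree (ht : 3 ≤ t) (ha : 1 ≤ a) (hb : 1 ≤ b) (hb2 : b ≤ 3)
    (h : a * ((t ^ 2 - 1) * (t ^ 3 + 1)) ∣ b * ((t - 1) * (t ^ 3 + 1))) : False := by
  have h3 := pw1 (show 2 ≤ t by omega) (k := 3) (by norm_num)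
  have h1 : a * (t + 1) ∣ b := by
    apply cancel (C := (t - 1) * (t ^ 3 + 1)) (mul_ne_zero (by omega) (by omega))
    convert h using 1 <;> ring
  exact tooBig ((dvd_mul_left _ _).trans h1) (by omega) (by omega)

theorem s_SzU3 (ht : 2 ≤ t) (ha : 1 ≤ a)
    (h : a * ((t ^ 3 - 1) * ((t ^ 3) ^ 2 + 1)) ∣ 1 * (((t ^ 2) ^ 2 - 1) * ((t ^ 2) ^ 3 + 1))) : False := by
  have h1 : a * (t ^ 3 - 1) ∣ t ^ 4 - 1 := by
    apply cancel (C := t ^ 6 + 1) (by positivity)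
    convert h using 1 <;> ring
  have h2 : t ^ 3 - 1 ∣ t - 1 := reduce t (t - 1) ((dvd_mul_left _ _).trans h1) (by ring)
  refine tooBig h2 (by omega) (by nlinarith [pw1 ht (k := 2) (by norm_num)])

theorem s_ReeL2 (ht : 2 ≤ t) (hodd : t % 2 = 1)
    (h : 2 * ((t - 1) * (t ^ 3 + 1)) ∣ 1 * ((t ^ 3) ^ 2 - 1)) : False := by
  have h3 := pw1 ht (k := 3) (by norm_num)
  have h1 : 2 ∣ t ^ 2 + t + 1 := by
    apply cancel (C := (t - 1) * (t ^ 3 + 1)) (mul_ne_zero (by omega) (by omega))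
    convert h using 1 <;> ring
  have h2 : (t ^ 2 + t + 1) % 2 = 0 := Int.emod_eq_zero_of_dvd h1
  rw [Int.add_emod, Int.add_emod (t ^ 2), pow_two, Int.mul_emod, hodd] at h2
  norm_num at h2

/-! ### the shapes with `kap = 4` -/

theorem s_L3C2 (ht : 2 ≤ t) (ha : 1 ≤ a) (hb : 1 ≤ b) (hb2 : b ≤ 3)
    (h : a * (((t ^ 4) ^ 2 - 1) * ((t ^ 4) ^ 3 - 1)) ∣ b * (((t ^ 3) ^ 2 - 1) * ((t ^ 3) ^ 4 - 1))) : False := by
  have h12 := pw1 ht (k := 12) (by norm_num)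
  have h6 := pw1 ht (k := 6) (by norm_num)
  have h1 : a * (t ^ 8 - 1) ∣ b * (t ^ 6 - 1) := by
    apply cancel (C := t ^ 12 - 1) (by omega)
    convert h using 1 <;> ring
  refine tooBig ((dvd_mul_left _ _).trans h1) (by nlinarith) ?_
  have h2 : b * (t ^ 6 - 1) ≤ 3 * (t ^ 6 - 1) := mul_le_mul_of_nonneg_right hb2 (by omega)
  have h4 : 4 * t ^ 6 ≤ t ^ 8 := by
    have := pw ht 2
    have h5 : t ^ 8 = t ^ 2 * t ^ 6 := by ring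
    nlinarith
  omega

theorem s_L3U4 (ht : 2 ≤ t) (ha : 1 ≤ a) (hb : b = 1 ∨ b = 3)
    (h : a * (((t ^ 2) ^ 2 - 1) * ((t ^ 2) ^ 3 - 1)) ∣ b * ((t ^ 2 - 1) * (t ^ 3 + 1) * (t ^ 4 - 1))) : False := by
  have h4 := pw1 ht (k := 4) (by norm_num)
  have h3 := pw1 ht (k := 3) (by norm_num)
  have h1 : a * (t ^ 2 + t + 1) ∣ b * (t + 1) := by
    apply cancel (C := (t - 1) * (t ^ 3 + 1) * (t ^ 4 - 1)) (mul_ne_zero (mul_ne_zero (by omega) (by omega)) (by omega))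
    convert h using 1 <;> ring
  have h2 : t ^ 2 + t + 1 ∣ b * (t + 1) := (dvd_mul_left _ _).trans h1
  rcases hb with rfl | rfl
  · exact tooBig h2 (by omega) (by nlinarith)
  · rcases eq_or_lt_of_le ht with h5 | h5
    · rw [← h5] at h2; norm_num at h2
    · exact tooBig h2 (by omega) (by nlinarith)

theorem s_L3U5 (ht : 2 ≤ t) (ha : 1 ≤ a) (hb : 1 ≤ b) (hb2 : b ≤ 3)
    (h : a * (((t ^ 10) ^ 2 - 1) * ((t ^ 10) ^ 3 - 1)) ∣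
      b * (((t ^ 3) ^ 2 - 1) * ((t ^ 3) ^ 3 + 1) * ((t ^ 3) ^ 4 - 1) * ((t ^ 3) ^ 5 + 1))) : False := by
  have h1 : a * ((t ^ 20 - 1) * (t ^ 15 - 1)) ∣ b * ((t ^ 6 - 1) * (t ^ 9 + 1) * (t ^ 12 - 1)) := by
    apply cancel (C := t ^ 15 + 1) (by positivity)
    convert h using 1 <;> ring
  have p6 := pw1 ht (k := 6) (by norm_num)
  have p9 := pw1 ht (k := 9) (by norm_num)
  have p12 := pw1 ht (k := 12) (by norm_num)
  have p14 := pw1 ht (k := 14) (by norm_num)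
  have p19 := pw1 ht (k := 19) (by norm_num)
  have e1 : t ^ 6 * t ^ 12 ≥ (t ^ 6 - 1) * (t ^ 12 - 1) := by nlinarith
  have e2 : (t ^ 9 + 1) ≤ 2 * t ^ 9 := by omega
  have q0 : 0 < (t ^ 6 - 1) * (t ^ 12 - 1) := mul_pos (by omega) (by omega)
  have e3 : (t ^ 6 - 1) * (t ^ 9 + 1) * (t ^ 12 - 1) ≤ 2 * t ^ 27 := by
    calc (t ^ 6 - 1) * (t ^ 9 + 1) * (t ^ 12 - 1) = ((t ^ 6 - 1) * (t ^ 12 - 1)) * (t ^ 9 + 1) := by ring
      _ ≤ (t ^ 6 * t ^ 12) * (2 * t ^ 9) := mul_le_mul e1 e2 (by positivity) (by positivity)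
      _ = 2 * t ^ 27 := by ring
  have e4 : t ^ 19 ≤ t ^ 20 - 1 := by
    have : t ^ 20 = t * t ^ 19 := by ring
    nlinarith
  have e5 : t ^ 14 ≤ t ^ 15 - 1 := by
    have : t ^ 15 = t * t ^ 14 := by ring
    nlinarith
  have e6 : t ^ 33 ≤ (t ^ 20 - 1) * (t ^ 15 - 1) := by
    calc t ^ 33 = t ^ 19 * t ^ 14 := by ring
      _ ≤ _ := mul_le_mul e4 e5 (by positivity) (by linarith)
  have e7 : 64 * t ^ 27 ≤ t ^ 33 := by
    have h6 := pw ht 6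
    have : t ^ 33 = t ^ 6 * t ^ 27 := by ring
    rw [this]
    exact mul_le_mul_of_nonneg_right (by linarith) (by positivity)
  have q1 : 0 < (t ^ 6 - 1) * (t ^ 9 + 1) * (t ^ 12 - 1) := mul_pos (mul_pos (by omega) (by omega)) (by omega)
  refine tooBig ((dvd_mul_left _ _).trans h1) (mul_pos (by omega) q1) ?_
  have e8 : b * ((t ^ 6 - 1) * (t ^ 9 + 1) * (t ^ 12 - 1)) ≤ 3 * ((t ^ 6 - 1) * (t ^ 9 + 1) * (t ^ 12 - 1)) :=
    mul_le_mul_of_nonneg_right hb2 q1.le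
  have q2 : 0 < t ^ 27 := by positivity
  linarith

theorem s_L3G2 (ht : 2 ≤ t) (ha : 1 ≤ a) (hb : 1 ≤ b) (hb2 : b ≤ 3)
    (h : a * (((t ^ 2) ^ 2 - 1) * ((t ^ 2) ^ 3 - 1)) ∣ b * ((t ^ 2 - 1) * (t ^ 6 - 1))) : False := by
  have h2 := pw1 ht (k := 2) (by norm_num)
  have h6 := pw1 ht (k := 6) (by norm_num)
  have h1 : a * (t ^ 2 + 1) ∣ b := by
    apply cancel (C := (t ^ 2 - 1) * (t ^ 6 - 1)) (mul_ne_zero (by omega) (by omega))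
    convert h using 1 <;> ring
  exact tooBig ((dvd_mul_left _ _).trans h1) (by omega) (by nlinarith)

theorem s_L3TD4 (ht : 2 ≤ t) (ha : 1 ≤ a) (hb : 1 ≤ b) (hb2 : b ≤ 3)
    (h : a * (((t ^ 4) ^ 2 - 1) * ((t ^ 4) ^ 3 - 1)) ∣ b * ((t ^ 2 - 1) * (t ^ 6 - 1) * (t ^ 8 + t ^ 4 + 1))) :
    False := by
  have h2 := pw1 ht (k := 2) (by norm_num)
  have h6 := pw1 ht (k := 6) (by norm_num)
  have h1 : a * ((t ^ 8 - 1) * (t ^ 2 + 1)) ∣ b * (t ^ 6 - 1) := by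
    apply cancel (C := (t ^ 2 - 1) * (t ^ 8 + t ^ 4 + 1)) (mul_ne_zero (by omega) (by positivity))
    convert h using 1 <;> ring
  have h3 : t ^ 8 - 1 ∣ b * (t ^ 6 - 1) := ((dvd_mul_right _ _).trans (dvd_mul_left _ _)).trans h1
  refine tooBig h3 (by nlinarith) ?_
  have h2 : b * (t ^ 6 - 1) ≤ 3 * (t ^ 6 - 1) := mul_le_mul_of_nonneg_right hb2 (by omega)
  have h4 : 4 * t ^ 6 ≤ t ^ 8 := by
    have := pw ht 2
    have h5 : t ^ 8 = t ^ 2 * t ^ 6 := by ring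
    nlinarith
  omega

theorem s_L3TF4 (ht : 2 ≤ t) (ha : 1 ≤ a) (hb : 1 ≤ b) (hb2 : b ≤ 3)
    (h : a * (((t ^ 4) ^ 2 - 1) * ((t ^ 4) ^ 3 - 1)) ∣ b * ((t - 1) * (t ^ 3 + 1) * (t ^ 4 - 1) * (t ^ 6 + 1))) :
    False := by
  have h4 := pw1 ht (k := 4) (by norm_num)
  have h3 := pw1 ht (k := 3) (by norm_num)
  have h6 := pw1 ht (k := 6) (by norm_num)
  have h1 : a * ((t ^ 4 + 1) * (t ^ 2 + t + 1)) ∣ b := by
    apply cancel (C := (t - 1) * (t ^ 3 + 1) * (t ^ 4 - 1) * (t ^ 6 + 1))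
      (mul_ne_zero (mul_ne_zero (mul_ne_zero (by omega) (by omega)) (by omega)) (by omega))
    convert h using 1 <;> ring
  have h5 : t ^ 2 + t + 1 ∣ b := ((dvd_mul_left _ _).trans (dvd_mul_left _ _)).trans h1
  exact tooBig h5 (by omega) (by nlinarith)

theorem s_C2L3 (ht : 2 ≤ t) (ha : 1 ≤ a) (hb : 1 ≤ b) (hb2 : b ≤ 2)
    (h : a * (((t ^ 3) ^ 2 - 1) * ((t ^ 3) ^ 4 - 1)) ∣ b * (((t ^ 4) ^ 2 - 1) * ((t ^ 4) ^ 3 - 1))) : False := by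
  have h2 := pw1 ht (k := 2) (by norm_num)
  have h12 := pw1 ht (k := 12) (by norm_num)
  have h1 : a * (t ^ 4 + t ^ 2 + 1) ∣ b * ((t ^ 2 + 1) * (t ^ 4 + 1)) := by
    apply cancel (C := (t ^ 2 - 1) * (t ^ 12 - 1)) (mul_ne_zero (by omega) (by omega))
    convert h using 1 <;> ring
  have h3 : t ^ 4 + t ^ 2 + 1 ∣ b := reduce (b * t ^ 2) b ((dvd_mul_left _ _).trans h1) (by ring)
  exact tooBig h3 (by omega) (by nlinarith [pw1 ht (k := 4) (by norm_num)])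

theorem s_C2U4 (ht : 2 ≤ t) (ha : 1 ≤ a) (hb : 1 ≤ b) (hb2 : b ≤ 2)
    (h : a * (((t ^ 3) ^ 2 - 1) * ((t ^ 3) ^ 4 - 1)) ∣
      b * (((t ^ 2) ^ 2 - 1) * ((t ^ 2) ^ 3 + 1) * ((t ^ 2) ^ 4 - 1))) : False := by
  have h2 := pw ht 2
  have h4 := pw1 ht (k := 4) (by norm_num)
  have h1 : a * ((t ^ 4 + t ^ 2 + 1) * (t ^ 4 + t ^ 2 + 1)) ∣ b * ((t ^ 2 + 1) * (t ^ 2 + 1) * (t ^ 4 + 1)) := by
    apply cancel (C := (t ^ 2 - 1) * (t ^ 2 - 1) * (t ^ 6 + 1))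
      (mul_ne_zero (mul_ne_zero (by omega) (by omega)) (by positivity))
    convert h using 1 <;> ring
  have h3 : t ^ 4 + t ^ 2 + 1 ∣ b * (t ^ 2 + 1) :=
    reduce (b * (t ^ 2 + 1) * t ^ 2) _ (((dvd_mul_left _ _).trans (dvd_mul_left _ _)).trans h1) (by ring)
  refine tooBig h3 (by positivity) ?_
  have : t ^ 4 = t ^ 2 * t ^ 2 := by ring
  nlinarith

theorem s_C2U5 (ht : 2 ≤ t) (ha : 1 ≤ a) (hb : 1 ≤ b) (hb2 : b ≤ 2)
    (h : a * (((t ^ 5) ^ 2 - 1) * ((t ^ 5) ^ 4 - 1)) ∣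
      b * (((t ^ 2) ^ 2 - 1) * ((t ^ 2) ^ 3 + 1) * ((t ^ 2) ^ 4 - 1) * ((t ^ 2) ^ 5 + 1))) : False := by
  have h1 : a * ((t ^ 10 - 1) * (t ^ 10 - 1)) ∣ b * ((t ^ 4 - 1) * (t ^ 6 + 1) * (t ^ 8 - 1)) := by
    apply cancel (C := t ^ 10 + 1) (by positivity)
    convert h using 1 <;> ring
  -- `(t ^ 2 - 1)` cancels once, `t ^ 4 + 1`, ... compare sizes
  have p4 := pw ht 4
  have p6 := pw ht 6
  have p8 := pw ht 8
  have p10 := pw ht 10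
  norm_num at p4 p6 p8 p10
  have q1 : 0 < (t ^ 4 - 1) * (t ^ 6 + 1) * (t ^ 8 - 1) := mul_pos (mul_pos (by omega) (by omega)) (by omega)
  refine tooBig ((dvd_mul_left _ _).trans h1) (mul_pos (by omega) q1) ?_
  have e8 : b * ((t ^ 4 - 1) * (t ^ 6 + 1) * (t ^ 8 - 1)) ≤ 2 * ((t ^ 4 - 1) * (t ^ 6 + 1) * (t ^ 8 - 1)) :=
    mul_le_mul_of_nonneg_right hb2 q1.le
  -- `(t^4-1)(t^6+1) ≤ t^10 + t^4`, so the product is at most `t^18 + t^12`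
  have e1 : (t ^ 4 - 1) * (t ^ 6 + 1) ≤ t ^ 10 + t ^ 4 := by
    have : (t ^ 4 - 1) * (t ^ 6 + 1) = t ^ 10 + t ^ 4 - t ^ 6 - 1 := by ring
    linarith
  have e2 : (t ^ 4 - 1) * (t ^ 6 + 1) * (t ^ 8 - 1) ≤ (t ^ 10 + t ^ 4) * (t ^ 8 - 1) :=
    mul_le_mul_of_nonneg_right e1 (by omega)
  have e3 : (t ^ 10 + t ^ 4) * (t ^ 8 - 1) = t ^ 18 + t ^ 12 - t ^ 10 - t ^ 4 := by ring
  have e4 : (t ^ 10 - 1) * (t ^ 10 - 1) = t ^ 20 - 2 * t ^ 10 + 1 := by ring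
  have e5 : 4 * t ^ 18 ≤ t ^ 20 := by
    have := pw ht 2
    have h5 : t ^ 20 = t ^ 2 * t ^ 18 := by ring
    rw [h5]
    exact mul_le_mul_of_nonneg_right (by linarith) (by positivity)
  have e6 : 64 * t ^ 12 ≤ t ^ 18 := by
    have h5 : t ^ 18 = t ^ 6 * t ^ 12 := by ring
    rw [h5]
    exact mul_le_mul_of_nonneg_right (by linarith) (by positivity)
  have e7 : t ^ 10 ≤ t ^ 12 := pwm ht (by norm_num)
  have q2 : 0 < t ^ 12 := by positivity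
  nlinarith

theorem s_C2G2 (ht : 2 ≤ t) (ha : 1 ≤ a) (hb : 1 ≤ b) (hb2 : b ≤ 2)
    (h : a * (((t ^ 3) ^ 2 - 1) * ((t ^ 3) ^ 4 - 1)) ∣ b * (((t ^ 2) ^ 2 - 1) * ((t ^ 2) ^ 6 - 1))) : False := by
  have h12 := pw1 ht (k := 12) (by norm_num)
  have h4 := pw1 ht (k := 4) (by norm_num)
  have h1 : a * (t ^ 6 - 1) ∣ b * (t ^ 4 - 1) := by
    apply cancel (C := t ^ 12 - 1) (by omega)
    convert h using 1 <;> ring
  refine tooBig ((dvd_mul_left _ _).trans h1) (by nlinarith) ?_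
  have h2 : b * (t ^ 4 - 1) ≤ 2 * (t ^ 4 - 1) := mul_le_mul_of_nonneg_right hb2 (by omega)
  have h5 : 4 * t ^ 4 ≤ t ^ 6 := by
    have := pw ht 2
    have h5 : t ^ 6 = t ^ 2 * t ^ 4 := by ring
    nlinarith
  omega

theorem s_C2TD4 (ht : 2 ≤ t) (ha : 1 ≤ a) (hb : 1 ≤ b) (hb2 : b ≤ 2)
    (h : a * (((t ^ 3) ^ 2 - 1) * ((t ^ 3) ^ 4 - 1)) ∣ b * ((t ^ 2 - 1) * (t ^ 6 - 1) * (t ^ 8 + t ^ 4 + 1))) :
    False := by
  have h2 := pw1 ht (k := 2) (by norm_num)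
  have h6 := pw1 ht (k := 6) (by norm_num)
  have h1 : a * (t ^ 2 + 1) ∣ b := by
    apply cancel (C := (t ^ 2 - 1) * (t ^ 6 - 1) * (t ^ 8 + t ^ 4 + 1))
      (mul_ne_zero (mul_ne_zero (by omega) (by omega)) (by positivity))
    convert h using 1 <;> ring
  exact tooBig ((dvd_mul_left _ _).trans h1) (by omega) (by nlinarith)

theorem s_C2TF4 (ht : 2 ≤ t) (ha : 1 ≤ a) (hb : 1 ≤ b) (hb2 : b ≤ 2)
    (h : a * (((t ^ 3) ^ 2 - 1) * ((t ^ 3) ^ 4 - 1)) ∣ b * ((t - 1) * (t ^ 3 + 1) * (t ^ 4 - 1) * (t ^ 6 + 1))) :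
    False := by
  have h2 := pw1 ht (k := 2) (by norm_num)
  have h3 := pw1 ht (k := 3) (by norm_num)
  have h1 : a * ((t ^ 4 + t ^ 2 + 1) * (t ^ 2 + t + 1)) ∣ b * (t ^ 2 + 1) := by
    apply cancel (C := (t - 1) * (t ^ 3 + 1) * (t ^ 2 - 1) * (t ^ 6 + 1))
      (mul_ne_zero (mul_ne_zero (mul_ne_zero (by omega) (by omega)) (by omega)) (by positivity))
    convert h using 1 <;> ring
  have h5 : t ^ 4 + t ^ 2 + 1 ∣ b * (t ^ 2 + 1) := ((dvd_mul_right _ _).trans (dvd_mul_left _ _)).trans h1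
  refine tooBig h5 (by positivity) ?_
  have h4 : t ^ 4 = t ^ 2 * t ^ 2 := by ring
  have := pw ht 2
  nlinarith

theorem s_G2C2 (ht : 2 ≤ t) (ha : 1 ≤ a)
    (h : a * (((t ^ 2) ^ 2 - 1) * ((t ^ 2) ^ 6 - 1)) ∣ 1 * (((t ^ 3) ^ 2 - 1) * ((t ^ 3) ^ 4 - 1))) : False := by
  have h2 := pw1 ht (k := 2) (by norm_num)
  have h12 := pw1 ht (k := 12) (by norm_num)
  have h1 : a * (t ^ 2 + 1) ∣ t ^ 4 + t ^ 2 + 1 := by
    apply cancel (C := (t ^ 2 - 1) * (t ^ 12 - 1)) (mul_ne_zero (by omega) (by omega))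
    convert h using 1 <;> ring
  have h3 : t ^ 2 + 1 ∣ 1 := reduce (t ^ 2) 1 ((dvd_mul_left _ _).trans h1) (by ring)
  exact tooBig h3 (by omega) (by omega)

theorem s_G2U4 (ht : 2 ≤ t) (ha : 1 ≤ a)
    (h : a * ((t ^ 2 - 1) * (t ^ 6 - 1)) ∣ 1 * ((t ^ 2 - 1) * (t ^ 3 + 1) * (t ^ 4 - 1))) : False := by
  have h2 := pw1 ht (k := 2) (by norm_num)
  have h3 := pw1 ht (k := 3) (by norm_num)
  have h1 : a * (t ^ 3 - 1) ∣ t ^ 4 - 1 := by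
    apply cancel (C := (t ^ 2 - 1) * (t ^ 3 + 1)) (mul_ne_zero (by omega) (by omega))
    convert h using 1 <;> ring
  have h4 : t ^ 3 - 1 ∣ t - 1 := reduce t (t - 1) ((dvd_mul_left _ _).trans h1) (by ring)
  refine tooBig h4 (by omega) (by nlinarith)

theorem s_G2TD4 (ht : 2 ≤ t)
    (h : 1 * (((t ^ 2) ^ 2 - 1) * ((t ^ 2) ^ 6 - 1)) ∣ 1 * ((t ^ 2 - 1) * (t ^ 6 - 1) * (t ^ 8 + t ^ 4 + 1))) :
    False := by
  have h2 := pw1 ht (k := 2) (by norm_num)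
  have h1 : (t ^ 2 + 1) * (t ^ 2 + 1) ∣ t ^ 4 + t ^ 2 + 1 := by
    apply cancel (C := (t ^ 2 - 1) * (t ^ 2 - 1) * (t ^ 8 + t ^ 4 + 1))
      (mul_ne_zero (mul_ne_zero (by omega) (by omega)) (by positivity))
    convert h using 1 <;> ring
  exact tooBig h1 (by positivity) (by nlinarith)

theorem s_G2TF4 (ht : 2 ≤ t)
    (h : 1 * (((t ^ 2) ^ 2 - 1) * ((t ^ 2) ^ 6 - 1)) ∣ 1 * ((t - 1) * (t ^ 3 + 1) * (t ^ 4 - 1) * (t ^ 6 + 1))) :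
    False := by
  have h4 := pw1 ht (k := 4) (by norm_num)
  have h3 := pw1 ht (k := 3) (by norm_num)
  have h1 : t ^ 3 - 1 ∣ t - 1 := by
    apply cancel (C := (t ^ 3 + 1) * (t ^ 4 - 1) * (t ^ 6 + 1))
      (mul_ne_zero (mul_ne_zero (by omega) (by omega)) (by positivity))
    convert h using 1 <;> ring
  exact tooBig h1 (by omega) (by nlinarith [pw1 ht (k := 2) (by norm_num)])

theorem s_TD4L3 (ht : 2 ≤ t) (ha : 1 ≤ a)
    (h : a * ((t ^ 2 - 1) * (t ^ 6 - 1) * (t ^ 8 + t ^ 4 + 1)) ∣ 1 * (((t ^ 4) ^ 2 - 1) * ((t ^ 4) ^ 3 - 1))) :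
    False := by
  have h2 := pw ht 2
  have h1 : a * (t ^ 4 + t ^ 2 + 1) ∣ (t ^ 2 + 1) * (t ^ 2 + 1) * (t ^ 4 + 1) := by
    apply cancel (C := (t ^ 2 - 1) * (t ^ 2 - 1) * (t ^ 8 + t ^ 4 + 1))
      (mul_ne_zero (mul_ne_zero (by omega) (by omega)) (by positivity))
    convert h using 1 <;> ring
  have h3 : t ^ 4 + t ^ 2 + 1 ∣ t ^ 2 + 1 :=
    reduce ((t ^ 2 + 1) * t ^ 2) _ ((dvd_mul_left _ _).trans h1) (by ring)
  exact tooBig h3 (by positivity) (by nlinarith [pw1 ht (k := 4) (by norm_num)])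

theorem s_TD4U4 (ht : 2 ≤ t) (ha : 1 ≤ a)
    (h : a * ((t ^ 2 - 1) * (t ^ 6 - 1) * (t ^ 8 + t ^ 4 + 1)) ∣
      1 * (((t ^ 2) ^ 2 - 1) * ((t ^ 2) ^ 3 + 1) * ((t ^ 2) ^ 4 - 1))) : False := by
  have h2 := pw ht 2
  have h4 : 0 < t ^ 4 - t ^ 2 + 1 := by
    have : t ^ 4 = t ^ 2 * t ^ 2 := by ring
    nlinarith
  have h1 : a * ((t ^ 4 + t ^ 2 + 1) * (t ^ 4 + t ^ 2 + 1)) ∣
      (t ^ 2 + 1) * (t ^ 2 + 1) * ((t ^ 2 + 1) * (t ^ 4 + 1)) := by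
    apply cancel (C := (t ^ 2 - 1) * (t ^ 2 - 1) * (t ^ 4 - t ^ 2 + 1))
      (mul_ne_zero (mul_ne_zero (by omega) (by omega)) (by omega))
    convert h using 1 <;> ring
  have h3 : t ^ 4 + t ^ 2 + 1 ∣ t ^ 2 :=
    reduce (1 + t ^ 2 * (t ^ 2 + 1) * (t ^ 2 + 1)) _ (((dvd_mul_left _ _).trans (dvd_mul_left _ _)).trans h1) (by ring)
  exact tooBig h3 (by positivity) (by nlinarith)

theorem s_TD4G2 (ht : 2 ≤ t)
    (h : 1 * ((t ^ 2 - 1) * (t ^ 6 - 1) * (t ^ 8 + t ^ 4 + 1)) ∣ 1 * (((t ^ 2) ^ 2 - 1) * ((t ^ 2) ^ 6 - 1))) :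
    False := by
  have h2 := pw ht 2
  have h1 : t ^ 4 + t ^ 2 + 1 ∣ (t ^ 2 + 1) * (t ^ 2 + 1) := by
    apply cancel (C := (t ^ 2 - 1) * (t ^ 2 - 1) * (t ^ 8 + t ^ 4 + 1))
      (mul_ne_zero (mul_ne_zero (by omega) (by omega)) (by positivity))
    convert h using 1 <;> ring
  have h3 : t ^ 4 + t ^ 2 + 1 ∣ t ^ 2 := reduce 1 _ h1 (by ring)
  exact tooBig h3 (by positivity) (by nlinarith [pw1 ht (k := 4) (by norm_num)])

theorem s_TD4TF4 (ht : 2 ≤ t)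
    (h : 1 * ((t ^ 2 - 1) * (t ^ 6 - 1) * (t ^ 8 + t ^ 4 + 1)) ∣
      1 * ((t - 1) * (t ^ 3 + 1) * (t ^ 4 - 1) * (t ^ 6 + 1))) : False := by
  have h2 := pw ht 2
  have h3 := pw ht 3
  have h1 : (t ^ 2 + t + 1) * (t ^ 8 + t ^ 4 + 1) ∣ (t ^ 2 + 1) * (t ^ 6 + 1) := by
    apply cancel (C := (t ^ 2 - 1) * (t - 1) * (t ^ 3 + 1))
      (mul_ne_zero (mul_ne_zero (by omega) (by omega)) (by omega))
    convert h using 1 <;> ring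
  refine tooBig h1 (by positivity) ?_
  have h5 : t ^ 6 ≤ t ^ 8 := pwm ht (by norm_num)
  have h6 : 0 < t ^ 4 := by positivity
  have h7 : 0 < t ^ 6 := by positivity
  exact mul_lt_mul'' (by omega) (by omega) (by positivity) (by positivity)

theorem s_TF4L3 (ht : 2 ≤ t) (h3 : t % 3 = 2)
    (h : 3 * ((t - 1) * (t ^ 3 + 1) * (t ^ 4 - 1) * (t ^ 6 + 1)) ∣ 1 * (((t ^ 4) ^ 2 - 1) * ((t ^ 4) ^ 3 - 1))) :
    False := by
  have h4 := pw1 ht (k := 4) (by norm_num)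
  have h3' := pw1 ht (k := 3) (by norm_num)
  have h1 : 3 ∣ (t ^ 4 + 1) * (t ^ 2 + t + 1) := by
    apply cancel (C := (t - 1) * (t ^ 3 + 1) * (t ^ 4 - 1) * (t ^ 6 + 1))
      (mul_ne_zero (mul_ne_zero (mul_ne_zero (by omega) (by omega)) (by omega)) (by positivity))
    convert h using 1 <;> ring
  have h5 : ((t ^ 4 + 1) * (t ^ 2 + t + 1)) % 3 = 0 := Int.emod_eq_zero_of_dvd h1
  obtain ⟨s, hs⟩ : ∃ s, t = 3 * s + 2 := ⟨t / 3, by omega⟩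
  subst hs
  have h6 : ((3 * s + 2) ^ 4 + 1) * ((3 * s + 2) ^ 2 + (3 * s + 2) + 1) = 3 * (((3 * s + 2) ^ 4 + 1) *
      (3 * s ^ 2 + 5 * s + 2) + (27 * s ^ 4 + 72 * s ^ 3 + 72 * s ^ 2 + 32 * s + 5)) + 2 := by ring
  omega

theorem s_TF4C2 (ht : 2 ≤ t) (ha : 1 ≤ a)
    (h : a * ((t - 1) * (t ^ 3 + 1) * (t ^ 4 - 1) * (t ^ 6 + 1)) ∣ 1 * (((t ^ 3) ^ 2 - 1) * ((t ^ 3) ^ 4 - 1))) :
    False := by
  have h2 := pw1 ht (k := 2) (by norm_num)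
  have h3' := pw1 ht (k := 3) (by norm_num)
  have h1 : a * (t ^ 2 + 1) ∣ (t ^ 4 + t ^ 2 + 1) * (t ^ 2 + t + 1) := by
    apply cancel (C := (t - 1) * (t ^ 3 + 1) * (t ^ 2 - 1) * (t ^ 6 + 1))
      (mul_ne_zero (mul_ne_zero (mul_ne_zero (by omega) (by omega)) (by omega)) (by positivity))
    convert h using 1 <;> ring
  have h3 : t ^ 2 + 1 ∣ t := reduce (t ^ 2 * (t ^ 2 + t + 1) + 1) _ ((dvd_mul_left _ _).trans h1) (by ring)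
  exact tooBig h3 (by omega) (by nlinarith)

theorem s_TF4U4 (ht : 2 ≤ t) (ha : 1 ≤ a)
    (h : a * ((t - 1) * (t ^ 3 + 1) * (t ^ 4 - 1) * (t ^ 6 + 1)) ∣
      1 * (((t ^ 2) ^ 2 - 1) * ((t ^ 2) ^ 3 + 1) * ((t ^ 2) ^ 4 - 1))) : False := by
  have h4 := pw1 ht (k := 4) (by norm_num)
  have h1 : a * (t ^ 2 - t + 1) ∣ (t ^ 2 + 1) * (t ^ 4 + 1) := by
    apply cancel (C := (t - 1) * (t + 1) * (t ^ 4 - 1) * (t ^ 6 + 1))
      (mul_ne_zero (mul_ne_zero (mul_ne_zero (by omega) (by omega)) (by omega)) (by positivity))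
    convert h using 1 <;> ring
  have h3 : t ^ 2 - t + 1 ∣ 1 := reduce (t ^ 4 + t ^ 3 + t ^ 2) 1 ((dvd_mul_left _ _).trans h1) (by ring)
  exact tooBig h3 (by omega) (by nlinarith)

theorem s_U4L3 (ht : 2 ≤ t) (ha : 1 ≤ a) (hb : b ∣ 4)
    (h : a * ((t ^ 2 - 1) * (t ^ 3 + 1) * (t ^ 4 - 1)) ∣ b * (((t ^ 2) ^ 2 - 1) * ((t ^ 2) ^ 3 - 1))) : t = 3 := by
  have h4 := pw1 ht (k := 4) (by norm_num)
  have h3' := pw1 ht (k := 3) (by norm_num)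
  have h1 : a * (t + 1) ∣ b * (t ^ 2 + t + 1) := by
    apply cancel (C := (t - 1) * (t ^ 3 + 1) * (t ^ 4 - 1))
      (mul_ne_zero (mul_ne_zero (by omega) (by omega)) (by omega))
    convert h using 1 <;> ring
  have h2 : t + 1 ∣ b := reduce (b * t) b ((dvd_mul_left _ _).trans h1) (by ring)
  have h5 : t + 1 ∣ 4 := h2.trans hb
  have h6 := Int.le_of_dvd (by norm_num) h5
  have h7 : t ≤ 3 := by omega
  interval_cases t
  · norm_num at h5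
  · rfl

theorem s_G2L3 (ht : 2 ≤ t) (h : a * ((t ^ 2 - 1) * (t ^ 6 - 1)) ∣ 1 * (((t ^ 2) ^ 2 - 1) * ((t ^ 2) ^ 3 - 1))) :
    a ∣ t ^ 2 + 1 := by
  have h2 := pw1 ht (k := 2) (by norm_num)
  have h6 := pw1 ht (k := 6) (by norm_num)
  apply cancel (C := (t ^ 2 - 1) * (t ^ 6 - 1)) (mul_ne_zero (by omega) (by omega))
  convert h using 1 <;> ring

theorem s_D4F4 (ht : 2 ≤ t) (ha : 1 ≤ a) (hb : 1 ≤ b) (hb2 : b ≤ 4)
    (h : a * (((t ^ 2) ^ 4 - 1) * (((t ^ 2) ^ 2 - 1) * ((t ^ 2) ^ 4 - 1) * ((t ^ 2) ^ 6 - 1))) ∣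
      b * ((t ^ 2 - 1) * (t ^ 6 - 1) * (t ^ 8 - 1) * (t ^ 12 - 1))) : False := by
  have h2 := pw1 ht (k := 2) (by norm_num)
  have h8 := pw1 ht (k := 8) (by norm_num)
  have h6 := pw1 ht (k := 6) (by norm_num)
  have h12 := pw1 ht (k := 12) (by norm_num)
  have h1 : a * ((t ^ 8 - 1) * (t ^ 2 + 1)) ∣ b * (t ^ 6 - 1) := by
    apply cancel (C := (t ^ 2 - 1) * (t ^ 8 - 1) * (t ^ 12 - 1))
      (mul_ne_zero (mul_ne_zero (by omega) (by omega)) (by omega))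
    convert h using 1 <;> ring
  have h3 : t ^ 8 - 1 ∣ b * (t ^ 6 - 1) := ((dvd_mul_right _ _).trans (dvd_mul_left _ _)).trans h1
  refine tooBig h3 (by nlinarith) ?_
  have h2 : b * (t ^ 6 - 1) ≤ 4 * (t ^ 6 - 1) := mul_le_mul_of_nonneg_right hb2 (by omega)
  have h4 : 4 * t ^ 6 ≤ t ^ 8 := by
    have := pw ht 2
    have h5 : t ^ 8 = t ^ 2 * t ^ 6 := by ring
    nlinarith
  omega

theorem s_F4D4 (ht : 2 ≤ t) (ha : 1 ≤ a)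
    (h : a * ((t ^ 2 - 1) * (t ^ 6 - 1) * (t ^ 8 - 1) * (t ^ 12 - 1)) ∣
      1 * (((t ^ 2) ^ 4 - 1) * (((t ^ 2) ^ 2 - 1) * ((t ^ 2) ^ 4 - 1) * ((t ^ 2) ^ 6 - 1)))) : False := by
  have h2 := pw1 ht (k := 2) (by norm_num)
  have h8 := pw1 ht (k := 8) (by norm_num)
  have h12 := pw1 ht (k := 12) (by norm_num)
  have h1 : a * (t ^ 4 + t ^ 2 + 1) ∣ (t ^ 2 + 1) * ((t ^ 2 + 1) * (t ^ 4 + 1)) := by
    apply cancel (C := (t ^ 2 - 1) * (t ^ 2 - 1) * (t ^ 8 - 1) * (t ^ 12 - 1))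
      (mul_ne_zero (mul_ne_zero (mul_ne_zero (by omega) (by omega)) (by omega)) (by omega))
    convert h using 1 <;> ring
  have h3 : t ^ 4 + t ^ 2 + 1 ∣ t ^ 2 + 1 :=
    reduce ((t ^ 2 + 1) * t ^ 2) _ ((dvd_mul_left _ _).trans h1) (by ring)
  exact tooBig h3 (by positivity) (by nlinarith [pw1 ht (k := 4) (by norm_num)])

end

end Cfsg.Agent.H365.Near
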