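import Mathlib
import Cfsg.Agent.H902.SameD

/-!
# The exact orders of `q` modulo the primes dividing the order of a group of Lie type
-/

set_option autoImplicit false

namespace Cfsg.Agent.H365.Near

open Finset Cfsg.Agent.H902.Art

/-- the indices `e` for which the cyclotomic value `Φ_e(q)` occurs in the order of the group of shape `X` -/
def EX : Sh → ℕ → Prop
  | .L n, e => e ≤ n
  | .C n, e => (e % 2 = 0 ∧ e ≤ 2 * n) ∨ e ≤ n
  | .U n, e => (e % 4 = 0 ∧ e ≤ n) ∨ (e % 4 = 2 ∧ e ≤ 2 * n) ∨ 2 * e ≤ n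
  | .D n, e => (e % 2 = 0 ∧ e ≤ 2 * (n - 1)) ∨ e ≤ n
  | .DD n, e => (e % 2 = 0 ∧ e ≤ 2 * n) ∨ e ≤ n - 1
  | .G2, e => e ∣ 6
  | .F4, e => e ∣ 8 ∨ e ∣ 12
  | .E6, e => e ∣ 5 ∨ e ∣ 8 ∨ e ∣ 9 ∨ e ∣ 12
  | .E7, e => e ∣ 8 ∨ e ∣ 10 ∨ e ∣ 12 ∨ e ∣ 14 ∨ e ∣ 18
  | .E8, e => e ∣ 14 ∨ e ∣ 18 ∨ e ∣ 20 ∨ e ∣ 24 ∨ e ∣ 30
  | .TE6, e => e ∣ 8 ∨ e ∣ 12 ∨ e = 10 ∨ e = 18
  | .TD4, e => e ∣ 6 ∨ e = 12
  | .Sz, e => e = 1 ∨ e = 4
  | .Ree, e => e ∣ 2 ∨ e = 6
  | .TF4, e => e ∣ 4 ∨ e = 6 ∨ e = 12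

instance (X : Sh) (e : ℕ) : Decidable (EX X e) := by
  cases X <;> unfold EX <;> infer_instance

section

variable {q r : ℕ}

/-- divisibility of `q^k - 1` by the order -/
theorem dvd_sub_iff (hq : 1 ≤ q) (k : ℕ) : r ∣ q ^ k - 1 ↔ orderOf (q : ZMod r) ∣ k :=
  Cfsg.Agent.Lib.Zsigmondy.dvd_pow_sub_one_iff hq k

/-- the order for a divisor of `q^k + 1` -/
theorem ord_of_add (hq : 1 ≤ q) (hr : r.Prime) {k : ℕ} (hk : 1 ≤ k) (h : r ∣ q ^ k + 1) :
    orderOf (q : ZMod r) ∣ 2 * k ∧ (orderOf (q : ZMod r) = 1 ∨ ¬ orderOf (q : ZMod r) ∣ k) := by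
  have hk1 : 1 ≤ q ^ k := Nat.one_le_pow _ _ hq
  constructor
  · rw [← dvd_sub_iff hq]
    refine h.trans ⟨q ^ k - 1, ?_⟩
    have h2 : 1 ≤ q ^ (2 * k) := Nat.one_le_pow _ _ hq
    zify [hk1, h2]; ring
  · by_cases hd : orderOf (q : ZMod r) ∣ k
    · left
      rw [← dvd_sub_iff hq] at hd
      have h6 : r ∣ (q ^ k + 1) - (q ^ k - 1) := Nat.dvd_sub h hd
      have h7 : (q ^ k + 1) - (q ^ k - 1) = 2 := by omega
      rw [h7] at h6
      have h8 := (Nat.prime_dvd_prime_iff_eq hr Nat.prime_two).1 h6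
      subst h8
      have h9 : 2 ∣ q ^ 1 - 1 := by
        have h10 : ¬ 2 ∣ q := by
          intro h11
          have h13 : 2 ∣ q ^ k := dvd_pow h11 (by omega)
          omega
        rw [pow_one]; omega
      rw [dvd_sub_iff hq] at h9
      exact Nat.dvd_one.1 h9
    · exact Or.inr hd

theorem even_or {o j : ℕ} (h : o ∣ 2 * j) (hj : 1 ≤ j) : (o % 2 = 0 ∧ o ≤ 2 * j) ∨ o ≤ j := by
  rcases Nat.mod_two_eq_zero_or_one o with h0 | h1
  · exact Or.inl ⟨h0, Nat.le_of_dvd (by omega) h⟩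
  · right
    have h2 : Nat.Coprime o 2 := (Nat.coprime_two_right (n := o)).2 (Nat.odd_iff.2 h1)
    exact Nat.le_of_dvd (by omega) (h2.dvd_of_dvd_mul_left h)

theorem even_of_not {o j : ℕ} (h : o ∣ 2 * j) (hj : ¬ o ∣ j) : o % 2 = 0 := by
  rcases Nat.mod_two_eq_zero_or_one o with h0 | h1
  · exact h0
  · have h2 : Nat.Coprime o 2 := (Nat.coprime_two_right (n := o)).2 (Nat.odd_iff.2 h1)
    exact absurd (h2.dvd_of_dvd_mul_left h) hj

/-- for odd `k`, the order for a divisor of `q^k + 1` is `2 mod 4` (or one) -/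
theorem ord_of_add_odd (hq : 1 ≤ q) (hr : r.Prime) {k : ℕ} (hk : k % 2 = 1) (h : r ∣ q ^ k + 1) :
    orderOf (q : ZMod r) = 1 ∨ (orderOf (q : ZMod r) % 4 = 2 ∧ orderOf (q : ZMod r) ≤ 2 * k) := by
  obtain ⟨h1, h2⟩ := ord_of_add hq hr (by omega) h
  rcases h2 with h2 | h2
  · exact Or.inl h2
  · right
    refine ⟨?_, Nat.le_of_dvd (by omega) h1⟩
    have h3 := even_of_not h1 h2
    by_contra h4
    have h5 : (4 : ℕ) ∣ orderOf (q : ZMod r) := by omega
    have h6 := h5.trans h1
    omega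

end

section

variable {X : Sh} {p f M : ℕ}

/-- **The order of `q` modulo a prime divisor of the group order.** -/
theorem ord_mem (h : Real X p f M) {r : ℕ} (hr : r.Prime) (hrp : r ≠ p) (hd : r ∣ M) :
    EX X (orderOf ((p ^ f : ℕ) : ZMod r)) := by
  have hp := h.hp
  have hn := h.dvd_num_of_dvd hr hrp hd
  have hok := h.ok
  have hrq := h.not_dvd_q hr hrp
  have hq2 := h.q_ge
  generalize p ^ f = q at *
  have hq : 1 ≤ q := by omega
  have hs : ∀ k : ℕ, r ∣ q ^ k - 1 → orderOf (q : ZMod r) ∣ k := fun k => (dvd_sub_iff hq k).1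
  have h1 : r ∣ q - 1 → orderOf (q : ZMod r) ∣ 1 := by
    intro h2; apply hs; rwa [pow_one]
  have hprod : ∀ (n : ℕ) (g : ℕ → ℕ), r ∣ ∏ i ∈ range n, g i → ∃ i, i < n ∧ r ∣ g i := by
    intro n g hg
    obtain ⟨i, hi, hd⟩ := (hr.prime.dvd_finsetProd_iff g).1 hg
    exact ⟨i, mem_range.1 hi, hd⟩
  generalize ho : orderOf (q : ZMod r) = o at *
  cases X with
  | L n =>
    have hn2 : 2 ≤ n := hok.1
    obtain ⟨i, hi, h2⟩ := hprod _ _ hn
    have h3 := Nat.le_of_dvd (by omega) (hs _ h2)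
    show o ≤ n
    omega
  | C m =>
    have hm : 2 ≤ m := hok.1
    obtain ⟨i, hi, h2⟩ := hprod _ _ hn
    have h3 := even_or (hs _ h2) (by omega)
    show (o % 2 = 0 ∧ o ≤ 2 * m) ∨ o ≤ m
    omega
  | U n =>
    have hn3 : 3 ≤ n := hok.1
    obtain ⟨i, hi, h2⟩ := hprod _ _ hn
    show (o % 4 = 0 ∧ o ≤ n) ∨ (o % 4 = 2 ∧ o ≤ 2 * n) ∨ 2 * o ≤ n
    by_cases hei : Even i
    · rw [if_pos hei] at h2
      obtain ⟨j, hj⟩ := hei
      have h3 : o ∣ 2 * (j + 1) := by
        have := hs _ h2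
        rwa [show i + 2 = 2 * (j + 1) by omega] at this
      have h4 := even_or h3 (by omega)
      omega
    · rw [if_neg hei] at h2
      obtain ⟨j, hj⟩ := Nat.not_even_iff_odd.1 hei
      have h3 := ord_of_add_odd hq hr (k := i + 2) (by omega) h2
      rw [ho] at h3
      omega
  | D m =>
    have hm : 4 ≤ m := hok
    show (o % 2 = 0 ∧ o ≤ 2 * (m - 1)) ∨ o ≤ m
    rcases hr.dvd_mul.1 hn with h2 | h2
    · exact Or.inr (Nat.le_of_dvd (by omega) (hs _ h2))
    · obtain ⟨i, hi, h2⟩ := hprod _ _ h2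
      have h3 := even_or (hs _ h2) (by omega)
      omega
  | DD m =>
    have hm : 4 ≤ m := hok
    show (o % 2 = 0 ∧ o ≤ 2 * m) ∨ o ≤ m - 1
    rcases hr.dvd_mul.1 hn with h2 | h2
    · obtain ⟨h3, h4⟩ := ord_of_add hq hr (by omega) h2
      rw [ho] at h3 h4
      rcases h4 with h4 | h4
      · right; omega
      · left; exact ⟨even_of_not h3 h4, Nat.le_of_dvd (by omega) h3⟩
    · obtain ⟨i, hi, h2⟩ := hprod _ _ h2
      have h3 := even_or (hs _ h2) (by omega)
      omega
  | G2 =>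
    show o ∣ 6
    rcases hr.dvd_mul.1 hn with h2 | h2
    · exact (hs _ h2).trans (by norm_num)
    · exact hs _ h2
  | F4 =>
    show o ∣ 8 ∨ o ∣ 12
    rcases hr.dvd_mul.1 hn with hn | h2
    · rcases hr.dvd_mul.1 hn with hn | h2
      · rcases hr.dvd_mul.1 hn with h2 | h2
        · exact Or.inl ((hs _ h2).trans (by norm_num))
        · exact Or.inr ((hs _ h2).trans (by norm_num))
      · exact Or.inl (hs _ h2)
    · exact Or.inr (hs _ h2)
  | E6 =>
    show o ∣ 5 ∨ o ∣ 8 ∨ o ∣ 9 ∨ o ∣ 12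
    rcases hr.dvd_mul.1 hn with hn | h2
    · rcases hr.dvd_mul.1 hn with hn | h2
      · rcases hr.dvd_mul.1 hn with hn | h2
        · rcases hr.dvd_mul.1 hn with hn | h2
          · rcases hr.dvd_mul.1 hn with h2 | h2
            · exact Or.inr (Or.inl ((hs _ h2).trans (by norm_num)))
            · exact Or.inl (hs _ h2)
          · exact Or.inr (Or.inr (Or.inr ((hs _ h2).trans (by norm_num))))
        · exact Or.inr (Or.inl (hs _ h2))
      · exact Or.inr (Or.inr (Or.inl (hs _ h2)))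
    · exact Or.inr (Or.inr (Or.inr (hs _ h2)))
  | E7 =>
    show o ∣ 8 ∨ o ∣ 10 ∨ o ∣ 12 ∨ o ∣ 14 ∨ o ∣ 18
    rcases hr.dvd_mul.1 hn with hn | h2
    · rcases hr.dvd_mul.1 hn with hn | h2
      · rcases hr.dvd_mul.1 hn with hn | h2
        · rcases hr.dvd_mul.1 hn with hn | h2
          · rcases hr.dvd_mul.1 hn with hn | h2
            · rcases hr.dvd_mul.1 hn with h2 | h2
              · exact Or.inl ((hs _ h2).trans (by norm_num))
              · exact Or.inr (Or.inr (Or.inl ((hs _ h2).trans (by norm_num))))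
            · exact Or.inl (hs _ h2)
          · exact Or.inr (Or.inl (hs _ h2))
        · exact Or.inr (Or.inr (Or.inl (hs _ h2)))
      · exact Or.inr (Or.inr (Or.inr (Or.inl (hs _ h2))))
    · exact Or.inr (Or.inr (Or.inr (Or.inr (hs _ h2))))
  | E8 =>
    show o ∣ 14 ∨ o ∣ 18 ∨ o ∣ 20 ∨ o ∣ 24 ∨ o ∣ 30
    rcases hr.dvd_mul.1 hn with hn | h2
    · rcases hr.dvd_mul.1 hn with hn | h2
      · rcases hr.dvd_mul.1 hn with hn | h2
        · rcases hr.dvd_mul.1 hn with hn | h2
          · rcases hr.dvd_mul.1 hn with hn | h2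
            · rcases hr.dvd_mul.1 hn with hn | h2
              · rcases hr.dvd_mul.1 hn with h2 | h2
                · exact Or.inl ((hs _ h2).trans (by norm_num))
                · exact Or.inr (Or.inr (Or.inr (Or.inl ((hs _ h2).trans (by norm_num)))))
              · exact Or.inr (Or.inr (Or.inr (Or.inl ((hs _ h2).trans (by norm_num)))))
            · exact Or.inl (hs _ h2)
          · exact Or.inr (Or.inl (hs _ h2))
        · exact Or.inr (Or.inr (Or.inl (hs _ h2)))
      · exact Or.inr (Or.inr (Or.inr (Or.inl (hs _ h2))))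
    · exact Or.inr (Or.inr (Or.inr (Or.inr (hs _ h2))))
  | TE6 =>
    show o ∣ 8 ∨ o ∣ 12 ∨ o = 10 ∨ o = 18
    have ha : ∀ k : ℕ, 1 ≤ k → r ∣ q ^ k + 1 → o ∣ 2 * k ∧ (o = 1 ∨ ¬ o ∣ k) := by
      intro k hk h2
      have := ord_of_add hq hr hk h2
      rwa [ho] at this
    rcases hr.dvd_mul.1 hn with hn | h2
    · rcases hr.dvd_mul.1 hn with hn | h2
      · rcases hr.dvd_mul.1 hn with hn | h2
        · rcases hr.dvd_mul.1 hn with hn | h2
          · rcases hr.dvd_mul.1 hn with h2 | h2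
            · exact Or.inl ((hs _ h2).trans (by norm_num))
            · obtain ⟨h3, h4⟩ := ha 5 (by norm_num) h2
              have h5 := Nat.le_of_dvd (by norm_num) h3
              interval_cases o <;> omega
          · exact Or.inr (Or.inl ((hs _ h2).trans (by norm_num)))
        · exact Or.inl (hs _ h2)
      · obtain ⟨h3, h4⟩ := ha 9 (by norm_num) h2
        have h5 := Nat.le_of_dvd (by norm_num) h3
        interval_cases o <;> omega
    · exact Or.inr (Or.inl (hs _ h2))
  | TD4 =>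
    show o ∣ 6 ∨ o = 12
    rcases hr.dvd_mul.1 hn with hn | h2
    · rcases hr.dvd_mul.1 hn with h2 | h2
      · exact Or.inl ((hs _ h2).trans (by norm_num))
      · exact Or.inl (hs _ h2)
    · have h3 : o ∣ 12 := hs _ (h2.trans (dvd_twelve hq2))
      by_cases h4 : o ∣ 4
      · have h5 : r ∣ q ^ 4 - 1 := by
          rw [dvd_sub_iff hq, ho]; exact h4
        have h6 : r ∣ 3 := by
          have h7 : r ∣ (q ^ 4 - 1) * (q ^ 4 + 2) := h5.mul_right _
          have h8 : (q ^ 4 - 1) * (q ^ 4 + 2) + 3 = q ^ 8 + q ^ 4 + 1 := by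
            have : 1 ≤ q ^ 4 := Nat.one_le_pow _ _ hq
            zify [this]; ring
          rw [← h8] at h2
          exact (Nat.dvd_add_right h7).1 h2
        have h7 := (Nat.prime_dvd_prime_iff_eq hr Nat.prime_three).1 h6
        subst h7
        have h8 := Cfsg.Agent.Lib.Zsigmondy.orderOf_dvd_pred hr hrq
        rw [ho] at h8
        exact Or.inl (h8.trans (by norm_num))
      · have h5 := Nat.le_of_dvd (by norm_num) h3
        interval_cases o <;> omega
  | Sz =>
    show o = 1 ∨ o = 4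
    rcases hr.dvd_mul.1 hn with h2 | h2
    · exact Or.inl (Nat.dvd_one.1 (h1 h2))
    · have h3 := ord_of_add hq hr (by norm_num) h2
      rw [ho] at h3
      obtain ⟨h3, h4⟩ := h3
      have h5 := Nat.le_of_dvd (by norm_num) h3
      interval_cases o <;> omega
  | Ree =>
    show o ∣ 2 ∨ o = 6
    rcases hr.dvd_mul.1 hn with h2 | h2
    · exact Or.inl ((h1 h2).trans (by norm_num))
    · have h3 := ord_of_add hq hr (by norm_num) h2
      rw [ho] at h3
      obtain ⟨h3, h4⟩ := h3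
      have h5 := Nat.le_of_dvd (by norm_num) h3
      interval_cases o <;> omega
  | TF4 =>
    show o ∣ 4 ∨ o = 6 ∨ o = 12
    rcases hr.dvd_mul.1 hn with hn | h2
    · rcases hr.dvd_mul.1 hn with hn | h2
      · rcases hr.dvd_mul.1 hn with h2 | h2
        · exact Or.inl ((h1 h2).trans (by norm_num))
        · have h3 := ord_of_add hq hr (by norm_num) h2
          rw [ho] at h3
          obtain ⟨h3, h4⟩ := h3
          have h5 := Nat.le_of_dvd (by norm_num) h3
          interval_cases o <;> omega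
      · exact Or.inl (hs _ h2)
    · have h3 := ord_of_add hq hr (by norm_num) h2
      rw [ho] at h3
      obtain ⟨h3, h4⟩ := h3
      have h5 := Nat.le_of_dvd (by norm_num) h3
      interval_cases o <;> omega

/-- **Converse**: a prime for which the order of `q` is at least three and in the list divides the group order. -/
theorem dvd_of_mem (h : Real X p f M) {r e : ℕ} (hr : r.Prime) (ho : orderOf ((p ^ f : ℕ) : ZMod r) = e)
    (h3 : 3 ≤ e) (hE : EX X e) : r ∣ M := by
  have hp := h.hp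
  have hok := h.ok
  have hq2 := h.q_ge
  have main : ¬ r ∣ dd X (p ^ f) → r ∣ num X (p ^ f) → r ∣ M := fun h1 h2 => h.dvd_of_dvd_num hr h1 h2
  generalize p ^ f = q at *
  have hq : 1 ≤ q := by omega
  have hrq : ¬ r ∣ q := by
    intro hd
    have : Fact r.Prime := ⟨hr⟩
    have h1 : ((q : ℕ) : ZMod r) = 0 := (ZMod.natCast_eq_zero_iff q r).2 hd
    rw [h1] at ho
    have h2 : orderOf (0 : ZMod r) = 0 := by
      rw [orderOf_eq_zero_iff']
      intro n hn h5
      rw [zero_pow (by omega)] at h5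
      exact zero_ne_one h5
    omega
  have hpred := Cfsg.Agent.Lib.Zsigmondy.orderOf_dvd_pred hr hrq
  rw [ho] at hpred
  have hr4 : 4 ≤ r := by
    have h5 := Nat.le_of_dvd (by have := hr.two_le; omega) hpred
    omega
  have hs : ∀ k : ℕ, e ∣ k → r ∣ q ^ k - 1 := fun k hk => (dvd_sub_iff hq k).2 (by rw [ho]; exact hk)
  have hn : ∀ k : ℕ, r ∣ q ^ k - 1 → e ∣ k := fun k hk => by rw [← ho]; exact (dvd_sub_iff hq k).1 hk
  have ha : ∀ k : ℕ, 1 ≤ k → e = 2 * k → r ∣ q ^ k + 1 := by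
    intro k hk h1
    have h2 := hs (2 * k) (by rw [h1])
    have h4 : q ^ (2 * k) - 1 = (q ^ k - 1) * (q ^ k + 1) := by
      have hk1 : 1 ≤ q ^ k := Nat.one_le_pow _ _ hq
      have h2 : 1 ≤ q ^ (2 * k) := Nat.one_le_pow _ _ hq
      zify [hk1, h2]; ring
    rw [h4, hr.dvd_mul] at h2
    rcases h2 with h2 | h2
    · have h5 := Nat.le_of_dvd (by omega) (hn _ h2)
      omega
    · exact h2
  have h2' : ¬ r ∣ 2 := fun hd => by have := Nat.le_of_dvd (by norm_num) hd; omega
  have h3' : ¬ r ∣ 3 := fun hd => by have := Nat.le_of_dvd (by norm_num) hd; omega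
  have h4' : ¬ r ∣ 4 := fun hd => by
    have h7 : r ∣ 2 ^ 2 := hd
    exact h2' (hr.dvd_of_dvd_pow h7)
  have h11 : ¬ r ∣ 1 := fun hd => hr.one_lt.ne' (Nat.dvd_one.1 hd)
  have hprod : ∀ (n i : ℕ) (g : ℕ → ℕ), i < n → r ∣ g i → r ∣ ∏ i ∈ range n, g i := by
    intro n i g hi hg
    exact hg.trans (Finset.dvd_prod_of_mem g (mem_range.2 hi))
  apply main
  · intro hd
    cases X with
    | L n =>
      have h5 : r ∣ q ^ 1 - 1 := by rw [pow_one]; exact hd.trans (Nat.gcd_dvd_right _ _)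
      have := Nat.le_of_dvd (by norm_num) (hn _ h5)
      omega
    | C m => exact h2' (hd.trans (Nat.gcd_dvd_left _ _))
    | U n =>
      have h5 : r ∣ q + 1 := hd.trans (Nat.gcd_dvd_right _ _)
      have h6 : r ∣ q ^ 2 - 1 := by
        refine h5.trans ⟨q - 1, ?_⟩
        have h2 : 1 ≤ q ^ 2 := Nat.one_le_pow _ _ hq
        zify [hq, h2]; ring
      have := Nat.le_of_dvd (by norm_num) (hn _ h6)
      omega
    | D m => exact h4' (hd.trans (Nat.gcd_dvd_left _ _))
    | DD m => exact h4' (hd.trans (Nat.gcd_dvd_left _ _))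
    | G2 => exact h11 hd
    | F4 => exact h11 hd
    | E6 => exact h3' (hd.trans (Nat.gcd_dvd_left _ _))
    | E7 => exact h2' (hd.trans (Nat.gcd_dvd_left _ _))
    | E8 => exact h11 hd
    | TE6 => exact h3' (hd.trans (Nat.gcd_dvd_left _ _))
    | TD4 => exact h11 hd
    | Sz => exact h11 hd
    | Ree => exact h11 hd
    | TF4 => exact h11 hd
  · cases X with
    | L n =>
      have hE' : e ≤ n := hE
      refine hprod (n - 1) (e - 2) _ (by omega) ?_
      exact hs _ (by rw [show e - 2 + 2 = e by omega])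
    | C m =>
      have hE' : (e % 2 = 0 ∧ e ≤ 2 * m) ∨ e ≤ m := hE
      rcases hE' with ⟨h5, h6⟩ | h5
      · exact hprod m (e / 2 - 1) _ (by omega) (hs _ (by rw [show 2 * (e / 2 - 1 + 1) = e by omega]))
      · exact hprod m (e - 1) _ (by omega) (hs _ (by rw [show 2 * (e - 1 + 1) = e * 2 by omega]; exact dvd_mul_right _ _))
    | U n =>
      have hE' : (e % 4 = 0 ∧ e ≤ n) ∨ (e % 4 = 2 ∧ e ≤ 2 * n) ∨ 2 * e ≤ n := hE
      rcases hE' with ⟨h5, h6⟩ | ⟨h5, h6⟩ | h5
      · refine hprod (n - 1) (e - 2) _ (by omega) ?_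
        show r ∣ if Even (e - 2) then q ^ (e - 2 + 2) - 1 else q ^ (e - 2 + 2) + 1
        rw [if_pos (Nat.even_iff.2 (by omega))]
        exact hs _ (by rw [show e - 2 + 2 = e by omega])
      · refine hprod (n - 1) (e / 2 - 2) _ (by omega) ?_
        show r ∣ if Even (e / 2 - 2) then q ^ (e / 2 - 2 + 2) - 1 else q ^ (e / 2 - 2 + 2) + 1
        rw [if_neg (fun h7 => by have := Nat.even_iff.1 h7; omega)]
        exact ha _ (by omega) (by omega)
      · refine hprod (n - 1) (2 * e - 2) _ (by omega) ?_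
        show r ∣ if Even (2 * e - 2) then q ^ (2 * e - 2 + 2) - 1 else q ^ (2 * e - 2 + 2) + 1
        rw [if_pos (Nat.even_iff.2 (by omega))]
        exact hs _ (by rw [show 2 * e - 2 + 2 = e * 2 by omega]; exact dvd_mul_right _ _)
    | D m =>
      have hm : 4 ≤ m := hok
      have hE' : (e % 2 = 0 ∧ e ≤ 2 * (m - 1)) ∨ e ≤ m := hE
      show r ∣ (q ^ m - 1) * ∏ i ∈ range (m - 1), (q ^ (2 * (i + 1)) - 1)
      by_cases hem : e = m
      · exact (hs _ (by rw [hem])).mul_right _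
      · refine Dvd.dvd.mul_left ?_ _
        rcases hE' with ⟨h5, h6⟩ | h5
        · exact hprod (m - 1) (e / 2 - 1) _ (by omega) (hs _ (by rw [show 2 * (e / 2 - 1 + 1) = e by omega]))
        · exact hprod (m - 1) (e - 1) _ (by omega)
            (hs _ (by rw [show 2 * (e - 1 + 1) = e * 2 by omega]; exact dvd_mul_right _ _))
    | DD m =>
      have hm : 4 ≤ m := hok
      have hE' : (e % 2 = 0 ∧ e ≤ 2 * m) ∨ e ≤ m - 1 := hE
      show r ∣ (q ^ m + 1) * ∏ i ∈ range (m - 1), (q ^ (2 * (i + 1)) - 1)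
      by_cases hem : e = 2 * m
      · exact (ha _ (by omega) hem).mul_right _
      · refine Dvd.dvd.mul_left ?_ _
        rcases hE' with ⟨h5, h6⟩ | h5
        · exact hprod (m - 1) (e / 2 - 1) _ (by omega) (hs _ (by rw [show 2 * (e / 2 - 1 + 1) = e by omega]))
        · exact hprod (m - 1) (e - 1) _ (by omega)
            (hs _ (by rw [show 2 * (e - 1 + 1) = e * 2 by omega]; exact dvd_mul_right _ _))
    | G2 => exact (hs _ hE).mul_left _
    | F4 =>
      rcases hE with h5 | h5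
      · exact ((hs _ h5).mul_left _).mul_right _
      · exact (hs _ h5).mul_left _
    | E6 =>
      rcases hE with h5 | h5 | h5 | h5
      · exact (((((hs _ h5).mul_left _).mul_right _).mul_right _).mul_right _).mul_right _
      · exact (((hs _ h5).mul_left _).mul_right _).mul_right _
      · exact ((hs _ h5).mul_left _).mul_right _
      · exact (hs _ h5).mul_left _
    | E7 =>
      rcases hE with h5 | h5 | h5 | h5 | h5
      · exact (((((hs _ h5).mul_left _).mul_right _).mul_right _).mul_right _).mul_right _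
      · exact ((((hs _ h5).mul_left _).mul_right _).mul_right _).mul_right _
      · exact (((hs _ h5).mul_left _).mul_right _).mul_right _
      · exact ((hs _ h5).mul_left _).mul_right _
      · exact (hs _ h5).mul_left _
    | E8 =>
      rcases hE with h5 | h5 | h5 | h5 | h5
      · exact (((((hs _ h5).mul_left _).mul_right _).mul_right _).mul_right _).mul_right _
      · exact ((((hs _ h5).mul_left _).mul_right _).mul_right _).mul_right _
      · exact (((hs _ h5).mul_left _).mul_right _).mul_right _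
      · exact ((hs _ h5).mul_left _).mul_right _
      · exact (hs _ h5).mul_left _
    | TE6 =>
      rcases hE with h5 | h5 | h5 | h5
      · exact (((hs _ h5).mul_left _).mul_right _).mul_right _
      · exact (hs _ h5).mul_left _
      · exact (((((ha 5 (by norm_num) h5).mul_left _).mul_right _).mul_right _).mul_right _).mul_right _
      · exact ((ha 9 (by norm_num) h5).mul_left _).mul_right _
    | TD4 =>
      rcases hE with h5 | h5
      · exact ((hs _ h5).mul_left _).mul_right _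
      · have h1 := hs 12 (by rw [h5])
        have h2 : q ^ 12 - 1 = (q ^ 4 - 1) * (q ^ 8 + q ^ 4 + 1) := by
          have g1 : 1 ≤ q ^ 4 := Nat.one_le_pow _ _ hq
          have g2 : 1 ≤ q ^ 12 := Nat.one_le_pow _ _ hq
          zify [g1, g2]; ring
        rw [h2, hr.dvd_mul] at h1
        rcases h1 with h1 | h1
        · have := Nat.le_of_dvd (by norm_num) (hn _ h1)
          omega
        · exact h1.mul_left _
    | Sz =>
      rcases hE with h5 | h5
      · omega
      · exact (ha 2 (by norm_num) h5).mul_left _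
    | Ree =>
      rcases hE with h5 | h5
      · have := Nat.le_of_dvd (by norm_num) h5
        omega
      · exact (ha 3 (by norm_num) h5).mul_left _
    | TF4 =>
      rcases hE with h5 | h5 | h5
      · exact ((hs _ h5).mul_left _).mul_right _
      · exact (((ha 3 (by norm_num) h5).mul_left _).mul_right _).mul_right _
      · exact (ha 6 (by norm_num) h5).mul_left _

end

end Cfsg.Agent.H365.Near
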