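import Mathlib
import Cfsg.Agent.H365.NearOrd

/-!
# Two orders of groups of Lie type in the same characteristic, one dividing the other
-/

set_option autoImplicit false

namespace Cfsg.Agent.H365.Near

open Finset Cfsg.Agent.H902.Art Cfsg.Agent.Lib.Zsigmondy

section

variable {X Y : Sh} {p g f M' M : ℕ}

theorem order_pow {p g r : ℕ} (hg : 1 ≤ g) : orderOf ((p ^ g : ℕ) : ZMod r) =
    orderOf (p : ZMod r) / Nat.gcd (orderOf (p : ZMod r)) g := by
  rw [Nat.cast_pow, orderOf_pow' _ (by omega)]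

/-- **Transfer of primitive prime divisors.** -/
theorem transfer (hX : Real X p g M') (hY : Real Y p f M) (hdvd : M' ∣ M) {n : ℕ} (hn : 3 ≤ n)
    (h6 : ¬ (p = 2 ∧ n = 6)) (he : 3 ≤ n / Nat.gcd n g) (hE : EX X (n / Nat.gcd n g)) : EX Y (n / Nat.gcd n f) := by
  obtain ⟨r, hr, ho⟩ := exists_prime_orderOf hX.hp.two_le (show 2 ≤ n by omega) (fun h => by omega) h6
  have hrp : r ≠ p := ne_of_order hr (show 1 ≤ n by omega) ho
  have h1 : orderOf ((p ^ g : ℕ) : ZMod r) = n / Nat.gcd n g := by rw [order_pow hX.hf, ho]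
  have h2 : r ∣ M' := dvd_of_mem hX hr h1 he hE
  have h3 := ord_mem hY hr hrp (h2.trans hdvd)
  rwa [order_pow hY.hf, ho] at h3

theorem crit (hX : Real X p g M') (hY : Real Y p f M) (hdvd : M' ∣ M) (hD : g * DM X = f * DM Y) {e : ℕ}
    (h3 : 3 ≤ e) (hE : EX X e) (h6 : ¬ (p = 2 ∧ g * e = 6)) : EX Y (DM Y * e / Nat.gcd (DM Y * e) (DM X)) := by
  have hg := hX.hf
  have hf := hY.hf
  have hDX := (DM_ge hX).1
  have hn : 3 ≤ g * e := by nlinarith
  have h1 : g * e / Nat.gcd (g * e) g = e := by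
    rw [Nat.gcd_comm, Nat.gcd_eq_left (dvd_mul_right g e)]
    exact Nat.mul_div_cancel_left e (by omega)
  have h2 := transfer hX hY hdvd hn h6 (by rw [h1]; exact h3) (by rw [h1]; exact hE)
  have h4 : g * e / Nat.gcd (g * e) f = DM Y * e / Nat.gcd (DM Y * e) (DM X) := by
    have h5 : g * e / Nat.gcd (g * e) f = (g * e * DM X) / (Nat.gcd (g * e) f * DM X) :=
      (Nat.mul_div_mul_right _ _ (by omega)).symm
    have h7 : g * e * DM X = f * (DM Y * e) := by
      calc g * e * DM X = (g * DM X) * e := by ring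
        _ = f * DM Y * e := by rw [hD]
        _ = f * (DM Y * e) := by ring
    have h8 : Nat.gcd (g * e) f * DM X = f * Nat.gcd (DM Y * e) (DM X) := by
      rw [← Nat.gcd_mul_right, h7, ← Nat.gcd_mul_left]
    rw [h5, h7, h8]
    exact Nat.mul_div_mul_left _ _ (by omega)
  rwa [h4] at h2

/-- the decidable criterion that excludes a pair of concrete shapes -/
def KK (X Y : Sh) : Prop := ∃ e ∈ Finset.range 31, 3 ≤ e ∧ EX X e ∧
  ¬ EX Y (DM Y * e / Nat.gcd (DM Y * e) (DM X)) ∧ (e = 3 → 3 ≤ DM Y / Nat.gcd (DM X) (DM Y)) ∧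
  (e = 6 → 2 ≤ DM Y / Nat.gcd (DM X) (DM Y))

instance (X Y : Sh) : Decidable (KK X Y) := by unfold KK; infer_instance

theorem KK_false (hX : Real X p g M') (hY : Real Y p f M) (hdvd : M' ∣ M) (hD : g * DM X = f * DM Y)
    (h : KK X Y) : False := by
  obtain ⟨e, -, h3, hE, hn, h4, h5⟩ := h
  apply hn
  refine crit hX hY hdvd hD h3 hE ?_
  rintro ⟨-, h6⟩
  have hg := hX.hf
  have hDX := (DM_ge hX).1
  have hb : DM Y / Nat.gcd (DM X) (DM Y) ∣ g := by
    have hc : 0 < Nat.gcd (DM X) (DM Y) := Nat.gcd_pos_of_pos_left _ (by omega)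
    have hcop := Nat.coprime_div_gcd_div_gcd hc
    apply hcop.symm.dvd_of_dvd_mul_right
    refine ⟨f, ?_⟩
    obtain ⟨a, ha⟩ := Nat.gcd_dvd_left (DM X) (DM Y)
    obtain ⟨b, hb⟩ := Nat.gcd_dvd_right (DM X) (DM Y)
    have ha' : DM X / Nat.gcd (DM X) (DM Y) = a := Nat.div_eq_of_eq_mul_right hc ha
    have hb' : DM Y / Nat.gcd (DM X) (DM Y) = b := Nat.div_eq_of_eq_mul_right hc hb
    rw [ha', hb']
    apply Nat.eq_of_mul_eq_mul_left hc
    calc Nat.gcd (DM X) (DM Y) * (g * a) = g * (Nat.gcd (DM X) (DM Y) * a) := by ring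
      _ = g * DM X := by rw [← ha]
      _ = f * DM Y := hD
      _ = f * (Nat.gcd (DM X) (DM Y) * b) := by rw [← hb]
      _ = Nat.gcd (DM X) (DM Y) * (b * f) := by ring
  have hle := Nat.le_of_dvd (by omega) hb
  have he6 : e ∣ 6 := ⟨g, by rw [← h6]; ring⟩
  have he7 := Nat.le_of_dvd (by norm_num) he6
  interval_cases e
  · have := h4 rfl; omega
  · omega
  · omega
  · have := h5 rfl; omega

/-- the possible shapes for a given value of `kap` -/
theorem fam (h : Real X p g M') : X = .L (kap X / 2 + 1) ∨ X = .C (kap X / 2) ∨ X = .U (kap X) ∨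
    X = .U (kap X + 1) ∨ X = .D (kap X / 2) ∨ X = .DD (kap X / 2 + 1) ∨ X = .G2 ∨ X = .F4 ∨ X = .E6 ∨ X = .E7 ∨
    X = .E8 ∨ X = .TE6 ∨ X = .TD4 ∨ X = .Sz ∨ X = .Ree ∨ X = .TF4 := by
  have hok := h.ok
  cases X with
  | L n =>
    have hn : 2 ≤ n := hok.1
    left; congr 1; show n = 2 * (n - 1) / 2 + 1; omega
  | C n => right; left; congr 1; show n = 2 * n / 2; omega
  | U n =>
    have hn : 3 ≤ n := hok.1
    have hK : kap (.U n) = if Even n then n else n - 1 := rfl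
    by_cases he : Even n
    · rw [if_pos he] at hK
      right; right; left; rw [hK]
    · rw [if_neg he] at hK
      right; right; right; left; congr 1; omega
  | D n => right; right; right; right; left; congr 1; show n = 2 * n / 2; omega
  | DD n =>
    have hn : 4 ≤ n := hok
    right; right; right; right; right; left; congr 1; show n = 2 * (n - 1) / 2 + 1; omega
  | G2 => simp
  | F4 => simp
  | E6 => simp
  | E7 => simp
  | E8 => simp
  | TE6 => simp
  | TD4 => simp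
  | Sz => simp
  | Ree => simp
  | TF4 => simp

theorem EX_le (h : Real X p g M') (hA : DM X < 2 * BM X) {e : ℕ} (hE : EX X e) : e = DM X ∨ e ≤ BM X := by
  have hok := h.ok
  cases X with
  | L n => 
    have hE' : e ≤ n := hE
    show e = n ∨ e ≤ n - 1
    omega
  | C n =>
    have hn : 2 ≤ n := hok.1
    have hE' : (e % 2 = 0 ∧ e ≤ 2 * n) ∨ e ≤ n := hE
    show e = 2 * n ∨ e ≤ 2 * (n - 1)
    omega
  | U n =>
    have hn : 3 ≤ n := hok.1
    have hE' : (e % 4 = 0 ∧ e ≤ n) ∨ (e % 4 = 2 ∧ e ≤ 2 * n) ∨ 2 * e ≤ n := hE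
    have hDM : DM (.U n) = if Even n then 2 * (n - 1) else 2 * n := rfl
    have hBM : BM (.U n) = if Even n then (if n = 4 then 4 else 2 * (n - 3)) else 2 * (n - 2) := rfl
    rw [hDM, hBM]
    by_cases he : Even n
    · rw [if_pos he, if_pos he]
      have h2 := Nat.even_iff.1 he
      split_ifs with h4 <;> omega
    · rw [if_neg he, if_neg he]
      have h2 := Nat.odd_iff.1 (Nat.not_even_iff_odd.1 he)
      omega
  | D n =>
    have hn : 4 ≤ n := hok
    have hE' : (e % 2 = 0 ∧ e ≤ 2 * (n - 1)) ∨ e ≤ n := hE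
    show e = 2 * (n - 1) ∨ e ≤ 2 * (n - 2)
    omega
  | DD n =>
    have hn : 4 ≤ n := hok
    have hE' : (e % 2 = 0 ∧ e ≤ 2 * n) ∨ e ≤ n - 1 := hE
    show e = 2 * n ∨ e ≤ 2 * (n - 1)
    omega
  | F4 =>
    have hE' : e ∣ 8 ∨ e ∣ 12 := hE
    show e = 12 ∨ e ≤ 8
    have h1 : e ≤ 12 := by
      rcases hE' with h | h <;> have := Nat.le_of_dvd (by norm_num) h <;> omega
    interval_cases e <;> omega
  | E6 =>
    have hE' : e ∣ 5 ∨ e ∣ 8 ∨ e ∣ 9 ∨ e ∣ 12 := hE
    show e = 12 ∨ e ≤ 9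
    have h1 : e ≤ 12 := by
      rcases hE' with h | h | h | h <;> have := Nat.le_of_dvd (by norm_num) h <;> omega
    interval_cases e <;> omega
  | E7 =>
    have hE' : e ∣ 8 ∨ e ∣ 10 ∨ e ∣ 12 ∨ e ∣ 14 ∨ e ∣ 18 := hE
    show e = 18 ∨ e ≤ 14
    have h1 : e ≤ 18 := by
      rcases hE' with h | h | h | h | h <;> have := Nat.le_of_dvd (by norm_num) h <;> omega
    interval_cases e <;> omega
  | E8 =>
    have hE' : e ∣ 14 ∨ e ∣ 18 ∨ e ∣ 20 ∨ e ∣ 24 ∨ e ∣ 30 := hE
    show e = 30 ∨ e ≤ 24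
    have h1 : e ≤ 30 := by
      rcases hE' with h | h | h | h | h <;> have := Nat.le_of_dvd (by norm_num) h <;> omega
    interval_cases e <;> omega
  | TE6 =>
    have hE' : e ∣ 8 ∨ e ∣ 12 ∨ e = 10 ∨ e = 18 := hE
    show e = 18 ∨ e ≤ 12
    rcases hE' with h | h | h | h
    · have := Nat.le_of_dvd (by norm_num) h; omega
    · have := Nat.le_of_dvd (by norm_num) h; omega
    · omega
    · omega
  | G2 => exact absurd hA (by decide)
  | TD4 => exact absurd hA (by decide)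
  | Sz => exact absurd hA (by decide)
  | Ree => exact absurd hA (by decide)
  | TF4 => exact absurd hA (by decide)

/-- `DM` occurs, and so does `BM` if it is large -/
theorem EX_DM (h : Real X p g M') : EX X (DM X) := by
  have hok := h.ok
  cases X with
  | L n => show n ≤ n; omega
  | C n => show (2 * n % 2 = 0 ∧ 2 * n ≤ 2 * n) ∨ 2 * n ≤ n; omega
  | U n =>
    have hn : 3 ≤ n := hok.1
    have hDM : DM (.U n) = if Even n then 2 * (n - 1) else 2 * n := rfl
    rw [hDM]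
    by_cases he : Even n
    · rw [if_pos he]
      have h2 := Nat.even_iff.1 he
      show (2 * (n - 1) % 4 = 0 ∧ 2 * (n - 1) ≤ n) ∨ (2 * (n - 1) % 4 = 2 ∧ 2 * (n - 1) ≤ 2 * n) ∨ 2 * (2 * (n - 1)) ≤ n
      omega
    · rw [if_neg he]
      have h2 := Nat.odd_iff.1 (Nat.not_even_iff_odd.1 he)
      show (2 * n % 4 = 0 ∧ 2 * n ≤ n) ∨ (2 * n % 4 = 2 ∧ 2 * n ≤ 2 * n) ∨ 2 * (2 * n) ≤ n
      omega
  | D n =>
    have hn : 4 ≤ n := hok
    show (2 * (n - 1) % 2 = 0 ∧ 2 * (n - 1) ≤ 2 * (n - 1)) ∨ 2 * (n - 1) ≤ n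
    omega
  | DD n => show (2 * n % 2 = 0 ∧ 2 * n ≤ 2 * n) ∨ 2 * n ≤ n - 1; omega
  | G2 => decide
  | F4 => decide
  | E6 => decide
  | E7 => decide
  | E8 => decide
  | TE6 => decide
  | TD4 => decide
  | Sz => decide
  | Ree => decide
  | TF4 => decide

theorem EX_BM (h : Real X p g M') (hA : DM X < 2 * BM X) : EX X (BM X) := by
  have hok := h.ok
  cases X with
  | L n => show n - 1 ≤ n; omega
  | C n =>
    have hn : 2 ≤ n := hok.1
    show (2 * (n - 1) % 2 = 0 ∧ 2 * (n - 1) ≤ 2 * n) ∨ 2 * (n - 1) ≤ n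
    omega
  | U n =>
    have hn : 3 ≤ n := hok.1
    have hBM : BM (.U n) = if Even n then (if n = 4 then 4 else 2 * (n - 3)) else 2 * (n - 2) := rfl
    rw [hBM]
    by_cases he : Even n
    · rw [if_pos he]
      have h2 := Nat.even_iff.1 he
      split_ifs with h4
      · subst h4; decide
      · show (2 * (n - 3) % 4 = 0 ∧ 2 * (n - 3) ≤ n) ∨ (2 * (n - 3) % 4 = 2 ∧ 2 * (n - 3) ≤ 2 * n) ∨
          2 * (2 * (n - 3)) ≤ n
        omega
    · rw [if_neg he]
      have h2 := Nat.odd_iff.1 (Nat.not_even_iff_odd.1 he)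
      show (2 * (n - 2) % 4 = 0 ∧ 2 * (n - 2) ≤ n) ∨ (2 * (n - 2) % 4 = 2 ∧ 2 * (n - 2) ≤ 2 * n) ∨
        2 * (2 * (n - 2)) ≤ n
      omega
  | D n =>
    have hn : 4 ≤ n := hok
    show (2 * (n - 2) % 2 = 0 ∧ 2 * (n - 2) ≤ 2 * (n - 1)) ∨ 2 * (n - 2) ≤ n
    omega
  | DD n => show (2 * (n - 1) % 2 = 0 ∧ 2 * (n - 1) ≤ 2 * n) ∨ 2 * (n - 1) ≤ n - 1; omega
  | F4 => decide
  | E6 => decide
  | E7 => decide
  | E8 => decide
  | TE6 => decide
  | G2 => exact absurd hA (by decide)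
  | TD4 => exact absurd hA (by decide)
  | Sz => exact absurd hA (by decide)
  | Ree => exact absurd hA (by decide)
  | TF4 => exact absurd hA (by decide)

/-- the main numerical consequence -/
theorem ratio (hX : Real X p g M') (hY : Real Y p f M) (hdvd : M' ∣ M) (hD : g * DM X = f * DM Y)
    (hA : DM X < 2 * BM X) (hA' : DM Y < 2 * BM Y) (h3 : 3 ≤ BM X) (h6 : ¬ (p = 2 ∧ g * BM X = 6)) :
    ∃ w, DM Y - BM Y ≤ w ∧ w * DM X = DM Y * (DM X - BM X) := by
  have h1 := crit hX hY hdvd hD h3 (EX_BM hX hA) h6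
  have hDX := (DM_ge hX).1
  have hDY := (DM_ge hY).1
  have hBX := BM_lt hX
  have hBY := BM_lt hY
  set c := Nat.gcd (DM Y * BM X) (DM X) with hc
  have hcX : c ∣ DM X := Nat.gcd_dvd_right _ _
  have hcY : c ∣ DM Y * BM X := Nat.gcd_dvd_left _ _
  have hc0 : 0 < c := Nat.gcd_pos_of_pos_right _ (by omega)
  obtain ⟨T, hT⟩ := hcY
  have hT' : DM Y * BM X / c = T := Nat.div_eq_of_eq_mul_right hc0 hT
  rw [hT'] at h1
  have h2 := EX_le hY hA' h1
  have h4 : T ≤ DM Y := by omega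
  have h5 : BM X ≤ c := by
    have h7 : DM Y * BM X ≤ DM Y * c := by
      rw [hT, mul_comm]; exact Nat.mul_le_mul_right _ h4
    exact Nat.le_of_mul_le_mul_left h7 (by omega)
  have h8 : c = DM X := by
    obtain ⟨a, ha⟩ := hcX
    have h9 : a < 2 := by
      by_contra h10
      have h11 : c * 2 ≤ c * a := Nat.mul_le_mul_left _ (by omega)
      omega
    have h12 : a ≠ 0 := by rintro rfl; omega
    have h13 : a = 1 := by omega
    rw [h13] at ha; omega
  rw [h8] at hT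
  have hTne : T ≠ DM Y := by
    intro h9
    rw [h9, mul_comm] at hT
    have := Nat.eq_of_mul_eq_mul_right (by omega) hT
    omega
  refine ⟨DM Y - T, by omega, ?_⟩
  have h10 : DM X * T ≤ DM X * DM Y := Nat.mul_le_mul_left _ h4
  rw [Nat.sub_mul, Nat.mul_sub, hT, mul_comm T]

end

/-- the pairs (besides `L`/`DD`) that pass the numerical test -/
def lst : List (Sh × Sh) :=
  [(.L 3, .U 4), (.U 4, .L 3), (.D 4, .U 9), (.D 4, .F4), (.D 4, .TE6), (.D 5, .DD 6), (.D 7, .U 15), (.F4, .U 9),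
   (.F4, .D 4), (.F4, .TE6), (.E6, .C 6), (.E8, .U 16), (.TE6, .U 9), (.TE6, .D 4), (.TE6, .F4)]

theorem typA_bound {X : Sh} {D d k : ℕ} (h : TypA X D d k) : k + 2 ≤ 2 * D ∧ D ≤ 2 * k + 2 ∧ d ≤ 6 ∧ 2 ≤ D := by
  cases h <;> omega

set_option maxHeartbeats 8000000 in
theorem pairsN {X Y : Sh} {D d k D' d' k' w : ℕ} (hX : TypA X D d k) (hY : TypA Y D' d' k') (hk : k = k')
    (hw : d' ≤ w) (hD : w * D = D' * d) :
    X = Y ∨ (∃ n, X = .L n ∧ Y = .DD n) ∨ (∃ n, X = .DD n ∧ Y = .L n) ∨ (X, Y) ∈ lst := by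
  have h1 := typA_bound hX
  have h2 := typA_bound hY
  have hw24 : w ≤ 24 := by
    have h3 : D' * d ≤ D' * 6 := Nat.mul_le_mul_left _ (by omega)
    have h4 : w * D ≤ 24 * D := by omega
    exact Nat.le_of_mul_le_mul_right h4 (by omega)
  cases hX <;> cases hY <;> interval_cases w <;>
    first
      | (exfalso; omega)
      | exact Or.inl rfl
      | (left; congr 1; omega)
      | (left; congr 1; done)
      | (right; left; exact ⟨_, rfl, by congr 1; omega⟩)
      | (right; right; left; exact ⟨_, rfl, by congr 1; omega⟩)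
      | (right; right; right; simp [lst]; done)
      | (right; right; right; simp [lst]; omega)

end Cfsg.Agent.H365.Near
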