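import Mathlib
import Cfsg.Agent.H365.NearPair
import Cfsg.Agent.H365.NearArith

/-!
# One order of a group of Lie type dividing another one in the same characteristic
-/

set_option autoImplicit false

namespace Cfsg.Agent.H365.Near

open Finset Cfsg.Agent.H902.Art

/-- `num` over the integers -/
def numZ : Sh → ℤ → ℤ
  | .L n, q => ∏ i ∈ range (n - 1), (q ^ (i + 2) - 1)
  | .C m, q => ∏ i ∈ range m, (q ^ (2 * (i + 1)) - 1)
  | .U n, q => ∏ i ∈ range (n - 1), (if Even i then q ^ (i + 2) - 1 else q ^ (i + 2) + 1)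
  | .D m, q => (q ^ m - 1) * ∏ i ∈ range (m - 1), (q ^ (2 * (i + 1)) - 1)
  | .DD m, q => (q ^ m + 1) * ∏ i ∈ range (m - 1), (q ^ (2 * (i + 1)) - 1)
  | .G2, q => (q ^ 2 - 1) * (q ^ 6 - 1)
  | .F4, q => (q ^ 2 - 1) * (q ^ 6 - 1) * (q ^ 8 - 1) * (q ^ 12 - 1)
  | .E6, q => (q ^ 2 - 1) * (q ^ 5 - 1) * (q ^ 6 - 1) * (q ^ 8 - 1) * (q ^ 9 - 1) * (q ^ 12 - 1)
  | .E7, q => (q ^ 2 - 1) * (q ^ 6 - 1) * (q ^ 8 - 1) * (q ^ 10 - 1) * (q ^ 12 - 1) * (q ^ 14 - 1) * (q ^ 18 - 1)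
  | .E8, q => (q ^ 2 - 1) * (q ^ 8 - 1) * (q ^ 12 - 1) * (q ^ 14 - 1) * (q ^ 18 - 1) * (q ^ 20 - 1) * (q ^ 24 - 1) *
      (q ^ 30 - 1)
  | .TE6, q => (q ^ 2 - 1) * (q ^ 5 + 1) * (q ^ 6 - 1) * (q ^ 8 - 1) * (q ^ 9 + 1) * (q ^ 12 - 1)
  | .TD4, q => (q ^ 2 - 1) * (q ^ 6 - 1) * (q ^ 8 + q ^ 4 + 1)
  | .Sz, q => (q - 1) * (q ^ 2 + 1)
  | .Ree, q => (q - 1) * (q ^ 3 + 1)
  | .TF4, q => (q - 1) * (q ^ 3 + 1) * (q ^ 4 - 1) * (q ^ 6 + 1)

theorem cast_num {q : ℕ} (hq : 1 ≤ q) (X : Sh) : ((num X q : ℕ) : ℤ) = numZ X (q : ℤ) := by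
  have g : ∀ k : ℕ, ((q ^ k - 1 : ℕ) : ℤ) = (q : ℤ) ^ k - 1 := by
    intro k
    rw [Nat.cast_sub (Nat.one_le_pow _ _ hq)]; push_cast; ring
  have g1 : ((q - 1 : ℕ) : ℤ) = (q : ℤ) - 1 := by rw [Nat.cast_sub hq]; simp
  cases X <;> unfold num numZ <;> push_cast [g, g1] <;> try rfl
  all_goals
    apply Finset.prod_congr rfl
    intro i _
    split_ifs
    · exact g _
    · push_cast; ring

section

variable {X Y : Sh} {p f g M M' : ℕ}

theorem exps (hX : Real X p g M') (hY : Real Y p f M) (hD : g * DM X = f * DM Y) (hk : kap X = kap Y) :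
    g * NN X = f * NN Y := by
  have h1 := four_NN hX
  have h2 := four_NN hY
  have h3 : 4 * (g * NN X) = 4 * (f * NN Y) := by
    calc 4 * (g * NN X) = g * (4 * NN X) := by ring
      _ = (g * DM X) * kap X := by rw [h1]; ring
      _ = (f * DM Y) * kap Y := by rw [hD, hk]
      _ = f * (4 * NN Y) := by rw [h2]; ring
      _ = 4 * (f * NN Y) := by ring
  omega

theorem cross_dvd (hX : Real X p g M') (hY : Real Y p f M) (hdvd : M' ∣ M) (hN : g * NN X = f * NN Y) :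
    dd Y (p ^ f) * num X (p ^ g) ∣ dd X (p ^ g) * num Y (p ^ f) := by
  have hpos : 0 < (p ^ g) ^ NN X := pow_pos (by have := hX.q_ge; omega) _
  have h3 : (p ^ g) ^ NN X = (p ^ f) ^ NN Y := by rw [← pow_mul, ← pow_mul, hN]
  apply Nat.dvd_of_mul_dvd_mul_left hpos
  have h1 : (p ^ g) ^ NN X * (dd Y (p ^ f) * num X (p ^ g)) = dd Y (p ^ f) * (dd X (p ^ g) * M') := by
    rw [hX.eq]; ring
  have h2 : (p ^ g) ^ NN X * (dd X (p ^ g) * num Y (p ^ f)) = dd X (p ^ g) * (dd Y (p ^ f) * M) := by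
    rw [hY.eq, h3]; ring
  rw [h1, h2]
  obtain ⟨c, rfl⟩ := hdvd
  exact ⟨c, by ring⟩

theorem cross_dvd_Z (hX : Real X p g M') (hY : Real Y p f M) (hdvd : M' ∣ M) (hN : g * NN X = f * NN Y) :
    ((dd Y (p ^ f) : ℕ) : ℤ) * numZ X ((p : ℤ) ^ g) ∣ ((dd X (p ^ g) : ℕ) : ℤ) * numZ Y ((p : ℤ) ^ f) := by
  have h := Int.natCast_dvd_natCast.2 (cross_dvd hX hY hdvd hN)
  have h1 : 1 ≤ p ^ g := by have := hX.q_ge; omega
  have h2 : 1 ≤ p ^ f := by have := hY.q_ge; omega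
  rw [Nat.cast_mul, Nat.cast_mul, cast_num h1, cast_num h2, Nat.cast_pow, Nat.cast_pow] at h
  exact h


theorem fam2 (h : Real X p g M') (hk : kap X = 2) : X = .L 2 ∨ X = .U 3 ∨ X = .Sz ∨ X = .Ree := by
  have hok := h.ok
  have h1 := fam h
  rw [hk] at h1
  rcases h1 with h1 | h1 | h1 | h1 | h1 | h1 | h1 | h1 | h1 | h1 | h1 | h1 | h1 | h1 | h1 | h1
  · left; exact h1
  · subst h1; exact absurd hok.1 (by decide)
  · subst h1; exact absurd hok.1 (by decide)
  · right; left; exact h1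
  · subst h1; exact absurd (show 4 ≤ 1 from hok) (by decide)
  · subst h1; exact absurd (show 4 ≤ 2 from hok) (by decide)
  · rw [h1] at hk; exact absurd hk (by decide)
  · rw [h1] at hk; exact absurd hk (by decide)
  · rw [h1] at hk; exact absurd hk (by decide)
  · rw [h1] at hk; exact absurd hk (by decide)
  · rw [h1] at hk; exact absurd hk (by decide)
  · rw [h1] at hk; exact absurd hk (by decide)
  · rw [h1] at hk; exact absurd hk (by decide)
  · simp [h1]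
  · simp [h1]
  · rw [h1] at hk; exact absurd hk (by decide)

theorem fam4 (h : Real X p g M') (hk : kap X = 4) :
    X = .L 3 ∨ X = .C 2 ∨ X = .U 4 ∨ X = .U 5 ∨ X = .G2 ∨ X = .TD4 ∨ X = .TF4 := by
  have hok := h.ok
  have h1 := fam h
  rw [hk] at h1
  rcases h1 with h1 | h1 | h1 | h1 | h1 | h1 | h1 | h1 | h1 | h1 | h1 | h1 | h1 | h1 | h1 | h1
  · left; exact h1
  · right; left; exact h1
  · right; right; left; exact h1
  · right; right; right; left; exact h1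
  · subst h1; exact absurd (show 4 ≤ 2 from hok) (by decide)
  · subst h1; exact absurd (show 4 ≤ 3 from hok) (by decide)
  · simp [h1]
  · rw [h1] at hk; exact absurd hk (by decide)
  · rw [h1] at hk; exact absurd hk (by decide)
  · rw [h1] at hk; exact absurd hk (by decide)
  · rw [h1] at hk; exact absurd hk (by decide)
  · rw [h1] at hk; exact absurd hk (by decide)
  · simp [h1]
  · rw [h1] at hk; exact absurd hk (by decide)
  · rw [h1] at hk; exact absurd hk (by decide)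
  · simp [h1]

/-! explicit polynomials -/

theorem nL2 (q : ℤ) : numZ (.L 2) q = q ^ 2 - 1 := by simp [numZ]
theorem nU3 (q : ℤ) : numZ (.U 3) q = (q ^ 2 - 1) * (q ^ 3 + 1) := by
  simp [numZ, Finset.prod_range_succ]
theorem nL3 (q : ℤ) : numZ (.L 3) q = (q ^ 2 - 1) * (q ^ 3 - 1) := by
  simp [numZ, Finset.prod_range_succ]
theorem nC2 (q : ℤ) : numZ (.C 2) q = (q ^ 2 - 1) * (q ^ 4 - 1) := by
  simp [numZ, Finset.prod_range_succ]
theorem nU4 (q : ℤ) : numZ (.U 4) q = (q ^ 2 - 1) * (q ^ 3 + 1) * (q ^ 4 - 1) := by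
  simp [numZ, Finset.prod_range_succ]
theorem nU5 (q : ℤ) : numZ (.U 5) q = (q ^ 2 - 1) * (q ^ 3 + 1) * (q ^ 4 - 1) * (q ^ 5 + 1) := by
  simp [numZ, Finset.prod_range_succ, show ¬ Even 3 by decide]
theorem nD4 (q : ℤ) : numZ (.D 4) q = (q ^ 4 - 1) * ((q ^ 2 - 1) * (q ^ 4 - 1) * (q ^ 6 - 1)) := by
  simp [numZ, Finset.prod_range_succ]

/-- bounds for the denominators, as integers -/
theorem dd_one_le (h : Real X p g M') : (1 : ℤ) ≤ ((dd X (p ^ g) : ℕ) : ℤ) := by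
  have := Nat.pos_of_ne_zero h.dd_ne
  omega

theorem dL2 (q : ℕ) : ((dd (.L 2) q : ℕ) : ℤ) ≤ 2 := by
  have : dd (.L 2) q ≤ 2 := Nat.gcd_le_left _ (by norm_num)
  omega
theorem dC2 (q : ℕ) : ((dd (.C 2) q : ℕ) : ℤ) ≤ 2 := by
  have : dd (.C 2) q ≤ 2 := Nat.gcd_le_left _ (by norm_num)
  omega
theorem dU3 (q : ℕ) : ((dd (.U 3) q : ℕ) : ℤ) ≤ 3 := by
  have : dd (.U 3) q ≤ 3 := Nat.gcd_le_left _ (by norm_num)
  omega
theorem dL3 (q : ℕ) : ((dd (.L 3) q : ℕ) : ℤ) ≤ 3 := by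
  have : dd (.L 3) q ≤ 3 := Nat.gcd_le_left _ (by norm_num)
  omega
theorem dL3' (q : ℕ) : ((dd (.L 3) q : ℕ) : ℤ) = 1 ∨ ((dd (.L 3) q : ℕ) : ℤ) = 3 := by
  rcases gcd3 (q - 1) with h | h
  · left; show ((Nat.gcd 3 (q - 1) : ℕ) : ℤ) = 1; rw [h]; rfl
  · right; show ((Nat.gcd 3 (q - 1) : ℕ) : ℤ) = 3; rw [h]; rfl
theorem dD4 (q : ℕ) : ((dd (.D 4) q : ℕ) : ℤ) ≤ 4 := by
  have : dd (.D 4) q ≤ 4 := Nat.gcd_le_left _ (by norm_num)
  omega

/-- the exceptional pairs: here the order of the group of shape `X` over the field of `p^g` elements divides the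
order of the group of shape `Y` over the field of `p^f` elements, with the same `p`-part -/
def Exc (X Y : Sh) (p g f : ℕ) : Prop :=
  (X = .L 3 ∧ Y = .L 4 ∧ p = 2 ∧ g = 2 ∧ f = 1) ∨ (X = .U 4 ∧ Y = .L 3 ∧ p = 3 ∧ g = 1 ∧ f = 2) ∨
    (∃ n, 4 ≤ n ∧ X = .DD n ∧ Y = .L n ∧ f = 2 * g ∧ (Even n ∨ p ^ g = 3)) ∨
    (X = .G2 ∧ Y = .L 3 ∧ p = 3 ∧ f = 2 * g) ∨ (X = .TD4 ∧ Y = .C 2 ∧ f = 3 * g) ∨
    (X = .Sz ∧ Y = .L 2 ∧ f = 2 * g) ∨ (X = .Ree ∧ Y = .U 3 ∧ f = g) ∨ (X = .TF4 ∧ Y = .G2 ∧ f = 2 * g)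

theorem not_three_sq (s : ℕ) : ¬ 3 ∣ s ^ 2 + 1 := by
  intro h
  have h4 : s % 3 = 0 ∨ s % 3 = 1 ∨ s % 3 = 2 := by omega
  have h5 : (s ^ 2 + 1) % 3 = 0 := Nat.mod_eq_zero_of_dvd h
  rcases h4 with h4 | h4 | h4 <;> rw [Nat.add_mod, Nat.pow_mod, h4] at h5 <;> norm_num at h5

/-- the pairs with `kap = 2` -/
theorem small2 (hX : Real X p g M') (hY : Real Y p f M) (hdvd : M' ∣ M) (hD : g * DM X = f * DM Y)
    (hk : kap X = kap Y) (h2 : kap X = 2) : X = Y ∨ Exc X Y p g f := by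
  have hN := exps hX hY hD hk
  have key := cross_dvd_Z hX hY hdvd hN
  have hp := hX.hp
  have hp2 := hp.two_le
  have hg := hX.hf
  have hf := hY.hf
  have ha := dd_one_le hY
  have hb := dd_one_le hX
  have pw : ∀ a b : ℕ, (p : ℤ) ^ (a * b) = ((p : ℤ) ^ b) ^ a := fun a b => by rw [mul_comm, pow_mul]
  have htt : ∀ u, 1 ≤ u → (2 : ℤ) ≤ (p : ℤ) ^ u := by
    intro u hu
    have h1 : 2 ≤ p ^ u := hp2.trans (Nat.le_self_pow (by omega) p)
    exact_mod_cast h1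
  rcases fam2 hX h2 with rfl | rfl | rfl | rfl <;> rcases fam2 hY (by rw [← hk, h2]) with rfl | rfl | rfl | rfl
  · exact Or.inl rfl
  · -- L2 U3
    exfalso
    have h3 : g * 2 = f * 6 := hD
    obtain rfl : g = 3 * f := by omega
    rw [pw, nL2, nU3] at key
    exact s_L2U3 (htt f hf) ha hb (dL2 _) key
  · exfalso
    have h3 : g * 2 = f * 4 := hD
    obtain rfl : g = 2 * f := by omega
    rw [pw, nL2] at key
    exact s_L2Sz (htt f hf) ha hb (dL2 _) key
  · exfalso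
    have h3 : g * 2 = f * 6 := hD
    obtain rfl : g = 3 * f := by omega
    rw [pw, nL2] at key
    exact s_L2Ree (htt f hf) ha hb (dL2 _) key
  · -- U3 L2
    exfalso
    have h3 : g * 6 = f * 2 := hD
    obtain rfl : f = 3 * g := by omega
    rw [pw, nL2, nU3] at key
    have hok : 3 ≤ p ^ g := hX.ok.2 rfl
    exact s_U3L2 (by exact_mod_cast hok) ha hb (dU3 _) key
  · exact Or.inl rfl
  · -- U3 Sz
    exfalso
    have h3 : g * 6 = f * 4 := hD
    obtain ⟨u, rfl⟩ : ∃ u, g = 2 * u := ⟨g / 2, by omega⟩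
    obtain rfl : f = 3 * u := by omega
    have hd : dd (.U 3) (p ^ (2 * u)) = 1 := by
      show Nat.gcd 3 (p ^ (2 * u) + 1) = 1
      rcases gcd3 (p ^ (2 * u) + 1) with h | h
      · exact h
      · exfalso
        have h4 : 3 ∣ p ^ (2 * u) + 1 := by rw [← h]; exact Nat.gcd_dvd_right _ _
        rw [show p ^ (2 * u) = (p ^ u) ^ 2 by rw [mul_comm, pow_mul]] at h4
        exact not_three_sq _ h4
    rw [hd, pw, pw, nU3] at key
    exact s_U3Sz (htt u (by omega)) ha key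
  · -- U3 Ree
    exfalso
    have h3 : g * 6 = f * 6 := hD
    obtain rfl : f = g := by omega
    rw [nU3] at key
    have hok : 3 ≤ p ^ f := hX.ok.2 rfl
    exact s_U3Ree (by exact_mod_cast hok) ha hb (dU3 _) key
  · -- Sz L2
    have h3 : g * 4 = f * 2 := hD
    right; unfold Exc
    simp; omega
  · -- Sz U3
    exfalso
    have h3 : g * 4 = f * 6 := hD
    obtain ⟨u, rfl⟩ : ∃ u, f = 2 * u := ⟨f / 2, by omega⟩
    obtain rfl : g = 3 * u := by omega
    rw [pw, pw, nU3] at key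
    exact s_SzU3 (htt u (by omega)) ha key
  · exact Or.inl rfl
  · exfalso
    have h1 : p = 2 ∧ Odd g ∧ 3 ≤ g := hX.ok
    have h2 : p = 3 ∧ Odd f ∧ 3 ≤ f := hY.ok
    omega
  · -- Ree L2
    exfalso
    have h3 : g * 6 = f * 2 := hD
    obtain rfl : f = 3 * g := by omega
    have h1 : p = 3 ∧ Odd g ∧ 3 ≤ g := hX.ok
    obtain ⟨rfl, hodd, hg3⟩ := h1
    have hd : dd (.L 2) (3 ^ (3 * g)) = 2 := by
      show Nat.gcd 2 (3 ^ (3 * g) - 1) = 2
      apply Nat.gcd_eq_left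
      have h4 : (3 ^ (3 * g)) % 2 = 1 := by rw [Nat.pow_mod]; norm_num
      omega
    rw [hd, pw, nL2] at key
    refine s_ReeL2 (t := ((3 : ℕ) : ℤ) ^ g) (htt g hg) ?_ key
    have h4 : (3 ^ g) % 2 = 1 := by rw [Nat.pow_mod]; norm_num
    have h5 : ((3 ^ g : ℕ) : ℤ) % 2 = 1 := by exact_mod_cast h4
    push_cast at h5 ⊢
    exact h5
  · -- Ree U3
    have h3 : g * 6 = f * 6 := hD
    right; unfold Exc
    simp; omega
  · exfalso
    have h1 : p = 3 ∧ Odd g ∧ 3 ≤ g := hX.ok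
    have h2 : p = 2 ∧ Odd f ∧ 3 ≤ f := hY.ok
    omega
  · exact Or.inl rfl

set_option maxHeartbeats 1000000 in
/-- the pairs with `kap = 4` -/
theorem small4 (hX : Real X p g M') (hY : Real Y p f M) (hdvd : M' ∣ M) (hD : g * DM X = f * DM Y)
    (hk : kap X = kap Y) (h4 : kap X = 4) : X = Y ∨ Exc X Y p g f := by
  have hN := exps hX hY hD hk
  have key := cross_dvd_Z hX hY hdvd hN
  have hp := hX.hp
  have hp2 := hp.two_le
  have hg := hX.hf
  have hf := hY.hf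
  have ha := dd_one_le hY
  have hb := dd_one_le hX
  have pw : ∀ a b : ℕ, (p : ℤ) ^ (a * b) = ((p : ℤ) ^ b) ^ a := fun a b => by rw [mul_comm, pow_mul]
  have htt : ∀ u, 1 ≤ u → (2 : ℤ) ≤ (p : ℤ) ^ u := by
    intro u hu
    have h1 : 2 ≤ p ^ u := hp2.trans (Nat.le_self_pow (by omega) p)
    exact_mod_cast h1
  rcases fam4 hX h4 with rfl | rfl | rfl | rfl | rfl | rfl | rfl <;>
    rcases fam4 hY (by rw [← hk, h4]) with rfl | rfl | rfl | rfl | rfl | rfl | rfl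
  · -- L3 L3
    exact Or.inl rfl
  · -- L3 C2
    have h3 : g * 3 = f * 4 := hD
    exfalso
    obtain ⟨u, rfl⟩ : ∃ u, f = 3 * u := ⟨f / 3, by omega⟩
    obtain rfl : g = 4 * u := by omega
    rw [pw, pw, nL3, nC2] at key
    exact s_L3C2 (htt u (by omega)) ha hb (dL3 _) key
  · -- L3 U4
    have h3 : g * 3 = f * 6 := hD
    exfalso
    obtain rfl : g = 2 * f := by omega
    rw [pw, nL3, nU4] at key
    exact s_L3U4 (htt f hf) ha (dL3' _) key
  · -- L3 U5
    have h3 : g * 3 = f * 10 := hD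
    exfalso
    obtain ⟨u, rfl⟩ : ∃ u, f = 3 * u := ⟨f / 3, by omega⟩
    obtain rfl : g = 10 * u := by omega
    rw [pw, pw, nL3, nU5] at key
    exact s_L3U5 (htt u (by omega)) ha hb (dL3 _) key
  · -- L3 G2
    have h3 : g * 3 = f * 6 := hD
    exfalso
    obtain rfl : g = 2 * f := by omega
    rw [pw, nL3] at key
    exact s_L3G2 (htt f hf) ha hb (dL3 _) key
  · -- L3 TD4
    have h3 : g * 3 = f * 12 := hD
    exfalso
    obtain rfl : g = 4 * f := by omega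
    rw [pw, nL3] at key
    exact s_L3TD4 (htt f hf) ha hb (dL3 _) key
  · -- L3 TF4
    have h3 : g * 3 = f * 12 := hD
    exfalso
    obtain rfl : g = 4 * f := by omega
    rw [pw, nL3] at key
    exact s_L3TF4 (htt f hf) ha hb (dL3 _) key
  · -- C2 L3
    have h3 : g * 4 = f * 3 := hD
    exfalso
    obtain ⟨u, rfl⟩ : ∃ u, f = 4 * u := ⟨f / 4, by omega⟩
    obtain rfl : g = 3 * u := by omega
    rw [pw, pw, nC2, nL3] at key
    exact s_C2L3 (htt u (by omega)) ha hb (dC2 _) key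
  · -- C2 C2
    exact Or.inl rfl
  · -- C2 U4
    have h3 : g * 4 = f * 6 := hD
    exfalso
    obtain ⟨u, rfl⟩ : ∃ u, f = 2 * u := ⟨f / 2, by omega⟩
    obtain rfl : g = 3 * u := by omega
    rw [pw, pw, nC2, nU4] at key
    exact s_C2U4 (htt u (by omega)) ha hb (dC2 _) key
  · -- C2 U5
    have h3 : g * 4 = f * 10 := hD
    exfalso
    obtain ⟨u, rfl⟩ : ∃ u, f = 2 * u := ⟨f / 2, by omega⟩
    obtain rfl : g = 5 * u := by omega
    rw [pw, pw, nC2, nU5] at key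
    exact s_C2U5 (htt u (by omega)) ha hb (dC2 _) key
  · -- C2 G2
    have h3 : g * 4 = f * 6 := hD
    exfalso
    obtain ⟨u, rfl⟩ : ∃ u, f = 2 * u := ⟨f / 2, by omega⟩
    obtain rfl : g = 3 * u := by omega
    rw [pw, pw, nC2] at key
    exact s_C2G2 (htt u (by omega)) ha hb (dC2 _) key
  · -- C2 TD4
    have h3 : g * 4 = f * 12 := hD
    exfalso
    obtain rfl : g = 3 * f := by omega
    rw [pw, nC2] at key
    exact s_C2TD4 (htt f hf) ha hb (dC2 _) key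
  · -- C2 TF4
    have h3 : g * 4 = f * 12 := hD
    exfalso
    obtain rfl : g = 3 * f := by omega
    rw [pw, nC2] at key
    exact s_C2TF4 (htt f hf) ha hb (dC2 _) key
  · -- U4 L3
    have h3 : g * 6 = f * 3 := hD
    obtain rfl : f = 2 * g := by omega
    rw [pw, nU4, nL3] at key
    have hb4 : ((dd (.U 4) (p ^ g) : ℕ) : ℤ) ∣ 4 := by
      have h5 : dd (.U 4) (p ^ g) ∣ 4 := Nat.gcd_dvd_left 4 (p ^ g + 1)
      exact_mod_cast h5
    have h4 := s_U4L3 (htt g hg) ha hb4 key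
    have h5 : p ^ g = 3 := by exact_mod_cast h4
    have h6 : g = 1 := by
      by_contra h7
      have h8 : p ^ 2 ≤ p ^ g := Nat.pow_le_pow_right (by omega) (by omega)
      nlinarith
    rw [h6, pow_one] at h5
    right; unfold Exc
    simp [h5, h6]
  · -- U4 C2
    exact (KK_false hX hY hdvd hD (by decide)).elim
  · -- U4 U4
    exact Or.inl rfl
  · -- U4 U5
    exact (KK_false hX hY hdvd hD (by decide)).elim
  · -- U4 G2
    exact (KK_false hX hY hdvd hD (by decide)).elim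
  · -- U4 TD4
    exact (KK_false hX hY hdvd hD (by decide)).elim
  · -- U4 TF4
    exact (KK_false hX hY hdvd hD (by decide)).elim
  · -- U5 L3
    exact (KK_false hX hY hdvd hD (by decide)).elim
  · -- U5 C2
    exact (KK_false hX hY hdvd hD (by decide)).elim
  · -- U5 U4
    exact (KK_false hX hY hdvd hD (by decide)).elim
  · -- U5 U5
    exact Or.inl rfl
  · -- U5 G2
    exact (KK_false hX hY hdvd hD (by decide)).elim
  · -- U5 TD4
    exact (KK_false hX hY hdvd hD (by decide)).elim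
  · -- U5 TF4
    exact (KK_false hX hY hdvd hD (by decide)).elim
  · -- G2 L3
    have h3 : g * 6 = f * 3 := hD
    obtain rfl : f = 2 * g := by omega
    rw [pw, nL3] at key
    have h4 := s_G2L3 (htt g hg) key
    have hp3 : p = 3 := by
      by_contra h7
      have h8 : ¬ 3 ∣ p := fun h => h7 ((Nat.prime_dvd_prime_iff_eq Nat.prime_three hp).1 h).symm
      have h9 : ¬ 3 ∣ p ^ g := fun h => h8 (Nat.prime_three.dvd_of_dvd_pow h)
      have h10 : (p ^ (2 * g)) % 3 = 1 := by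
        rw [mul_comm, pow_mul, Nat.pow_mod]
        have h11 : (p ^ g) % 3 = 1 ∨ (p ^ g) % 3 = 2 := by omega
        rcases h11 with h11 | h11 <;> rw [h11]
      have hd : dd (.L 3) (p ^ (2 * g)) = 3 := by
        show Nat.gcd 3 (p ^ (2 * g) - 1) = 3
        apply Nat.gcd_eq_left
        omega
      rw [hd] at h4
      have h12 : (3 : ℕ) ∣ (p ^ g) ^ 2 + 1 := by exact_mod_cast h4
      exact not_three_sq _ h12
    right; unfold Exc
    simp [hp3]
  · -- G2 C2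
    have h3 : g * 6 = f * 4 := hD
    exfalso
    obtain ⟨u, rfl⟩ : ∃ u, f = 3 * u := ⟨f / 3, by omega⟩
    obtain rfl : g = 2 * u := by omega
    rw [pw, pw, nC2] at key
    exact s_G2C2 (htt u (by omega)) ha key
  · -- G2 U4
    have h3 : g * 6 = f * 6 := hD
    exfalso
    obtain rfl : f = g := by omega
    rw [nU4] at key
    exact s_G2U4 (htt f hf) ha key
  · -- G2 U5
    exact (KK_false hX hY hdvd hD (by decide)).elim
  · -- G2 G2
    exact Or.inl rfl
  · -- G2 TD4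
    have h3 : g * 6 = f * 12 := hD
    exfalso
    obtain rfl : g = 2 * f := by omega
    rw [pw] at key
    exact s_G2TD4 (htt f hf) key
  · -- G2 TF4
    have h3 : g * 6 = f * 12 := hD
    exfalso
    obtain rfl : g = 2 * f := by omega
    rw [pw] at key
    exact s_G2TF4 (htt f hf) key
  · -- TD4 L3
    have h3 : g * 12 = f * 3 := hD
    exfalso
    obtain rfl : f = 4 * g := by omega
    rw [pw, nL3] at key
    exact s_TD4L3 (htt g hg) ha key
  · -- TD4 C2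
    have h3 : g * 12 = f * 4 := hD
    right; unfold Exc
    simp; omega
  · -- TD4 U4
    have h3 : g * 12 = f * 6 := hD
    exfalso
    obtain rfl : f = 2 * g := by omega
    rw [pw, nU4] at key
    exact s_TD4U4 (htt g hg) ha key
  · -- TD4 U5
    exact (KK_false hX hY hdvd hD (by decide)).elim
  · -- TD4 G2
    have h3 : g * 12 = f * 6 := hD
    exfalso
    obtain rfl : f = 2 * g := by omega
    rw [pw] at key
    exact s_TD4G2 (htt g hg) key
  · -- TD4 TD4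
    exact Or.inl rfl
  · -- TD4 TF4
    have h3 : g * 12 = f * 12 := hD
    exfalso
    obtain rfl : f = g := by omega
    exact s_TD4TF4 (htt f hf) key
  · -- TF4 L3
    have h3 : g * 12 = f * 3 := hD
    exfalso
    obtain rfl : f = 4 * g := by omega
    have h1 : p = 2 ∧ Odd g ∧ 3 ≤ g := hX.ok
    obtain ⟨rfl, hodd, hg3⟩ := h1
    have h4 : (2 ^ g) % 3 = 2 := by
      obtain ⟨j, rfl⟩ := hodd
      rw [pow_succ, pow_mul, Nat.mul_mod, Nat.pow_mod]; norm_num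
    have hd : dd (.L 3) (2 ^ (4 * g)) = 3 := by
      show Nat.gcd 3 (2 ^ (4 * g) - 1) = 3
      apply Nat.gcd_eq_left
      have h5 : (2 ^ (4 * g)) % 3 = 1 := by rw [pow_mul, Nat.pow_mod]; norm_num
      have h6 : 0 < 2 ^ (4 * g) := by positivity
      omega
    rw [hd, pw, nL3] at key
    refine s_TF4L3 (t := ((2 : ℕ) : ℤ) ^ g) (htt g hg) ?_ key
    have h5 : ((2 ^ g : ℕ) : ℤ) % 3 = 2 := by exact_mod_cast h4
    push_cast at h5 ⊢
    exact h5
  · -- TF4 C2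
    have h3 : g * 12 = f * 4 := hD
    exfalso
    obtain rfl : f = 3 * g := by omega
    rw [pw, nC2] at key
    exact s_TF4C2 (htt g hg) ha key
  · -- TF4 U4
    have h3 : g * 12 = f * 6 := hD
    exfalso
    obtain rfl : f = 2 * g := by omega
    rw [pw, nU4] at key
    exact s_TF4U4 (htt g hg) ha key
  · -- TF4 U5
    exact (KK_false hX hY hdvd hD (by decide)).elim
  · -- TF4 G2
    have h3 : g * 12 = f * 6 := hD
    right; unfold Exc
    simp; omega
  · -- TF4 TD4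
    exact (KK_false hX hY hdvd hD (by decide)).elim
  · -- TF4 TF4
    exact Or.inl rfl

end

end Cfsg.Agent.H365.Near
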