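import Mathlib
import Cfsg.Agent.H365.NearMain

/-!
# NearEqual: one order of a group of Lie type dividing another one in the same characteristic, with almost the same
`p`-part and the same largest exponent
-/

set_option autoImplicit false

namespace Cfsg.Agent.H365.Near

open Finset Cfsg.Agent.H902.Art Cfsg.Agent.Lib.Zsigmondy

section

variable {X Y : Sh} {p f g M M' n : ℕ}

theorem numL_sq {q : ℕ} (hq : 2 ≤ q) (hn : 1 ≤ n) : num (.L n) (q ^ 2) * (q ^ 2 - 1) =
    (∏ i ∈ range (n - 1), (q ^ (2 * (i + 1)) - 1)) * ((q ^ n - 1) * (q ^ n + 1)) := by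
  have h6 : q ^ (2 * n) - 1 = (q ^ n - 1) * (q ^ n + 1) := by
    have g1 : 1 ≤ q ^ n := Nat.one_le_pow _ _ (by omega)
    have g2 : 1 ≤ q ^ (2 * n) := Nat.one_le_pow _ _ (by omega)
    zify [g1, g2]; ring
  have h3 : ∏ i ∈ range n, (q ^ (2 * (i + 1)) - 1) = num (.L n) (q ^ 2) * (q ^ 2 - 1) := by
    obtain ⟨k, rfl⟩ := Nat.exists_eq_add_of_le' hn
    rw [Finset.prod_range_succ']
    show _ = (∏ i ∈ range k, ((q ^ 2) ^ (i + 2) - 1)) * (q ^ 2 - 1)
    congr 1
    apply Finset.prod_congr rfl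
    intro i _
    rw [← pow_mul q 2 (i + 2)]
  rw [← h3, ← h6]
  obtain ⟨k, rfl⟩ := Nat.exists_eq_add_of_le' hn
  rw [Finset.prod_range_succ]
  rfl

/-- `|L_n(q²)|` does not divide `|O⁻_{2n}(q)|` -/
theorem LDD_false (hn : 4 ≤ n) (hX : Real (.L n) p g M') (hY : Real (.DD n) p f M) (hdvd : M' ∣ M)
    (hD : g * DM (.L n) = f * DM (.DD n)) (hk : kap (.L n) = kap (.DD n)) : False := by
  have hN := exps hX hY hD hk
  have hc := cross_dvd hX hY hdvd hN
  have hq := hY.q_ge
  have h1 : g = 2 * f := by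
    have h2 : g * n = f * (2 * n) := hD
    have h3 : g * n = (2 * f) * n := by rw [h2]; ring
    exact Nat.eq_of_mul_eq_mul_right (by omega) h3
  subst h1
  have hq2 : p ^ (2 * f) = (p ^ f) ^ 2 := by rw [mul_comm, pow_mul]
  rw [hq2] at hc
  set q := p ^ f with hqdef
  have ha : 1 ≤ dd (.DD n) q := gcd4_pos _
  have hb : dd (.L n) (q ^ 2) ≤ n := Nat.gcd_le_left _ (by omega)
  have hb0 : 0 < dd (.L n) (q ^ 2) := Nat.gcd_pos_of_pos_left _ (by omega)
  set a := dd (.DD n) q
  set b := dd (.L n) (q ^ 2)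
  set A := ∏ i ∈ range (n - 1), (q ^ (2 * (i + 1)) - 1) with hA
  have hA0 : 0 < A := Nat.pos_of_ne_zero (Finset.prod_ne_zero_iff.2 fun i _ => sub_one_ne hq (by omega))
  have h2 := numL_sq (n := n) hq (by omega)
  rw [← hA] at h2
  have h5 : num (.DD n) q = (q ^ n + 1) * A := rfl
  rw [h5] at hc
  have hle := Nat.le_of_dvd (by positivity) hc
  have h7 : a * (q ^ n - 1) ≤ b * (q ^ 2 - 1) := by
    have hh : A * (q ^ n + 1) * (a * (q ^ n - 1)) ≤ A * (q ^ n + 1) * (b * (q ^ 2 - 1)) := by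
      calc A * (q ^ n + 1) * (a * (q ^ n - 1)) = a * (A * ((q ^ n - 1) * (q ^ n + 1))) := by ring
        _ = a * (num (.L n) (q ^ 2) * (q ^ 2 - 1)) := by rw [h2]
        _ = (a * num (.L n) (q ^ 2)) * (q ^ 2 - 1) := by ring
        _ ≤ (b * ((q ^ n + 1) * A)) * (q ^ 2 - 1) := Nat.mul_le_mul_right _ hle
        _ = A * (q ^ n + 1) * (b * (q ^ 2 - 1)) := by ring
    exact Nat.le_of_mul_le_mul_left hh (by positivity)
  have h8 : b * (q ^ 2 - 1) ≤ n * (q ^ 2 - 1) := Nat.mul_le_mul_right _ hb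
  have h9 : q ^ n - 1 ≤ a * (q ^ n - 1) := Nat.le_mul_of_pos_left _ ha
  have h10 : n ≤ q ^ (n - 2) := (le_two_pow_sub hn).trans (Nat.pow_le_pow_left hq _)
  have h11 : q ^ n = q ^ (n - 2) * q ^ 2 := by rw [← pow_add]; congr 1; omega
  have h12 : q ^ (n - 2) * (q ^ 2 - 1) + q ^ (n - 2) = q ^ n := by
    rw [h11]
    have g1 : 1 ≤ q ^ 2 := Nat.one_le_pow _ _ (by omega)
    zify [g1]; ring
  have h13 : n * (q ^ 2 - 1) ≤ q ^ (n - 2) * (q ^ 2 - 1) := Nat.mul_le_mul_right _ h10
  omega

/-- `|O⁻_{2n}(q)|` divides `|L_n(q²)|` for even `n` or `q = 3` only -/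
theorem DDL_exc (hn : 4 ≤ n) (hX : Real (.DD n) p g M') (hY : Real (.L n) p f M) (hdvd : M' ∣ M)
    (hD : g * DM (.DD n) = f * DM (.L n)) (hk : kap (.DD n) = kap (.L n)) : f = 2 * g ∧ (Even n ∨ p ^ g = 3) := by
  have hN := exps hX hY hD hk
  have hc := cross_dvd hX hY hdvd hN
  have hq := hX.q_ge
  have h1 : f = 2 * g := by
    have h2 : g * (2 * n) = f * n := hD
    have h3 : f * n = (2 * g) * n := by rw [← h2]; ring
    exact Nat.eq_of_mul_eq_mul_right (by omega) h3
  refine ⟨h1, ?_⟩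
  by_cases he : Even n
  · exact Or.inl he
  right
  subst h1
  have hq2 : p ^ (2 * g) = (p ^ g) ^ 2 := by rw [mul_comm, pow_mul]
  rw [hq2] at hc
  set q := p ^ g with hqdef
  have ha4 : dd (.DD n) q ∣ 4 := Nat.gcd_dvd_left _ _
  set a := dd (.DD n) q
  set b := dd (.L n) (q ^ 2)
  set A := ∏ i ∈ range (n - 1), (q ^ (2 * (i + 1)) - 1) with hA
  have hA0 : 0 < A := Nat.pos_of_ne_zero (Finset.prod_ne_zero_iff.2 fun i _ => sub_one_ne hq (by omega))
  have h2 := numL_sq (n := n) hq (by omega)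
  rw [← hA] at h2
  have h5 : num (.DD n) q = (q ^ n + 1) * A := rfl
  rw [h5] at hc
  have h7 : b * (q ^ 2 - 1) ∣ a * (q ^ n - 1) := by
    apply Nat.dvd_of_mul_dvd_mul_left (k := A * (q ^ n + 1)) (by positivity)
    have h8 := Nat.mul_dvd_mul_right hc (q ^ 2 - 1)
    have e1 : A * (q ^ n + 1) * (b * (q ^ 2 - 1)) = b * ((q ^ n + 1) * A) * (q ^ 2 - 1) := by ring
    have e2 : A * (q ^ n + 1) * (a * (q ^ n - 1)) = a * num (.L n) (q ^ 2) * (q ^ 2 - 1) := by
      calc A * (q ^ n + 1) * (a * (q ^ n - 1)) = a * (A * ((q ^ n - 1) * (q ^ n + 1))) := by ring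
        _ = a * (num (.L n) (q ^ 2) * (q ^ 2 - 1)) := by rw [h2]
        _ = _ := by ring
    rw [e1, e2]; exact h8
  -- pass to the integers
  have h8 : ((q : ℤ) ^ 2 - 1) ∣ (a : ℤ) * ((q : ℤ) ^ n - 1) := by
    have h9 : (q ^ 2 - 1) ∣ a * (q ^ n - 1) := (dvd_mul_left _ _).trans h7
    have h10 := Int.natCast_dvd_natCast.2 h9
    rw [Nat.cast_mul, Nat.cast_sub (Nat.one_le_pow _ _ (by omega)), Nat.cast_sub (Nat.one_le_pow _ _ (by omega))] at h10
    push_cast at h10
    exact h10
  have hgeom : ((q : ℤ) ^ n - 1) = ((q : ℤ) - 1) * ∑ i ∈ range n, (q : ℤ) ^ i := by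
    rw [mul_comm, geom_sum_mul]
  have h9 : ((q : ℤ) + 1) ∣ (a : ℤ) * ∑ i ∈ range n, (q : ℤ) ^ i := by
    apply cancel (C := (q : ℤ) - 1) (by omega)
    rw [hgeom] at h8
    convert h8 using 1 <;> ring
  -- the sum is one modulo `q + 1`
  have h10 : ((q : ℤ) + 1) ∣ (∑ i ∈ range n, (q : ℤ) ^ i) - 1 := by
    obtain ⟨m, hm⟩ := Nat.not_even_iff_odd.1 he
    have h11 : ∀ m : ℕ, ((q : ℤ) + 1) ∣ (∑ i ∈ range (2 * m + 1), (q : ℤ) ^ i) - 1 := by
      intro m
      induction m with
      | zero => simp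
      | succ k ih =>
        have e : 2 * (k + 1) + 1 = (2 * k + 1) + 1 + 1 := by ring
        rw [e, Finset.sum_range_succ, Finset.sum_range_succ]
        have e2 : (∑ i ∈ range (2 * k + 1), (q : ℤ) ^ i) + (q : ℤ) ^ (2 * k + 1) + (q : ℤ) ^ (2 * k + 1 + 1) - 1 =
          ((∑ i ∈ range (2 * k + 1), (q : ℤ) ^ i) - 1) + (q + 1) * (q : ℤ) ^ (2 * k + 1) := by ring
        rw [e2]
        exact dvd_add ih (dvd_mul_right _ _)
    rw [hm]; exact h11 m
  have h11 : ((q : ℤ) + 1) ∣ (a : ℤ) := by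
    have h12 : ((q : ℤ) + 1) ∣ (a : ℤ) * ((∑ i ∈ range n, (q : ℤ) ^ i) - 1) := Dvd.dvd.mul_left h10 _
    have h13 := dvd_sub h9 h12
    have e : (a : ℤ) * ∑ i ∈ range n, (q : ℤ) ^ i - (a : ℤ) * ((∑ i ∈ range n, (q : ℤ) ^ i) - 1) = a := by ring
    rwa [e] at h13
  have h12 : q + 1 ∣ 4 := by
    have h13 : q + 1 ∣ a := by exact_mod_cast h11
    exact h13.trans ha4
  have h13 := Nat.le_of_dvd (by norm_num) h12
  have h14 : q = 2 ∨ q = 3 := by omega
  rcases h14 with h14 | h14
  · rw [h14] at h12; norm_num at h12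
  · exact h14

theorem typA_of_kap (h : Real X p g M') (h2 : kap X ≠ 2) (h4 : kap X ≠ 4) : DM X < 2 * BM X := by
  by_contra hB
  have h5 := typB h hB
  generalize kap X = k at *
  generalize DM X = D at *
  cases h5 <;> omega

/-- the shapes whose second exponent is 3 or 6 -/
theorem shapes36 (h : Real X p g M') (h2 : kap X ≠ 2) (h4 : kap X ≠ 4) (hB : BM X ≤ 3 ∨ BM X = 6) :
    X = .L 4 ∨ X = .L 7 ∨ X = .C 4 ∨ X = .U 6 ∨ X = .D 5 ∨ X = .DD 4 := by
  have hA := typA h (typA_of_kap h h2 h4)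
  have hlt := BM_lt h
  have hlt2 := typA_of_kap h h2 h4
  generalize hd : DM X - BM X = d at *
  generalize hk : kap X = k at *
  generalize hD : DM X = D at *
  have hB' : D - d ≤ 3 ∨ D - d = 6 := by omega
  cases hA with
  | L n hn =>
    have : D = 4 ∨ D = 7 := by omega
    rcases this with rfl | rfl <;> simp
  | C n hn =>
    have : n = 4 := by omega
    subst this; simp
  | U4 => omega
  | Ue n hn =>
    have : n = 3 := by omega
    subst this; simp
  | Uo n hn => omega
  | D n hn =>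
    have : n = 5 := by omega
    subst this; simp
  | DD n hn =>
    have : n = 4 := by omega
    subst this; simp
  | F4 => omega
  | E6 => omega
  | E7 => omega
  | E8 => omega
  | TE6 => omega

set_option maxHeartbeats 4000000 in
/-- **Main combinatorial theorem.** -/
theorem near_of_eq (hX : Real X p g M') (hY : Real Y p f M) (hdvd : M' ∣ M) (hD : g * DM X = f * DM Y)
    (hk : kap X = kap Y) : (X = Y ∧ g = f) ∨ Exc X Y p g f := by
  have fin : X = Y → g = f := by
    intro h
    subst h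
    have := (DM_ge hX).1
    exact Nat.eq_of_mul_eq_mul_right (by omega) hD
  have fin' : (X = Y ∨ Exc X Y p g f) → (X = Y ∧ g = f) ∨ Exc X Y p g f := by
    rintro (h | h)
    · exact Or.inl ⟨h, fin h⟩
    · exact Or.inr h
  apply fin'
  by_cases h2 : kap X = 2
  · exact small2 hX hY hdvd hD hk h2
  by_cases h4 : kap X = 4
  · exact small4 hX hY hdvd hD hk h4
  have hA := typA_of_kap hX h2 h4
  have hA' := typA_of_kap hY (by rw [← hk]; exact h2) (by rw [← hk]; exact h4)
  have LDD : ∀ n, X = .L n → Y = .DD n → X = Y ∨ Exc X Y p g f := by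
    rintro n rfl rfl
    exact (LDD_false (show 4 ≤ n from hY.ok) hX hY hdvd hD hk).elim
  have DDL : ∀ n, X = .DD n → Y = .L n → X = Y ∨ Exc X Y p g f := by
    rintro n rfl rfl
    have h5 := DDL_exc (show 4 ≤ n from hX.ok) hX hY hdvd hD hk
    right; right; right; left
    exact ⟨n, hX.ok, rfl, rfl, h5.1, h5.2⟩
  by_cases hB : BM X ≤ 3 ∨ BM X = 6
  · have hY' := fam hY
    rw [← hk] at hY'
    rcases shapes36 hX h2 h4 hB with rfl | rfl | rfl | rfl | rfl | rfl <;>
      rcases hY' with hY' | hY' | hY' | hY' | hY' | hY' | hY' | hY' | hY' | hY' | hY' | hY' | hY' | hY' | hY' | hY' <;>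
      subst hY' <;>
      first
        | exact absurd hk (by decide)
        | exact absurd (show 4 ≤ 3 from hY.ok) (by decide)
        | exact Or.inl (by decide)
        | exact (KK_false hX hY hdvd hD (by decide)).elim
        | exact LDD 4 rfl rfl
        | exact LDD 7 rfl rfl
        | exact DDL 4 rfl rfl
  · have h3 : 3 ≤ BM X := by omega
    have hg := hX.hf
    have h6 : ¬ (p = 2 ∧ g * BM X = 6) := by
      rintro ⟨-, h6⟩
      have h7 : BM X ∣ 6 := ⟨g, by rw [← h6]; ring⟩
      have h8 := Nat.le_of_dvd (by norm_num) h7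
      have h9 : BM X = 4 ∨ BM X = 5 := by omega
      rcases h9 with h9 | h9 <;> rw [h9] at h7 <;> norm_num at h7
    obtain ⟨w, hw, hwD⟩ := ratio hX hY hdvd hD hA hA' h3 h6
    rcases pairsN (typA hX hA) (typA hY hA') hk hw hwD with h | ⟨n, h, h'⟩ | ⟨n, h, h'⟩ | h
    · exact Or.inl h
    · exact LDD n h h'
    · exact DDL n h h'
    · have hN := exps hX hY hD hk
      have key := cross_dvd_Z hX hY hdvd hN
      have ha := dd_one_le hY
      have hb := dd_one_le hX
      have hp2 := hX.hp.two_le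
      have pw : ∀ a b : ℕ, (p : ℤ) ^ (a * b) = ((p : ℤ) ^ b) ^ a := fun a b => by rw [mul_comm, pow_mul]
      have htt : ∀ u, 1 ≤ u → (2 : ℤ) ≤ (p : ℤ) ^ u := by
        intro u hu
        have h1 : 2 ≤ p ^ u := hp2.trans (Nat.le_self_pow (by omega) p)
        exact_mod_cast h1
      have hf := hY.hf
      simp only [lst, List.mem_cons, Prod.mk.injEq, List.not_mem_nil, or_false] at h
      rcases h with ⟨rfl, rfl⟩ | ⟨rfl, rfl⟩ | ⟨rfl, rfl⟩ | ⟨rfl, rfl⟩ | ⟨rfl, rfl⟩ | ⟨rfl, rfl⟩ | ⟨rfl, rfl⟩ |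
        ⟨rfl, rfl⟩ | ⟨rfl, rfl⟩ | ⟨rfl, rfl⟩ | ⟨rfl, rfl⟩ | ⟨rfl, rfl⟩ | ⟨rfl, rfl⟩ | ⟨rfl, rfl⟩ | ⟨rfl, rfl⟩
      · exact absurd rfl h4
      · exact absurd rfl h4
      · exact (KK_false hX hY hdvd hD (by decide)).elim
      · -- D4 F4
        exfalso
        have h5 : g * 6 = f * 12 := hD
        obtain rfl : g = 2 * f := by omega
        rw [pw, nD4] at key
        exact s_D4F4 (htt f hf) ha hb (dD4 _) key
      · exact (KK_false hX hY hdvd hD (by decide)).elim
      · exact (KK_false hX hY hdvd hD (by decide)).elim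
      · exact (KK_false hX hY hdvd hD (by decide)).elim
      · exact (KK_false hX hY hdvd hD (by decide)).elim
      · -- F4 D4
        exfalso
        have h5 : g * 12 = f * 6 := hD
        obtain rfl : f = 2 * g := by omega
        rw [pw, nD4] at key
        exact s_F4D4 (htt g hg) ha key
      · exact (KK_false hX hY hdvd hD (by decide)).elim
      · exact (KK_false hX hY hdvd hD (by decide)).elim
      · exact (KK_false hX hY hdvd hD (by decide)).elim
      · exact (KK_false hX hY hdvd hD (by decide)).elim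
      · exact (KK_false hX hY hdvd hD (by decide)).elim
      · exact (KK_false hX hY hdvd hD (by decide)).elim

theorem kap_even (h : Real X p g M') : kap X % 2 = 0 := by
  have hok := h.ok
  cases X with
  | L n => show 2 * (n - 1) % 2 = 0; omega
  | C n => show 2 * n % 2 = 0; omega
  | U n =>
    have hn : 3 ≤ n := hok.1
    show (if Even n then n else n - 1) % 2 = 0
    split_ifs with h1
    · exact Nat.even_iff.1 h1
    · have := Nat.odd_iff.1 (Nat.not_even_iff_odd.1 h1)
      omega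
  | D n => show 2 * n % 2 = 0; omega
  | DD n => show 2 * (n - 1) % 2 = 0; omega
  | G2 => rfl
  | F4 => rfl
  | E6 => rfl
  | E7 => rfl
  | E8 => rfl
  | TE6 => rfl
  | TD4 => rfl
  | Sz => rfl
  | Ree => rfl
  | TF4 => rfl

theorem exp_le (hX : Real X p g M') (hY : Real Y p f M) (hdvd : M' ∣ M) : g * NN X ≤ f * NN Y := by
  rw [P_prime_exp hX, P_prime_exp hY]
  exact (Nat.factorization_le_iff_dvd hX.M_ne hY.M_ne).2 hdvd p

/-- the invariant `kap` agrees if the `p`-parts are almost equal -/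
theorem kap_eq (hX : Real X p g M') (hY : Real Y p f M) (hdvd : M' ∣ M) (hD : g * DM X = f * DM Y)
    (hδ : 2 * (f * NN Y - g * NN X) < f * DM Y) : kap X = kap Y := by
  have hle := exp_le hX hY hdvd
  have h1 : 4 * (g * NN X) = (g * DM X) * kap X := by
    calc 4 * (g * NN X) = g * (4 * NN X) := by ring
      _ = _ := by rw [four_NN hX]; ring
  have h2 : 4 * (f * NN Y) = (f * DM Y) * kap Y := by
    calc 4 * (f * NN Y) = f * (4 * NN Y) := by ring
      _ = _ := by rw [four_NN hY]; ring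
  rw [hD] at h1
  have hG : 0 < f * DM Y := by omega
  have e1 := kap_even hX
  have e2 := kap_even hY
  generalize f * DM Y = G at *
  rcases lt_trichotomy (kap X) (kap Y) with h | h | h
  · exfalso
    have h3 : G * (kap X + 2) ≤ G * kap Y := Nat.mul_le_mul_left _ (by omega)
    have h4 : G * (kap X + 2) = G * kap X + 2 * G := by ring
    omega
  · exact h
  · exfalso
    have h3 : G * (kap Y + 1) ≤ G * kap X := Nat.mul_le_mul_left _ (by omega)
    have h4 : G * (kap Y + 1) = G * kap Y + G := by ring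
    omega

/-- a primitive prime divisor of the larger order divides the smaller one: the largest exponents agree, up to the
failure of Zsigmondy's theorem -/
theorem D_cases (hX : Real X p g M') (hY : Real Y p f M) (hdvd : M' ∣ M) {r : ℕ} (hr : r.Prime)
    (ho : orderOf (p : ZMod r) = f * DM Y) (h3 : 3 ≤ f * DM Y) (hrM : r ∣ M') :
    g * DM X = f * DM Y ∨ (p = 2 ∧ g * DM X = 6 ∧ f * DM Y < 6) := by
  have hg := hX.hf
  have hf := hY.hf
  have hgeX := DM_ge hX
  have hltX := BM_lt hX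
  have hgeY := DM_ge hY
  have hltY := BM_lt hY
  have hrp : r ≠ p := ne_of_order hr (show 1 ≤ f * DM Y by omega) ho
  have h1 : f * DM Y ≤ g * DM X := by
    rcases hX.order_cases hr hrp hrM with h | ⟨e, he, heB, h⟩
    · rw [ho] at h
      exact Nat.le_of_dvd (Nat.mul_pos hg (by omega)) h
    · rw [ho] at h
      exact (Nat.le_of_dvd (Nat.mul_pos hg he) h).trans (Nat.mul_le_mul_left _ (by omega))
  by_cases h6 : p = 2 ∧ g * DM X = 6
  · by_cases h7 : f * DM Y = 6
    · left; rw [h6.2, h7]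
    · right; exact ⟨h6.1, h6.2, by omega⟩
  · left
    refine le_antisymm ?_ h1
    obtain ⟨t, ht, hot⟩ := exists_prime_orderOf hX.hp.two_le (show 2 ≤ g * DM X by omega) (fun h => by omega) h6
    have htp : t ≠ p := ne_of_order ht (show 1 ≤ g * DM X by omega) hot
    have hd := (hX.dvd_of_order_DM ht hot (by omega)).trans hdvd
    rcases hY.order_cases ht htp hd with h | ⟨e, he, heB, h⟩
    · rw [hot] at h
      exact Nat.le_of_dvd (Nat.mul_pos hf (by omega)) h
    · rw [hot] at h
      exact (Nat.le_of_dvd (Nat.mul_pos hf he) h).trans (Nat.mul_le_mul_left _ (by omega))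

theorem fin_six : ∀ v ∈ List.range 22, ∀ a ∈ ents 2 v, a.2 * DM a.1 = 6 → ∀ w ∈ List.range 11, ∀ b ∈ ents 2 w,
    3 ≤ b.2 * DM b.1 → b.2 * DM b.1 < 6 → val 2 a ∣ val 2 b →
    (2 * (w - v) < b.2 * DM b.1 ∨ 2 ^ (w - v) ∣ 6 * a.2) → a = (Sh.L 3, 2) ∧ b = (Sh.L 4, 1) := by
  decide +kernel

theorem six_case (hX : Real X 2 g M') (hY : Real Y 2 f M) (hdvd : M' ∣ M) (h6 : g * DM X = 6) (h3 : 3 ≤ f * DM Y)
    (hlt : f * DM Y < 6)
    (hδ : 2 * (f * NN Y - g * NN X) < f * DM Y ∨ 2 ^ (f * NN Y - g * NN X) ∣ 6 * g) : Exc X Y 2 g f := by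
  have h1 := bound_DM hX h6
  have hf := hY.hf
  have h2 : f * NN Y ≤ 10 := by
    have h4 := four_NN hY
    have h5 := kap_le hY
    have h7 : DM Y ≤ 5 := by nlinarith
    have h8 : 4 * (f * NN Y) = (f * DM Y) * kap Y := by
      calc 4 * (f * NN Y) = f * (4 * NN Y) := by ring
        _ = _ := by rw [h4]; ring
    have h9 : (f * DM Y) * kap Y ≤ 5 * 8 := Nat.mul_le_mul (by omega) (by omega)
    omega
  have h := fin_six _ (by rw [List.mem_range]; omega) _ (mem_ents hX rfl) h6 _ (by rw [List.mem_range]; omega)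
    _ (mem_ents hY rfl) h3 hlt (by rw [val_eq hX, val_eq hY]; exact hdvd) hδ
  obtain ⟨h4, h5⟩ := h
  left
  exact ⟨congrArg Prod.fst h4, congrArg Prod.fst h5, rfl, congrArg Prod.snd h4, congrArg Prod.snd h5⟩

/-- **NearEqual.** Let `|X(p^g)|` divide `|Y(p^f)|`, let a primitive prime divisor for the largest exponent of `Y`
divide `|X(p^g)|`, and let the `p`-parts be almost equal. Then `X = Y` and `g = f`, up to explicit exceptions. -/
theorem near (hX : Real X p g M') (hY : Real Y p f M) (hdvd : M' ∣ M) {r : ℕ} (hr : r.Prime)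
    (ho : orderOf (p : ZMod r) = f * DM Y) (h3 : 3 ≤ f * DM Y) (hrM : r ∣ M')
    (hδ : 2 * (f * NN Y - g * NN X) < f * DM Y) : (X = Y ∧ g = f) ∨ Exc X Y p g f := by
  rcases D_cases hX hY hdvd hr ho h3 hrM with hD | ⟨rfl, h6, hlt⟩
  · exact near_of_eq hX hY hdvd hD (kap_eq hX hY hdvd hD hδ)
  · exact Or.inr (six_case hX hY hdvd h6 h3 hlt (Or.inl hδ))

/-- the same when the largest exponents are known to agree -/
theorem near_of_D (hX : Real X p g M') (hY : Real Y p f M) (hdvd : M' ∣ M) (hD : g * DM X = f * DM Y)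
    (hδ : 2 * (f * NN Y - g * NN X) < f * DM Y) : (X = Y ∧ g = f) ∨ Exc X Y p g f :=
  near_of_eq hX hY hdvd hD (kap_eq hX hY hdvd hD hδ)

theorem lt_pow' {δ : ℕ} (h : 3 ≤ δ) : δ < 2 ^ (δ - 1) := by
  induction δ, h using Nat.le_induction with
  | base => norm_num
  | succ k hk ih =>
    have e : k + 1 - 1 = (k - 1) + 1 := by omega
    rw [e, pow_succ]; omega

/-- the divisibility form of the bound -/
theorem delta_lt (hX : Real X p g M') (hY : Real Y p f M) (hD : g * DM X = f * DM Y) (h3 : 3 ≤ f * DM Y)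
    (h24 : p ^ (f * NN Y - g * NN X) ∣ 24 * g) (h6 : p = 2 → 2 ^ (f * NN Y - g * NN X) ∣ 6 * g) :
    2 * (f * NN Y - g * NN X) < f * DM Y := by
  have hp := hX.hp
  have hg := hX.hf
  have hDX := (DM_ge hX).1
  have hG : 2 * g ≤ f * DM Y := by rw [← hD]; nlinarith
  generalize hδ : f * NN Y - g * NN X = δ at *
  by_cases hδ0 : δ = 0
  · omega
  by_cases hp2 : p = 2
  · subst hp2
    have h7 := h6 rfl
    have h8 : 2 ^ (δ - 1) ∣ g := by
      have h9 : 2 ^ δ ∣ 2 * (3 * g) := by rw [← mul_assoc]; exact h7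
      have h10 : 2 * 2 ^ (δ - 1) ∣ 2 * (3 * g) := by
        have : 2 * 2 ^ (δ - 1) = 2 ^ δ := by
          rw [← pow_succ']; congr 1; omega
        rw [this]; exact h9
      have h11 := Nat.dvd_of_mul_dvd_mul_left (by norm_num) h10
      exact (Nat.Coprime.pow_left _ (by norm_num)).dvd_of_dvd_mul_left h11
    have h9 := Nat.le_of_dvd (by omega) h8
    by_cases h10 : 3 ≤ δ
    · have := lt_pow' h10
      omega
    · have h11 : δ = 1 ∨ δ = 2 := by omega
      rcases h11 with rfl | rfl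
      · omega
      · norm_num at h9
        by_contra hcon
        -- `G = 4`, `g = 2`, `X = L₂(4)`
        have h12 : g = 2 := by omega
        have h13 : DM X = 2 := by
          rw [h12] at hD; omega
        have h14 := DM_eq_two hX (by omega)
        subst h14
        have h15 : NN (.L 2) = 1 := rfl
        have h16 : f * NN Y = 4 := by rw [h12, h15] at hδ; omega
        have h17 : f * DM Y = 4 := by omega
        have h18 : 4 * (f * NN Y) = (f * DM Y) * kap Y := by
          calc 4 * (f * NN Y) = f * (4 * NN Y) := by ring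
            _ = _ := by rw [four_NN hY]; ring
        have h19 : kap Y = 4 := by rw [h16, h17] at h18; omega
        have hok := hY.ok
        rcases fam4 hY h19 with rfl | rfl | rfl | rfl | rfl | rfl | rfl
        · have : f * 3 = 4 := h17
          omega
        · have h20 : f * 4 = 4 := h17
          have h21 : f = 1 := by omega
          subst h21
          exact absurd (hok.2 rfl) (by norm_num)
        · have : f * 6 = 4 := h17
          omega
        · have : f * 10 = 4 := h17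
          omega
        · have : f * 6 = 4 := h17
          omega
        · have : f * 12 = 4 := h17
          omega
        · have : f * 12 = 4 := h17
          omega
  by_cases hp3 : p = 3
  · subst hp3
    have h8 : 3 ^ (δ - 1) ∣ g := by
      have h10 : 3 * 3 ^ (δ - 1) ∣ 3 * (8 * g) := by
        have : 3 * 3 ^ (δ - 1) = 3 ^ δ := by
          rw [← pow_succ']; congr 1; omega
        rw [this, ← mul_assoc]; exact h24
      have h11 := Nat.dvd_of_mul_dvd_mul_left (by norm_num) h10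
      exact (Nat.Coprime.pow_left _ (by norm_num)).dvd_of_dvd_mul_left h11
    have h9 := Nat.le_of_dvd (by omega) h8
    by_cases h10 : δ = 1
    · omega
    · have h11 : δ - 1 + 1 < 3 ^ (δ - 1) := by
        have h12 : ∀ k : ℕ, 1 ≤ k → k + 1 < 3 ^ k := by
          intro k hk
          induction k, hk using Nat.le_induction with
          | base => norm_num
          | succ k hk ih => rw [pow_succ]; omega
        exact h12 _ (by omega)
      omega
  · have h5 : 5 ≤ p := by
      have := hp.two_le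
      by_contra h
      have h7 : p = 4 := by omega
      rw [h7] at hp; exact absurd hp (by decide)
    have hc : Nat.Coprime p 24 := by
      rw [hp.coprime_iff_not_dvd]
      intro h
      have h7 : p ∣ 2 ^ 3 * 3 := h
      rcases hp.dvd_mul.1 h7 with h8 | h8
      · exact hp2 ((Nat.prime_dvd_prime_iff_eq hp Nat.prime_two).1 (hp.dvd_of_dvd_pow h8))
      · exact hp3 ((Nat.prime_dvd_prime_iff_eq hp Nat.prime_three).1 h8)
    have h8 : p ^ δ ∣ g := (Nat.Coprime.pow_left _ hc).dvd_of_dvd_mul_left h24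
    have h9 := Nat.le_of_dvd (by omega) h8
    have h10 : δ < p ^ δ := Nat.lt_pow_self (by omega)
    omega

/-- **NearEqual**, divisibility form: the defect of the `p`-parts divides (as a power of `p`) `24 g`, and `6 g` if
`p = 2` — the bound coming from the order of the outer automorphism group. -/
theorem near_out (hX : Real X p g M') (hY : Real Y p f M) (hdvd : M' ∣ M) {r : ℕ} (hr : r.Prime)
    (ho : orderOf (p : ZMod r) = f * DM Y) (h3 : 3 ≤ f * DM Y) (hrM : r ∣ M')
    (h24 : p ^ (f * NN Y - g * NN X) ∣ 24 * g) (h6 : p = 2 → 2 ^ (f * NN Y - g * NN X) ∣ 6 * g) :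
    (X = Y ∧ g = f) ∨ Exc X Y p g f := by
  rcases D_cases hX hY hdvd hr ho h3 hrM with hD | ⟨rfl, h7, hlt⟩
  · exact near_of_D hX hY hdvd hD (delta_lt hX hY hD h3 h24 h6)
  · exact Or.inr (six_case hX hY hdvd h7 h3 hlt (Or.inr (h6 rfl)))

end

end Cfsg.Agent.H365.Near
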