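import Cfsg.Agent.Lib.Zsigmondy

/-!
# Large Zsigmondy primes (Feit), helper365

`large_zsigmondy` : Feit's theorem on large primitive prime divisors of `q ^ n - 1`.
-/

set_option autoImplicit false

namespace Cfsg.Agent.H365.Zsig

open Polynomial Cfsg.Agent.Lib.Zsigmondy

/-! ### `m ≤ 2 φ(m)²` -/

theorem odd_le_totient_sq : ∀ m : ℕ, Odd m → m ≤ m.totient ^ 2 := by
  intro m
  induction m using Nat.recOnPosPrimePosCoprime with
  | zero => intro h; simp at h
  | one => intro _; simp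
  | prime_pow p k hp hk =>
    intro hodd
    have hp3 : 3 ≤ p := by
      have h2 := hp.two_le
      rcases Nat.lt_or_ge 2 p with h | h
      · exact h
      · exfalso
        obtain rfl : p = 2 := by omega
        exact (Nat.not_even_iff_odd.2 hodd) ((Nat.even_pow.2 ⟨even_two, by omega⟩))
    rw [Nat.totient_prime_pow hp hk]
    obtain ⟨j, rfl⟩ : ∃ j, k = j + 1 := ⟨k - 1, by omega⟩
    simp only [Nat.add_sub_cancel]
    have h1 : 1 ≤ p ^ j := Nat.one_le_pow _ _ hp.pos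
    have h2 : p ≤ (p - 1) ^ 2 := by
      obtain ⟨c, rfl⟩ : ∃ c, p = c + 3 := ⟨p - 3, by omega⟩
      rw [show c + 3 - 1 = c + 2 by omega]
      nlinarith
    calc p ^ (j + 1) = p ^ j * p := pow_succ _ _
      _ ≤ p ^ j * (p - 1) ^ 2 := Nat.mul_le_mul_left _ h2
      _ ≤ p ^ j * p ^ j * (p - 1) ^ 2 := by
        apply Nat.mul_le_mul_right
        exact Nat.le_mul_of_pos_left _ h1
      _ = (p ^ j * (p - 1)) ^ 2 := by ring
  | coprime a b ha hb hab iha ihb =>
    intro hodd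
    rw [Nat.odd_mul] at hodd
    rw [Nat.totient_mul hab, mul_pow]
    exact Nat.mul_le_mul (iha hodd.1) (ihb hodd.2)

theorem le_two_mul_totient_sq {m : ℕ} (hm : 0 < m) : m ≤ 2 * m.totient ^ 2 := by
  obtain ⟨k, l, hl, rfl⟩ := Nat.exists_eq_two_pow_mul_odd (n := m) (by omega)
  have hc : Nat.Coprime (2 ^ k) l := Nat.Coprime.pow_left _ ((Nat.coprime_two_left).2 hl)
  rw [Nat.totient_mul hc, mul_pow]
  have h1 := odd_le_totient_sq l hl
  cases k with
  | zero => simp; omega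
  | succ j =>
    rw [Nat.totient_prime_pow Nat.prime_two (Nat.succ_pos j)]
    simp only [Nat.add_one_sub_one, mul_one]
    have h2 : 1 ≤ 2 ^ j := Nat.one_le_pow _ _ (by norm_num)
    calc 2 ^ (j + 1) * l = 2 * (2 ^ j * l) := by ring
      _ ≤ 2 * ((2 ^ j) ^ 2 * l.totient ^ 2) := by
        apply Nat.mul_le_mul_left
        apply Nat.mul_le_mul _ h1
        exact Nat.le_self_pow (by norm_num) _
      _ = _ := by ring

/-! ### numerical inequalities -/

theorem num5 : ∀ x : ℕ, 3 ≤ x → 50 * x ^ 2 + 5 < 2 ^ (3 * x) := by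
  intro x hx
  induction x, hx using Nat.le_induction with
  | base => norm_num
  | succ x hx ih =>
    have : 2 ^ (3 * (x + 1)) = 8 * 2 ^ (3 * x) := by rw [mul_add, pow_add]; ring
    rw [this]; nlinarith

theorem num7 : ∀ x : ℕ, 2 ≤ x → 98 * x ^ 2 + 7 < 2 ^ (5 * x) := by
  intro x hx
  induction x, hx using Nat.le_induction with
  | base => norm_num
  | succ x hx ih =>
    have : 2 ^ (5 * (x + 1)) = 32 * 2 ^ (5 * x) := by rw [mul_add, pow_add]; ring
    rw [this]; nlinarith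

theorem num11 : ∀ x : ℕ, 1 ≤ x → 242 * x ^ 2 + 11 < 2 ^ (9 * x) := by
  intro x hx
  induction x, hx using Nat.le_induction with
  | base => norm_num
  | succ x hx ih =>
    have : 2 ^ (9 * (x + 1)) = 512 * 2 ^ (9 * x) := by rw [mul_add, pow_add]; ring
    rw [this]; nlinarith

theorem num_step {x y z : ℕ} (hx : 1 ≤ x) (hz : 5 ≤ z) (hzy : z ≤ y)
    (h : 2 * x ^ 2 * z ^ 2 + z < 2 ^ ((z - 2) * x)) : 2 * x ^ 2 * y ^ 2 + y < 2 ^ ((y - 2) * x) := by
  induction y, hzy using Nat.le_induction with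
  | base => exact h
  | succ y hy ih =>
    have h1 : (y + 1 - 2) * x = (y - 2) * x + x := by
      rw [show y + 1 - 2 = (y - 2) + 1 by omega]; ring
    rw [h1, pow_add]
    have h2 : 2 ≤ 2 ^ x := by
      calc 2 = 2 ^ 1 := rfl
        _ ≤ 2 ^ x := Nat.pow_le_pow_right (by norm_num) hx
    have h3 : (y + 1) ^ 2 ≤ 2 * y ^ 2 := by nlinarith
    calc 2 * x ^ 2 * (y + 1) ^ 2 + (y + 1) ≤ 2 * x ^ 2 * (2 * y ^ 2) + 2 * y := by
          have := Nat.mul_le_mul_left (2 * x ^ 2) h3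
          omega
      _ = (2 * x ^ 2 * y ^ 2 + y) * 2 := by ring
      _ < 2 ^ ((y - 2) * x) * 2 := by omega
      _ ≤ 2 ^ ((y - 2) * x) * 2 ^ x := Nat.mul_le_mul_left _ h2

/-- The numerical inequality for `r ≥ 5`. -/
theorem num_main {x y : ℕ} (h : (5 ≤ y ∧ 3 ≤ x) ∨ (7 ≤ y ∧ 2 ≤ x) ∨ (11 ≤ y ∧ 1 ≤ x)) :
    (2 * y * x ^ 2 + 1) * y < 2 ^ ((y - 2) * x) := by
  have key : 2 * x ^ 2 * y ^ 2 + y < 2 ^ ((y - 2) * x) := by
    rcases h with ⟨h1, h2⟩ | ⟨h1, h2⟩ | ⟨h1, h2⟩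
    · refine num_step (by omega) le_rfl h1 ?_
      have := num5 x h2
      calc 2 * x ^ 2 * 5 ^ 2 + 5 = 50 * x ^ 2 + 5 := by ring
        _ < _ := this
    · refine num_step (by omega) (by norm_num) h1 ?_
      have := num7 x h2
      calc 2 * x ^ 2 * 7 ^ 2 + 7 = 98 * x ^ 2 + 7 := by ring
        _ < _ := this
    · refine num_step (by omega) (by norm_num) h1 ?_
      have := num11 x h2
      calc 2 * x ^ 2 * 11 ^ 2 + 11 = 242 * x ^ 2 + 11 := by ring
        _ < _ := this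
  calc (2 * y * x ^ 2 + 1) * y = 2 * x ^ 2 * y ^ 2 + y := by ring
    _ < _ := key

theorem pow_sub_ge {b r : ℕ} (hb : 2 ≤ b) (hr : 3 ≤ r) : b ^ (r - 2) * (b + 1) ≤ b ^ r - 1 := by
  obtain ⟨s, rfl⟩ : ∃ s, r = s + 3 := ⟨r - 3, by omega⟩
  rw [show s + 3 - 2 = s + 1 by omega]
  have h1 : 1 ≤ b ^ s := Nat.one_le_pow _ _ (by omega)
  have h2 : b ^ (s + 3) = b ^ s * (b * b * b) := by ring
  have h3 : b ^ (s + 1) * (b + 1) = b ^ s * (b * b + b) := by ring
  rw [h2, h3]
  have h4 : b * b + b + 1 ≤ b * b * b := by nlinarith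
  have h5 : b ^ s * (b * b + b + 1) ≤ b ^ s * (b * b * b) := Nat.mul_le_mul_left _ h4
  have h6 : b ^ s * (b * b + b + 1) = b ^ s * (b * b + b) + b ^ s := by ring
  omega

/-! ### The value `Φ_n(q)` -/

/-- `Φ_n(q)` as a natural number -/
noncomputable def Ph (n q : ℕ) : ℕ := ((cyclotomic n ℤ).eval (q : ℤ)).natAbs

theorem Ph_cast {n q : ℕ} (hq : 1 ≤ q) : ((cyclotomic n ℤ).eval (q : ℤ)) = (Ph n q : ℤ) := by
  rw [Ph]
  refine (Int.natAbs_of_nonneg ?_).symm
  exact cyclotomic_nonneg n (by exact_mod_cast hq)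

theorem Ph_real {n q : ℕ} (hq : 1 ≤ q) : ((cyclotomic n ℝ).eval (q : ℝ)) = (Ph n q : ℝ) := by
  have h1 := congrArg (fun z : ℤ => (z : ℝ)) (Ph_cast (n := n) hq)
  have h2 : (((cyclotomic n ℤ).eval (q : ℤ) : ℤ) : ℝ) = (cyclotomic n ℝ).eval (q : ℝ) := by
    rw [← map_cyclotomic_int n ℝ]
    have := (eval_map_apply (p := cyclotomic n ℤ) (f := Int.castRingHom ℝ) (x := (q : ℤ)))
    simpa using this.symm
  simp only [h2] at h1
  simpa using h1

theorem Ph_dvd {n q : ℕ} (hn : 0 < n) (hq : 1 ≤ q) : Ph n q ∣ q ^ n - 1 := by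
  have h := cyclotomic.dvd_X_pow_sub_one n ℤ
  have h' := eval_dvd (x := (q : ℤ)) h
  rw [Ph_cast hq] at h'
  have h1 : ((q ^ n - 1 : ℕ) : ℤ) = (X ^ n - 1 : ℤ[X]).eval (q : ℤ) := by
    rw [Nat.cast_sub (Nat.one_le_pow _ _ hq)]; simp
  rw [← h1] at h'
  exact_mod_cast h'

theorem Ph_gt_one {n q : ℕ} (hn : 2 ≤ n) (hq : 2 ≤ q) : 1 < Ph n q := by
  have hNgt : q - 1 < Ph n q := sub_one_lt_natAbs_cyclotomic_eval (by omega) (by omega)
  omega

/-- A prime divisor of `Φ_n(q)` has `n` as order of `q`, or divides `n` and the order is the part of `n` prime to it. -/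
theorem prime_dvd_Ph {n q r : ℕ} (hn : 2 ≤ n) (hq : 2 ≤ q) (hr : r.Prime) (hrN : r ∣ Ph n q) :
    orderOf (q : ZMod r) = n ∨ ∃ k m : ℕ, n = r ^ (k + 1) * m ∧ ¬ r ∣ m ∧
      orderOf (q : ZMod r) = m ∧ m ∣ r - 1 ∧ 0 < m := by
  have := Fact.mk hr
  obtain ⟨k, m, hm, hnk⟩ := Nat.exists_eq_pow_mul_and_not_dvd (n := n) (by omega) r hr.ne_one
  have hroot : (cyclotomic (r ^ k * m) (ZMod r)).IsRoot (q : ZMod r) := by
    rw [← hnk]
    have h1 : (((cyclotomic n ℤ).eval (q : ℤ) : ℤ) : ZMod r) = 0 := by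
      rw [ZMod.intCast_zmod_eq_zero_iff_dvd]
      exact Int.natCast_dvd.2 hrN
    rw [IsRoot.def, ← map_cyclotomic_int n (ZMod r)]
    have h3 : (q : ZMod r) = (Int.castRingHom (ZMod r)) (q : ℤ) := by simp
    rw [h3, eval_map_apply]
    simpa using h1
  have : NeZero (m : ZMod r) := ⟨fun h => hm ((ZMod.natCast_eq_zero_iff m r).1 h)⟩
  rw [isRoot_cyclotomic_prime_pow_mul_iff_of_charP] at hroot
  have hord : orderOf (q : ZMod r) = m := hroot.eq_orderOf.symm
  have hmpos : 0 < m := Nat.pos_of_ne_zero (by rintro rfl; exact hm (dvd_zero r))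
  cases k with
  | zero => left; rw [hord, hnk]; simp
  | succ k =>
    right
    refine ⟨k, m, hnk, hm, hord, ?_, hmpos⟩
    rw [← hord]
    apply orderOf_dvd_pred hr
    intro hra
    have h0 : (q : ZMod r) = 0 := (ZMod.natCast_eq_zero_iff q r).2 hra
    have := hroot.pow_eq_one
    rw [h0, zero_pow hmpos.ne'] at this
    exact zero_ne_one this

/-- The imprimitive prime is the largest prime divisor of `n`. -/
theorem eq_max {n r k m P : ℕ} (hr : r.Prime) (h1 : n = r ^ (k + 1) * m) (h3 : m ∣ r - 1) (hm : 0 < m)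
    (hP : P.Prime) (hPn : P ∣ n) (hmax : ∀ s : ℕ, s.Prime → s ∣ n → s ≤ P) : r = P := by
  apply le_antisymm
  · exact hmax r hr (h1 ▸ Dvd.dvd.mul_right (dvd_pow_self r (Nat.succ_ne_zero k)) m)
  · rw [h1] at hPn
    rcases hP.dvd_mul.1 hPn with h | h
    · exact (Nat.prime_dvd_prime_iff_eq hP hr).1 (hP.dvd_of_dvd_pow h) |>.le
    · have := Nat.le_of_dvd (by have := hr.two_le; omega) (h.trans h3)
      omega

/-- The imprimitive prime divides `Φ_n(q)` at most once (`n ≥ 3`). -/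
theorem sq_not_dvd {n q r k m : ℕ} (hn : 3 ≤ n) (hq : 2 ≤ q) (hr : r.Prime) (hnk : n = r ^ (k + 1) * m)
    (hrm : ¬ r ∣ m) (hord : orderOf (q : ZMod r) = m) (hmr : m ∣ r - 1) (hm0 : 0 < m) :
    ¬ r ^ 2 ∣ Ph n q := by
  intro hsq
  rcases Nat.lt_or_ge 2 r with hr2 | hr2
  swap
  · obtain rfl : r = 2 := le_antisymm hr2 hr.two_le
    have hm1 : m = 1 := Nat.dvd_one.1 (by simpa using hmr)
    subst hm1
    have hev : ((cyclotomic n ℤ).eval (q : ℤ)) = (q : ℤ) ^ 2 ^ k + 1 := by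
      have := eval_cyclotomic_pow Nat.prime_two 1 k (q : ℤ)
      rw [show n = 1 * 2 ^ (k + 1) by rw [hnk]; ring, this]
      simp [cyclotomic_two]
    have hNa : Ph n q = q ^ 2 ^ k + 1 := by
      have : (Ph n q : ℤ) = (q : ℤ) ^ 2 ^ k + 1 := by rw [← Ph_cast (by omega), hev]
      exact_mod_cast this
    cases k with
    | zero => simp at hnk; omega
    | succ k =>
      have hsq' : Ph n q = (q ^ 2 ^ k) ^ 2 + 1 := by rw [hNa, ← pow_mul, pow_succ]
      rw [hsq'] at hsq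
      have h5 : ((q ^ 2 ^ k) ^ 2 + 1) % 4 = 0 := Nat.mod_eq_zero_of_dvd (by simpa using hsq)
      have h6 : (q ^ 2 ^ k) % 4 < 4 := Nat.mod_lt _ (by norm_num)
      rw [Nat.add_mod, Nat.pow_mod] at h5
      interval_cases (q ^ 2 ^ k) % 4 <;> simp at h5
  · have hodd : Odd r := hr.odd_of_ne_two (by omega)
    have hdvd : ((q : ℤ) ^ (r ^ k * m) - 1) * (Ph n q : ℤ) ∣ (q : ℤ) ^ n - 1 := by
      have hprop : r ^ k * m ∈ n.properDivisors := by
        rw [Nat.mem_properDivisors]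
        refine ⟨⟨r, by rw [hnk]; ring⟩, ?_⟩
        rw [hnk]
        have : r ^ k * m < r ^ k * m * r := by
          have : 0 < r ^ k * m := Nat.mul_pos (pow_pos hr.pos k) hm0
          nlinarith
        calc r ^ k * m < r ^ k * m * r := this
          _ = r ^ (k + 1) * m := by ring
      have := X_pow_sub_one_mul_cyclotomic_dvd_X_pow_sub_one_of_dvd ℤ hprop
      have h' := eval_dvd (x := (q : ℤ)) this
      simpa [Ph_cast (n := n) (q := q) (by omega)] using h'
    set c : ℕ := q ^ (r ^ k * m) with hc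
    have hc1 : 1 < c := Nat.one_lt_pow (Nat.mul_pos (pow_pos hr.pos k) hm0).ne' (by omega)
    have hcr : q ^ n = c ^ r := by rw [hc, ← pow_mul, hnk]; congr 1; ring
    have hdvd' : (c - 1) * Ph n q ∣ c ^ r - 1 := by
      have h1 : (((c - 1) * Ph n q : ℕ) : ℤ) ∣ ((c ^ r - 1 : ℕ) : ℤ) := by
        rw [Nat.cast_mul, Nat.cast_sub hc1.le, Nat.cast_sub (Nat.one_le_pow _ _ (by omega)), ← hcr]
        push_cast
        simpa [hc] using hdvd
      exact_mod_cast h1
    have hrc : r ∣ c - 1 := by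
      rw [hc, dvd_pow_sub_one_iff (by omega), hord]
      exact Dvd.intro_left _ rfl
    have hrc' : ¬ r ∣ c := by
      intro h
      have : r ∣ 1 := by
        have h1 : c = (c - 1) + 1 := by omega
        rw [h1] at h
        exact (Nat.dvd_add_right hrc).1 h
      exact hr.one_lt.ne' (Nat.dvd_one.1 this)
    have := Fact.mk hr
    have hlte : padicValNat r (c ^ r - 1 ^ r) = padicValNat r (c - 1) + padicValNat r r :=
      padicValNat.pow_sub_pow hodd hc1 hrc hrc' hr.ne_zero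
    rw [one_pow, padicValNat_self] at hlte
    have hN1 := Ph_gt_one (n := n) (q := q) (by omega) hq
    have hle : padicValNat r ((c - 1) * Ph n q) ≤ padicValNat r (c ^ r - 1) := by
      apply (padicValNat_dvd_iff_le (p := r) ?_).1
      · exact (pow_padicValNat_dvd).trans hdvd'
      · have : 1 < c ^ r := Nat.one_lt_pow hr.ne_zero hc1
        omega
    rw [padicValNat.mul (by omega) (by omega), hlte] at hle
    have hle1 : padicValNat r (Ph n q) ≤ 1 := by omega
    have : 2 ≤ padicValNat r (Ph n q) := (padicValNat_dvd_iff_le (by omega)).1 hsq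
    omega

/-- `q` has a large Zsigmondy prime for `n`. -/
def Large (q n : ℕ) : Prop :=
  ∃ p : ℕ, p.Prime ∧ p ∣ q ^ n - 1 ∧ (∀ i : ℕ, 1 ≤ i → i < n → ¬ p ∣ q ^ i - 1) ∧ (n + 1 < p ∨ p ^ 2 ∣ q ^ n - 1)

theorem large_of_orderOf {q n p : ℕ} (hq : 2 ≤ q) (hp : p.Prime) (h : orderOf (q : ZMod p) = n)
    (h2 : n + 1 < p ∨ p ^ 2 ∣ q ^ n - 1) : Large q n := by
  refine ⟨p, hp, ?_, ?_, h2⟩
  · rw [dvd_pow_sub_one_iff (by omega), h]
  · intro i hi hin
    rw [dvd_pow_sub_one_iff (by omega), h]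
    intro hd
    have := Nat.le_of_dvd (by omega) hd
    omega

/-- Without a large Zsigmondy prime, a prime `p` with `orderOf q = n` is `n + 1`, and its square does not divide `Φ_n(q)`. -/
theorem eq_of_not_large {q n p : ℕ} (hq : 2 ≤ q) (hn : 2 ≤ n) (hL : ¬ Large q n) (hp : p.Prime)
    (h : orderOf (q : ZMod p) = n) : p = n + 1 ∧ ¬ p ^ 2 ∣ Ph n q := by
  have hpa : ¬ p ∣ q := by
    intro hd
    have := Fact.mk hp
    have h0 : (q : ZMod p) = 0 := (ZMod.natCast_eq_zero_iff q p).2 hd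
    have h1 : (q : ZMod p) ^ n = 1 := by rw [← h]; exact pow_orderOf_eq_one _
    rw [h0, zero_pow (by omega)] at h1
    exact zero_ne_one h1
  have hd : n ∣ p - 1 := by rw [← h]; exact orderOf_dvd_pred hp hpa
  have hle := Nat.le_of_dvd (by have := hp.two_le; omega) hd
  constructor
  · by_contra hne
    exact hL (large_of_orderOf hq hp h (Or.inl (by have := hp.two_le; omega)))
  · intro hsq
    exact hL (large_of_orderOf hq hp h (Or.inr (hsq.trans (Ph_dvd (by omega) (by omega)))))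

/-- Without a large Zsigmondy prime (and `n ≥ 3`, `(q, n) ≠ (2, 6)`): `n + 1` is prime, and `Φ_n(q)` divides `(n + 1) P`,
`P` the largest prime divisor of `n`. -/
theorem Ph_dvd_of_not_large {q n P : ℕ} (hq : 2 ≤ q) (hn : 3 ≤ n) (hL : ¬ Large q n) (h6 : ¬ (q = 2 ∧ n = 6))
    (hP : P.Prime) (hPn : P ∣ n) (hmax : ∀ s : ℕ, s.Prime → s ∣ n → s ≤ P) :
    (n + 1).Prime ∧ Ph n q ∣ (n + 1) * P := by
  have hn1 : (n + 1).Prime := by
    obtain ⟨p, hp, hord⟩ := exists_prime_orderOf hq (by omega : 2 ≤ n) (by omega) h6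
    have := (eq_of_not_large hq (by omega) hL hp hord).1
    rwa [← this]
  refine ⟨hn1, ?_⟩
  have hN1 := Ph_gt_one (n := n) (q := q) (by omega) hq
  have hne : n + 1 ≠ P := by
    intro h
    have := Nat.le_of_dvd (by omega) hPn
    omega
  rw [← Nat.factorization_le_iff_dvd (by omega) (by have := hP.pos; positivity)]
  intro s
  by_cases hs : s.Prime
  swap
  · rw [Nat.factorization_eq_zero_of_not_prime _ hs]; exact Nat.zero_le _
  by_cases hsN : s ∣ Ph n q
  swap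
  · rw [Nat.factorization_eq_zero_of_not_dvd hsN]; exact Nat.zero_le _
  have key : ¬ s ^ 2 ∣ Ph n q ∧ (s = n + 1 ∨ s = P) := by
    rcases prime_dvd_Ph (by omega) hq hs hsN with h | ⟨k, m, h1, h2, h3, h4, h5⟩
    · have := eq_of_not_large hq (by omega) hL hs h
      exact ⟨this.2, Or.inl this.1⟩
    · exact ⟨sq_not_dvd hn hq hs h1 h2 h3 h4 h5, Or.inr (eq_max hs h1 h4 h5 hP hPn hmax)⟩
  have h1 : (Ph n q).factorization s ≤ 1 := by
    by_contra hlt
    push Not at hlt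
    exact key.1 ((hs.pow_dvd_iff_le_factorization (by omega)).2 hlt)
  refine h1.trans ?_
  have hsd : s ∣ (n + 1) * P := by
    rcases key.2 with rfl | rfl
    · exact Dvd.intro _ rfl
    · exact Dvd.intro_left _ rfl
  exact (hs.dvd_iff_one_le_factorization (by have := hP.pos; positivity)).1 hsd

/-! ### The lower bound -/

theorem Ph_mul {q P k m : ℕ} (hq : 2 ≤ q) (hP : P.Prime) (hm : ¬ P ∣ m) :
    Ph m ((q ^ P ^ k) ^ P) = Ph (P ^ (k + 1) * m) q * Ph m (q ^ P ^ k) := by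
  have hb : 1 ≤ q ^ P ^ k := Nat.one_le_pow _ _ (by omega)
  have h1 := eval_cyclotomic_pow hP m k (q : ℤ)
  have h2 := eval_cyclotomic_mul hP hm ((q ^ P ^ k : ℕ) : ℤ)
  have h3 : (cyclotomic (m * P) ℤ).eval ((q ^ P ^ k : ℕ) : ℤ) = (Ph (P ^ (k + 1) * m) q : ℤ) := by
    rw [← Ph_cast (by omega), mul_comm (P ^ (k + 1)) m, h1]; push_cast; rfl
  rw [h3, Ph_cast hb] at h2
  have h4 : (((q ^ P ^ k : ℕ) : ℤ) ^ P) = (((q ^ P ^ k) ^ P : ℕ) : ℤ) := by push_cast; rfl
  rw [h4, Ph_cast (Nat.one_le_pow _ _ (by omega))] at h2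
  exact_mod_cast h2

theorem Ph_upper {b m : ℕ} (hb : 2 ≤ b) : Ph m b ≤ (b + 1) ^ m.totient := by
  have hb1 : (1 : ℝ) < b := by exact_mod_cast (by omega : 1 < b)
  have h := cyclotomic_eval_le_add_one_pow_totient (q := (b : ℝ)) hb1 m
  rw [Ph_real (by omega)] at h
  exact_mod_cast h

theorem Ph_lower {b m : ℕ} (hb : 2 ≤ b) : (b - 1) ^ m.totient ≤ Ph m b := by
  have hb1 : (1 : ℝ) < b := by exact_mod_cast (by omega : 1 < b)
  have h := sub_one_pow_totient_le_cyclotomic_eval (q := (b : ℝ)) hb1 m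
  rw [Ph_real (by omega)] at h
  have h2 : ((b - 1 : ℕ) : ℝ) = (b : ℝ) - 1 := by rw [Nat.cast_sub (by omega)]; simp
  rw [← h2] at h
  exact_mod_cast h

/-- The lower bound for `Φ_n(q)`, `n = P ^ (k + 1) m`. -/
theorem Ph_ge {q P k m : ℕ} (hq : 2 ≤ q) (hP : P.Prime) (hP3 : 3 ≤ P) (hm : ¬ P ∣ m) :
    q ^ (P ^ k * ((P - 2) * m.totient)) ≤ Ph (P ^ (k + 1) * m) q := by
  set b := q ^ P ^ k with hb
  have hb2 : 2 ≤ b := le_trans hq (Nat.le_self_pow (pow_pos hP.pos k).ne' q)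
  have h1 := Ph_mul (k := k) hq hP hm
  rw [← hb] at h1
  have h2 := Ph_upper (m := m) hb2
  have hbP : 2 ≤ b ^ P := le_trans hb2 (Nat.le_self_pow (by omega) b)
  have h3 := Ph_lower (m := m) hbP
  have h4 : (b ^ (P - 2) * (b + 1)) ^ m.totient ≤ (b ^ P - 1) ^ m.totient :=
    Nat.pow_le_pow_left (pow_sub_ge hb2 hP3) _
  have h5 : (b ^ (P - 2)) ^ m.totient * (b + 1) ^ m.totient ≤ Ph (P ^ (k + 1) * m) q * (b + 1) ^ m.totient := by
    rw [← mul_pow]
    calc _ ≤ _ := h4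
      _ ≤ _ := h3
      _ = _ := h1
      _ ≤ _ := Nat.mul_le_mul_left _ h2
  have h6 := Nat.le_of_mul_le_mul_right h5 (by positivity)
  calc q ^ (P ^ k * ((P - 2) * m.totient)) = (b ^ (P - 2)) ^ m.totient := by
        rw [hb, ← pow_mul, ← pow_mul]
    _ ≤ _ := h6

theorem Ph_two {q k : ℕ} (hq : 2 ≤ q) : Ph (2 ^ (k + 1)) q = q ^ 2 ^ k + 1 := by
  have := eval_cyclotomic_pow Nat.prime_two 1 k (q : ℤ)
  rw [one_mul, one_mul, Ph_cast (by omega), cyclotomic_two] at this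
  have h : (Ph (2 ^ (k + 1)) q : ℤ) = ((q ^ 2 ^ k + 1 : ℕ) : ℤ) := by rw [this]; simp
  exact_mod_cast h

theorem Ph_three {q k a : ℕ} (hq : 2 ≤ q) :
    Ph (3 ^ (k + 1) * 2 ^ (a + 1)) q + q ^ (3 ^ k * 2 ^ a) = (q ^ (3 ^ k * 2 ^ a)) ^ 2 + 1 := by
  have h1 := eval_cyclotomic_pow Nat.prime_three (2 ^ (a + 1)) k (q : ℤ)
  have h2 := eval_cyclotomic_pow Nat.prime_two 3 a ((q : ℤ) ^ 3 ^ k)
  rw [mul_comm (2 ^ (a + 1)) (3 ^ (k + 1)), Ph_cast (by omega), mul_comm (2 ^ (a + 1)) 3, h2,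
    show 3 * 2 = 6 from rfl, cyclotomic_six] at h1
  have h : (Ph (3 ^ (k + 1) * 2 ^ (a + 1)) q : ℤ) + ((q ^ (3 ^ k * 2 ^ a) : ℕ) : ℤ) =
      (((q ^ (3 ^ k * 2 ^ a)) ^ 2 + 1 : ℕ) : ℤ) := by
    rw [h1]; simp only [eval_add, eval_sub, eval_pow, eval_X, eval_one, pow_mul]; push_cast; ring
  exact_mod_cast h

/-! ### explicit examples -/

theorem large_ex {q n p : ℕ} (hp : p.Prime) (h1 : p ∣ q ^ n - 1)
    (h2 : ∀ i ∈ Finset.range n, 1 ≤ i → ¬ p ∣ q ^ i - 1) (h3 : n + 1 < p) : Large q n :=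
  ⟨p, hp, h1, fun i hi hin => h2 i (Finset.mem_range.2 hin) hi, Or.inl h3⟩

theorem large_4_6 : Large 4 6 := large_ex (p := 13) (by norm_num) (by norm_num) (by decide) (by norm_num)
theorem large_3_10 : Large 3 10 := large_ex (p := 61) (by norm_num) (by norm_num) (by decide) (by norm_num)
theorem large_2_30 : Large 2 30 := large_ex (p := 331) (by norm_num) (by norm_num) (by decide) (by norm_num)

/-! ### The main theorem -/

theorem two_pow_ge : ∀ t : ℕ, 4 ≤ t → 4 * t ≤ 2 ^ t := by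
  intro t ht
  induction t, ht using Nat.le_induction with
  | base => norm_num
  | succ t ht ih => rw [pow_succ]; omega

theorem case_two {q n : ℕ} (hq : 2 ≤ q) (hn : 3 ≤ n) (k m : ℕ) (hnk : n = 2 ^ (k + 1) * m) (hm : ¬ 2 ∣ m)
    (hmax : ∀ s : ℕ, s.Prime → s ∣ n → s ≤ 2) (hp : (n + 1).Prime) (hd : Ph n q ∣ (n + 1) * 2)
    (h2 : ¬ (q = 2 ∧ (n = 4 ∨ n = 6 ∨ n = 10 ∨ n = 12 ∨ n = 18)))
    (h3 : ¬ (q = 3 ∧ (n = 4 ∨ n = 6))) : False := by
  have hm1 : m = 1 := by
    by_contra hne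
    obtain ⟨s, hs, hsm⟩ := Nat.exists_prime_and_dvd hne
    have h1 := hmax s hs (hsm.trans (Dvd.intro_left _ hnk.symm))
    have : s = 2 := le_antisymm h1 hs.two_le
    exact hm (this ▸ hsm)
  subst hm1
  rw [mul_one] at hnk
  rw [hnk, Ph_two hq] at hd
  have hle := Nat.le_of_dvd (by positivity) hd
  match k, hnk, hle with
  | 0, hnk, _ => simp at hnk; omega
  | 1, hnk, hle =>
    norm_num at hle hnk
    have : q ≤ 3 := by nlinarith
    interval_cases q
    · exact h2 ⟨rfl, Or.inl hnk⟩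
    · exact h3 ⟨rfl, Or.inl hnk⟩
  | 2, hnk, _ => subst hnk; norm_num at hp
  | k + 3, _, hle =>
    have h8 : 8 ≤ 2 ^ (k + 3) := by
      calc 8 = 2 ^ 3 := rfl
        _ ≤ _ := Nat.pow_le_pow_right (by norm_num) (by omega)
    have h9 : (2 : ℕ) ^ (k + 3 + 1) = 2 * 2 ^ (k + 3) := by ring
    rw [h9] at hle
    generalize 2 ^ (k + 3) = u at hle h8
    have h10 : 2 ^ u ≤ q ^ u := Nat.pow_le_pow_left hq u
    have h11 : ∀ u : ℕ, 8 ≤ u → 16 * u ≤ 2 ^ u := by
      intro t ht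
      induction t, ht using Nat.le_induction with
      | base => norm_num
      | succ t ht ih => rw [pow_succ]; omega
    have := h11 u h8
    omega

theorem case_three {q n : ℕ} (hq : 2 ≤ q) (k m : ℕ) (hnk : n = 3 ^ (k + 1) * m) (hm0 : m ≠ 0)
    (hm : ¬ 3 ∣ m) (heven : 2 ∣ m)
    (hmax : ∀ s : ℕ, s.Prime → s ∣ n → s ≤ 3) (hL : ¬ Large q n) (hd : Ph n q ∣ (n + 1) * 3)
    (h2 : ¬ (q = 2 ∧ (n = 4 ∨ n = 6 ∨ n = 10 ∨ n = 12 ∨ n = 18)))
    (h3 : ¬ (q = 3 ∧ (n = 4 ∨ n = 6))) (h4 : ¬ (q = 5 ∧ n = 6)) : False := by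
  have hm2 : m = 2 ^ m.primeFactorsList.length := by
    refine Nat.eq_prime_pow_of_unique_prime_dvd hm0 ?_
    intro s hs hsm
    have h1 := hmax s hs (hsm.trans (Dvd.intro_left _ hnk.symm))
    have h2 := hs.two_le
    rcases (by omega : s = 2 ∨ s = 3) with h | h
    · exact h
    · exact absurd (h ▸ hsm) hm
  obtain ⟨a, ha⟩ : ∃ a, m.primeFactorsList.length = a + 1 := by
    refine Nat.exists_eq_succ_of_ne_zero ?_
    intro h0
    rw [h0] at hm2
    omega
  rw [ha] at hm2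
  subst hm2
  have hP := Ph_three (q := q) (k := k) (a := a) hq
  rw [← hnk] at hP
  set t := 3 ^ k * 2 ^ a with ht
  have hn6 : n = 6 * t := by rw [hnk, ht]; ring
  have ht1 : 1 ≤ t := Nat.mul_pos (by positivity) (by positivity)
  have hle := Nat.le_of_dvd (by positivity) hd
  clear_value t
  subst hn6
  rcases (by omega : t = 1 ∨ t = 2 ∨ t = 3 ∨ 4 ≤ t) with h | h | h | h
  · subst h
    rw [pow_one] at hP
    have : q ≤ 5 := by
      by_contra hlt
      push Not at hlt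
      nlinarith
    interval_cases q
    · exact h2 ⟨rfl, by norm_num⟩
    · exact h3 ⟨rfl, by norm_num⟩
    · exact hL large_4_6
    · exact h4 ⟨rfl, by norm_num⟩
  · subst h
    have : q < 3 := by
      by_contra hlt
      push Not at hlt
      have : 9 ≤ q ^ 2 := by nlinarith
      nlinarith
    interval_cases q
    exact h2 ⟨rfl, by norm_num⟩
  · subst h
    have : q < 3 := by
      by_contra hlt
      push Not at hlt
      have : 27 ≤ q ^ 3 := by
        calc 27 = 3 ^ 3 := rfl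
          _ ≤ q ^ 3 := Nat.pow_le_pow_left hlt 3
      nlinarith
    interval_cases q
    exact h2 ⟨rfl, by norm_num⟩
  · have h10 : 2 ^ t ≤ q ^ t := Nat.pow_le_pow_left hq t
    have h11 := two_pow_ge t h
    nlinarith

theorem case_ge_five {q n : ℕ} (hq : 2 ≤ q) (P k m : ℕ) (hP : P.Prime) (hP5 : 5 ≤ P) (hnk : n = P ^ (k + 1) * m)
    (hm0 : m ≠ 0) (hm : ¬ P ∣ m) (heven : 2 ∣ m)
    (hL : ¬ Large q n) (hp : (n + 1).Prime) (hd : Ph n q ∣ (n + 1) * P)
    (h2 : ¬ (q = 2 ∧ (n = 4 ∨ n = 6 ∨ n = 10 ∨ n = 12 ∨ n = 18))) : False := by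
  have hge := Ph_ge (k := k) hq hP (by omega) hm
  rw [← hnk] at hge
  have hle := Nat.le_of_dvd (by positivity) hd
  have hme := le_two_mul_totient_sq (Nat.pos_of_ne_zero hm0)
  have he1 : 1 ≤ m.totient := Nat.totient_pos.2 (Nat.pos_of_ne_zero hm0)
  have ht1 : 1 ≤ P ^ k := Nat.one_le_pow _ _ hP.pos
  have hx1 : 1 ≤ P ^ k * m.totient := Nat.mul_pos ht1 he1
  by_cases hc : (5 ≤ P ∧ 3 ≤ P ^ k * m.totient) ∨ (7 ≤ P ∧ 2 ≤ P ^ k * m.totient) ∨ (11 ≤ P ∧ 1 ≤ P ^ k * m.totient)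
  · have hmain := num_main hc
    have h5 : 2 ^ ((P - 2) * (P ^ k * m.totient)) ≤ q ^ (P ^ k * ((P - 2) * m.totient)) := by
      rw [show P ^ k * ((P - 2) * m.totient) = (P - 2) * (P ^ k * m.totient) by ring]
      exact Nat.pow_le_pow_left hq _
    have h6 : n ≤ 2 * P * (P ^ k * m.totient) ^ 2 := by
      rw [hnk]
      calc P ^ (k + 1) * m ≤ P ^ (k + 1) * (2 * m.totient ^ 2) := Nat.mul_le_mul_left _ hme
        _ = 2 * P * (P ^ k * m.totient ^ 2) := by ring
        _ ≤ 2 * P * (P ^ k * (P ^ k * m.totient ^ 2)) := by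
          apply Nat.mul_le_mul_left
          exact Nat.le_mul_of_pos_left _ ht1
        _ = _ := by ring
    have h7 : (n + 1) * P ≤ (2 * P * (P ^ k * m.totient) ^ 2 + 1) * P := Nat.mul_le_mul_right _ (by omega)
    omega
  · push Not at hc
    obtain ⟨hc1, hc2, hc3⟩ := hc
    have hx2 := hc1 hP5
    have hP11 : P < 11 := by
      by_contra h
      push Not at h
      have := hc3 h
      omega
    have hP57 : P = 5 ∨ (P = 7 ∧ P ^ k * m.totient = 1) := by
      rcases (by omega : P = 5 ∨ P = 6 ∨ P = 7 ∨ P = 8 ∨ P = 9 ∨ P = 10) with h | h | h | h | h | h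
      · exact Or.inl h
      · subst h; norm_num at hP
      · exact Or.inr ⟨h, by have := hc2 (by omega); omega⟩
      · subst h; norm_num at hP
      · subst h; norm_num at hP
      · subst h; norm_num at hP
    have hk0 : k = 0 := by
      by_contra hk
      have h1 : P ^ 1 ≤ P ^ k := Nat.pow_le_pow_right hP.pos (by omega)
      have h2 : P ^ k ≤ P ^ k * m.totient := Nat.le_mul_of_pos_right _ he1
      rw [pow_one] at h1
      omega
    subst hk0
    simp only [pow_zero, one_mul, zero_add, pow_one] at *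
    have hm12 : m.totient = 1 → m = 2 := by
      intro h
      rcases (Nat.totient_eq_one_iff.1 h) with h | h
      · subst h; omega
      · exact h
    rcases hP57 with rfl | ⟨rfl, hx⟩
    · rcases (by omega : m.totient = 1 ∨ m.totient = 2) with he | he
      · have := hm12 he
        subst this
        rw [he] at hge
        have hn10 : n = 10 := by omega
        subst hn10
        have hq3 : q < 4 := by
          by_contra hlt
          push Not at hlt
          have : 64 ≤ q ^ 3 := by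
            calc 64 = 4 ^ 3 := rfl
              _ ≤ q ^ 3 := Nat.pow_le_pow_left hlt 3
          norm_num at hge
          omega
        interval_cases q
        · exact h2 ⟨rfl, by norm_num⟩
        · exact hL large_3_10
      · rw [he] at hme hge
        have hm8 : m ≤ 8 := by omega
        have hm46 : m = 4 ∨ m = 6 := by
          interval_cases m
          · simp at hm0
          · omega
          · simp at he
          · omega
          · exact Or.inl rfl
          · omega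
          · exact Or.inr rfl
          · omega
          · rw [show (8 : ℕ) = 2 ^ 3 by norm_num, Nat.totient_prime_pow Nat.prime_two (by norm_num)] at he
            norm_num at he
        rcases hm46 with rfl | rfl
        · subst hnk; norm_num at hp
        · have hn30 : n = 30 := by omega
          subst hn30
          have hq3 : q < 3 := by
            by_contra hlt
            push Not at hlt
            have : 729 ≤ q ^ 6 := by
              calc 729 = 3 ^ 6 := by norm_num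
                _ ≤ q ^ 6 := Nat.pow_le_pow_left hlt 6
            norm_num at hge
            omega
          interval_cases q
          exact hL large_2_30
    · have := hm12 hx
      subst this
      subst hnk
      norm_num at hp

/-- `n = 2` -/
theorem large_two {q : ℕ} (hq : 2 ≤ q) (h1 : ¬ ∃ s t : ℕ, t ≤ 1 ∧ q + 1 = 2 ^ s * 3 ^ t) : Large q 2 := by
  obtain ⟨s, m, hm, hqm⟩ := Nat.exists_eq_pow_mul_and_not_dvd (n := q + 1) (by omega) 2 (by norm_num)
  have hprim : ∀ p : ℕ, p.Prime → p ≠ 2 → p ∣ q + 1 → ∀ i : ℕ, 1 ≤ i → i < 2 → ¬ p ∣ q ^ i - 1 := by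
    intro p hp hp2 hd i hi hi2
    obtain rfl : i = 1 := by omega
    rw [pow_one]
    intro hd'
    have h2 : p ∣ (q + 1) - (q - 1) := Nat.dvd_sub hd hd'
    rw [show (q + 1) - (q - 1) = 2 by omega] at h2
    exact hp2 ((Nat.prime_dvd_prime_iff_eq hp Nat.prime_two).1 h2)
  have hsq : q ^ 2 - 1 = (q + 1) * (q - 1) := by
    obtain ⟨c, rfl⟩ : ∃ c, q = c + 1 := ⟨q - 1, by omega⟩
    simp only [Nat.add_sub_cancel]
    have : (c + 1) ^ 2 = (c + 1 + 1) * c + 1 := by ring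
    omega
  by_cases hbig : ∃ p : ℕ, p.Prime ∧ 3 < p ∧ p ∣ m
  · obtain ⟨p, hp, hp3, hpm⟩ := hbig
    have hd : p ∣ q + 1 := hqm ▸ Dvd.dvd.mul_left hpm _
    exact ⟨p, hp, hsq ▸ Dvd.dvd.mul_right hd _, hprim p hp (by omega) hd, Or.inl (by omega)⟩
  · have hm0 : m ≠ 0 := by rintro rfl; simp at hqm
    have hm3 : m = 3 ^ m.primeFactorsList.length := by
      refine Nat.eq_prime_pow_of_unique_prime_dvd hm0 ?_
      intro d hd hdm
      by_contra hne
      rcases Nat.lt_or_ge 3 d with h | h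
      · exact hbig ⟨d, hd, h, hdm⟩
      · have := hd.two_le
        obtain rfl : d = 2 := by omega
        exact hm hdm
    rcases Nat.lt_or_ge m.primeFactorsList.length 2 with h | h
    · exact absurd ⟨s, m.primeFactorsList.length, by omega, by rw [hqm]; congr 1⟩ h1
    · have h9 : 3 ^ 2 ∣ q + 1 := by
        rw [hqm]
        apply Dvd.dvd.mul_left
        rw [hm3]
        exact pow_dvd_pow 3 h
      have h3 : 3 ∣ q + 1 := (Dvd.intro_left 3 (by norm_num) : 3 ∣ 3 ^ 2).trans h9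
      exact ⟨3, Nat.prime_three, hsq ▸ Dvd.dvd.mul_right h3 _, hprim 3 Nat.prime_three (by norm_num) h3,
        Or.inr (hsq ▸ Dvd.dvd.mul_right h9 _)⟩

/-- **Feit's theorem on large Zsigmondy primes.** -/
theorem large_zsigmondy (q n : ℕ) (hq : 2 ≤ q) (hn : 2 ≤ n)
    (h1 : ¬ (n = 2 ∧ ∃ s t : ℕ, t ≤ 1 ∧ q + 1 = 2 ^ s * 3 ^ t))
    (h2 : ¬ (q = 2 ∧ (n = 4 ∨ n = 6 ∨ n = 10 ∨ n = 12 ∨ n = 18)))
    (h3 : ¬ (q = 3 ∧ (n = 4 ∨ n = 6))) (h4 : ¬ (q = 5 ∧ n = 6)) : Large q n := by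
  rcases Nat.lt_or_ge n 3 with hn3 | hn3
  · obtain rfl : n = 2 := by omega
    exact large_two hq (fun h => h1 ⟨rfl, h⟩)
  by_contra hL
  have hne : n.primeFactors.Nonempty := Nat.nonempty_primeFactors.2 (by omega)
  set P := n.primeFactors.max' hne with hPdef
  have hPmem : P ∈ n.primeFactors := Finset.max'_mem _ _
  have hP : P.Prime := Nat.prime_of_mem_primeFactors hPmem
  have hPn : P ∣ n := Nat.dvd_of_mem_primeFactors hPmem
  have hmax : ∀ s : ℕ, s.Prime → s ∣ n → s ≤ P := fun s hs hsn =>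
    Finset.le_max' _ _ (Nat.mem_primeFactors.2 ⟨hs, hsn, by omega⟩)
  clear_value P
  obtain ⟨hp, hd⟩ := Ph_dvd_of_not_large hq hn3 hL (fun h => h2 ⟨h.1, Or.inr (Or.inl h.2)⟩) hP hPn hmax
  obtain ⟨k, m, hm, hnk⟩ := Nat.exists_eq_pow_mul_and_not_dvd (n := n) (by omega) P hP.ne_one
  have hm0 : m ≠ 0 := by rintro rfl; simp at hm
  obtain ⟨j, rfl⟩ : ∃ j, k = j + 1 := by
    refine Nat.exists_eq_succ_of_ne_zero ?_
    rintro rfl
    rw [pow_zero, one_mul] at hnk
    exact hm (hnk ▸ hPn)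
  have heven : 2 ∣ n := by
    have hodd : Odd (n + 1) := hp.odd_of_ne_two (by omega)
    exact (Nat.even_add_one.not_left.1 (Nat.not_even_iff_odd.2 hodd)).two_dvd
  rcases Nat.lt_or_ge P 3 with hP3 | hP3
  · obtain rfl : P = 2 := by have := hP.two_le; omega
    exact case_two hq hn3 j m hnk hm hmax hp hd h2 h3
  · have h2m : 2 ∣ m := by
      rw [hnk] at heven
      rcases Nat.prime_two.dvd_mul.1 heven with h | h
      · exfalso
        have := (Nat.prime_dvd_prime_iff_eq Nat.prime_two hP).1 (Nat.prime_two.dvd_of_dvd_pow h)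
        omega
      · exact h
    rcases Nat.lt_or_ge P 5 with hP5 | hP5
    · obtain rfl : P = 3 := by
        rcases (by omega : P = 3 ∨ P = 4) with h | h
        · exact h
        · subst h; norm_num at hP
      exact case_three hq j m hnk hm0 hm h2m hmax hL hd h2 h3 h4
    · exact case_ge_five hq P j m hP hP5 hnk hm0 hm h2m hL hp hd h2

end Cfsg.Agent.H365.Zsig
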