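import Mathlib

/-!
# The numbers of elements of each order in A₄, A₅, A₆ (helper365)
-/

set_option autoImplicit false

namespace Cfsg.Agent.H365.NseAlt

open Equiv Finset

/-- `g` has order `m` -/
def op {n : ℕ} (m : ℕ) (g : Perm (Fin n)) : Bool :=
  decide (g ^ m = 1) && (List.range (m - 1)).all fun k => decide (g ^ (k + 1) ≠ 1)

theorem op_iff {n m : ℕ} (hm : 0 < m) (g : Perm (Fin n)) : op m g = true ↔ orderOf g = m := by
  unfold op
  rw [orderOf_eq_iff hm, Bool.and_eq_true, decide_eq_true_eq, List.all_eq_true]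
  refine and_congr_right fun _ => ?_
  constructor
  · intro h k hk hk0
    have := h (k - 1) (List.mem_range.2 (by omega))
    rw [decide_eq_true_eq, Nat.sub_add_cancel hk0] at this
    exact this
  · intro h k hk
    rw [List.mem_range] at hk
    rw [decide_eq_true_eq]
    exact h (k + 1) (by omega) (by omega)

/-- the number of even permutations of order `m` -/
def ec (n m : ℕ) : ℕ := (univ.filter fun g : Perm (Fin n) => op m g = true ∧ Perm.sign g = 1).card

theorem card_eq (n m : ℕ) (hm : 0 < m) :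
    Nat.card {g : alternatingGroup (Fin n) // orderOf g = m} = ec n m := by
  classical
  unfold ec
  rw [Nat.card_eq_fintype_card, Fintype.card_subtype]
  rw [← Finset.card_map (Function.Embedding.subtype _)]
  congr 1
  ext g
  simp only [Finset.mem_map, Finset.mem_filter, Finset.mem_univ, true_and, Function.Embedding.coe_subtype,
    op_iff hm]
  constructor
  · rintro ⟨x, hx, rfl⟩
    refine ⟨?_, Perm.mem_alternatingGroup.1 x.2⟩
    rw [← hx]
    exact (Subgroup.orderOf_coe x)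
  · rintro ⟨h1, h2⟩
    refine ⟨⟨g, Perm.mem_alternatingGroup.2 h2⟩, ?_, rfl⟩
    rw [← h1]
    exact (Subgroup.orderOf_mk g _)

/-- the orders of the elements -/
theorem order_mem {n : ℕ} (P : ℕ → Prop) (h : ∀ g : Perm (Fin n), Perm.sign g = 1 → P (orderOf g))
    (x : alternatingGroup (Fin n)) : P (orderOf x) := by
  have := h x (Perm.mem_alternatingGroup.1 x.2)
  rwa [Subgroup.orderOf_coe] at this

set_option maxRecDepth 100000

theorem ec4 : ec 4 1 = 1 ∧ ec 4 2 = 3 ∧ ec 4 3 = 8 := by decide +kernel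
theorem ec5 : ec 5 1 = 1 ∧ ec 5 2 = 15 ∧ ec 5 3 = 20 ∧ ec 5 5 = 24 := by decide +kernel
/-- the cycle types of the elements of `A₆` (helper993: no enumeration of the 720 permutations) -/
theorem types6 {σ : Perm (Fin 6)} (hs : Perm.sign σ = 1) :
    σ.cycleType = 0 ∨ σ.cycleType = {2, 2} ∨ σ.cycleType = {3} ∨ σ.cycleType = {3, 3} ∨
      σ.cycleType = {4, 2} ∨ σ.cycleType = {5} := by
  have hsum : σ.cycleType.sum ≤ 6 := by simpa using σ.sum_cycleType_le
  rw [Perm.sign_of_cycleType] at hs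
  have hmem : ∀ n ∈ σ.cycleType, 2 ≤ n ∧ n ≤ 6 := fun n hn =>
    ⟨Perm.two_le_of_mem_cycleType hn, (Multiset.le_sum_of_mem hn).trans hsum⟩
  set m := σ.cycleType with hm
  obtain ⟨a, b, c, d, e, hab⟩ : ∃ a b c d e : ℕ, m = Multiset.replicate a 2 + Multiset.replicate b 3 +
      Multiset.replicate c 4 + Multiset.replicate d 5 + Multiset.replicate e 6 := by
    refine ⟨m.count 2, m.count 3, m.count 4, m.count 5, m.count 6, Multiset.ext.2 fun n => ?_⟩
    simp only [Multiset.count_add, Multiset.count_replicate]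
    by_cases hn : n ∈ m
    · obtain ⟨h1, h2⟩ := hmem n hn
      interval_cases n <;> simp
    · rw [Multiset.count_eq_zero.2 hn]
      have h0 : ∀ k, k = n → Multiset.count k m = 0 := fun k hk => by rw [hk]; exact Multiset.count_eq_zero.2 hn
      split_ifs <;> simp_all
  have hsm : 2 * a + 3 * b + 4 * c + 5 * d + 6 * e ≤ 6 := by
    rw [hab] at hsum
    simpa [mul_comm] using hsum
  rw [hab] at hs ⊢
  clear hab hmem hsum hm
  have ha : a ≤ 3 := by omega
  have hb : b ≤ 2 := by omega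
  have hc : c ≤ 1 := by omega
  have hd : d ≤ 1 := by omega
  have he : e ≤ 1 := by omega
  interval_cases e <;> interval_cases d <;> interval_cases c <;> interval_cases b <;> interval_cases a <;>
    first
    | omega
    | (exfalso; revert hs; decide)
    | decide

theorem card6 (m : Multiset ℕ) (k : ℕ) (h : m.sum ≤ 6 ∧ ∀ a ∈ m, 2 ≤ a)
    (hk : Nat.factorial 6 / (Nat.factorial (6 - m.sum) * m.prod *
      (∏ n ∈ m.toFinset, Nat.factorial (m.count n))) = k) :
    (Finset.univ.filter (fun σ : Perm (Fin 6) => σ.cycleType = m)).card = k := by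
  rw [Perm.card_of_cycleType, if_pos (by simpa using h), ← hk, Fintype.card_fin]

theorem mem6 {m : ℕ} (hm : 0 < m) (σ : Perm (Fin 6)) : (op m σ = true ∧ Perm.sign σ = 1) ↔
    (σ.cycleType = 0 ∧ m = 1) ∨ (σ.cycleType = {2, 2} ∧ m = 2) ∨ (σ.cycleType = {3} ∧ m = 3) ∨
      (σ.cycleType = {3, 3} ∧ m = 3) ∨ (σ.cycleType = {4, 2} ∧ m = 4) ∨ (σ.cycleType = {5} ∧ m = 5) := by
  rw [op_iff hm, ← Perm.lcm_cycleType, Perm.sign_of_cycleType]
  constructor
  · rintro ⟨h, hs⟩
    rw [← Perm.sign_of_cycleType] at hs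
    rcases types6 hs with e | e | e | e | e | e
    · exact Or.inl ⟨e, by rw [← h, e]; decide +kernel⟩
    · exact Or.inr (Or.inl ⟨e, by rw [← h, e]; decide +kernel⟩)
    · exact Or.inr (Or.inr (Or.inl ⟨e, by rw [← h, e]; decide +kernel⟩))
    · exact Or.inr (Or.inr (Or.inr (Or.inl ⟨e, by rw [← h, e]; decide +kernel⟩)))
    · exact Or.inr (Or.inr (Or.inr (Or.inr (Or.inl ⟨e, by rw [← h, e]; decide +kernel⟩))))
    · exact Or.inr (Or.inr (Or.inr (Or.inr (Or.inr ⟨e, by rw [← h, e]; decide +kernel⟩))))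
  · rintro (⟨e, rfl⟩ | ⟨e, rfl⟩ | ⟨e, rfl⟩ | ⟨e, rfl⟩ | ⟨e, rfl⟩ | ⟨e, rfl⟩) <;> rw [e] <;> decide +kernel

theorem ec_one {m : ℕ} (hm : 0 < m) {T : Multiset ℕ} {k : ℕ} (h : ∀ σ : Perm (Fin 6),
    ((σ.cycleType = 0 ∧ m = 1) ∨ (σ.cycleType = {2, 2} ∧ m = 2) ∨ (σ.cycleType = {3} ∧ m = 3) ∨
      (σ.cycleType = {3, 3} ∧ m = 3) ∨ (σ.cycleType = {4, 2} ∧ m = 4) ∨ (σ.cycleType = {5} ∧ m = 5)) ↔
      σ.cycleType = T) (hT : T.sum ≤ 6 ∧ ∀ a ∈ T, 2 ≤ a)
    (hk : Nat.factorial 6 / (Nat.factorial (6 - T.sum) * T.prod *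
      (∏ n ∈ T.toFinset, Nat.factorial (T.count n))) = k) : ec 6 m = k := by
  unfold ec
  rw [← card6 T k hT hk]
  exact congrArg Finset.card (Finset.filter_congr fun σ _ => (mem6 hm σ).trans (h σ))

theorem ec63 : ec 6 3 = 80 := by
  have e : (univ.filter fun g : Perm (Fin 6) => op 3 g = true ∧ Perm.sign g = 1) =
      (univ.filter fun σ : Perm (Fin 6) => σ.cycleType = {3}) ∪
        (univ.filter fun σ : Perm (Fin 6) => σ.cycleType = {3, 3}) := by
    ext σ
    rw [Finset.mem_filter, Finset.mem_union, Finset.mem_filter, Finset.mem_filter, mem6 (by norm_num) σ]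
    simp
  unfold ec
  rw [e, Finset.card_union_of_disjoint, card6 {3} 40 (by decide) (by decide), card6 {3, 3} 40 (by decide) (by decide)]
  rw [Finset.disjoint_filter]
  intro σ _ h1 h2
  rw [h1] at h2
  exact absurd h2 (by decide)

theorem ec6 : ec 6 1 = 1 ∧ ec 6 2 = 45 ∧ ec 6 3 = 80 ∧ ec 6 4 = 90 ∧ ec 6 5 = 144 :=
  ⟨ec_one (T := 0) (by norm_num) (fun σ => by simp) (by decide) (by decide),
    ec_one (T := {2, 2}) (by norm_num) (fun σ => by simp) (by decide) (by decide), ec63,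
    ec_one (T := {4, 2}) (by norm_num) (fun σ => by simp) (by decide) (by decide),
    ec_one (T := {5}) (by norm_num) (fun σ => by simp) (by decide) (by decide)⟩

theorem ex4 : ∀ g : Perm (Fin 4), g ^ 2 = 1 ∨ g ^ 3 = 1 ∨ Perm.sign g ≠ 1 := by decide +kernel
theorem ex5 : ∀ g : Perm (Fin 5), g ^ 2 = 1 ∨ g ^ 3 = 1 ∨ g ^ 5 = 1 ∨ Perm.sign g ≠ 1 := by decide +kernel
theorem ex6 : ∀ g : Perm (Fin 6), g ^ 4 = 1 ∨ g ^ 3 = 1 ∨ g ^ 5 = 1 ∨ Perm.sign g ≠ 1 := by
  intro g
  by_cases hs : Perm.sign g = 1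
  · have key : ∀ {T : Multiset ℕ} (k : ℕ), g.cycleType = T → T.lcm ∣ k → g ^ k = 1 := fun {T} k e h =>
      orderOf_dvd_iff_pow_eq_one.1 (by rw [← Perm.lcm_cycleType, e]; exact h)
    rcases types6 hs with e | e | e | e | e | e
    · exact Or.inl (key 4 e (by decide +kernel))
    · exact Or.inl (key 4 e (by decide +kernel))
    · exact Or.inr (Or.inl (key 3 e (by decide +kernel)))
    · exact Or.inr (Or.inl (key 3 e (by decide +kernel)))
    · exact Or.inl (key 4 e (by decide +kernel))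
    · exact Or.inr (Or.inr (Or.inl (key 5 e (by decide +kernel))))
  · exact Or.inr (Or.inr (Or.inr hs))

theorem or4 (x : alternatingGroup (Fin 4)) : orderOf x ∈ [1, 2, 3] := by
  refine order_mem (fun m => m ∈ [1, 2, 3]) (fun g hg => ?_) x
  rcases ex4 g with h | h | h
  · have := (Nat.dvd_prime Nat.prime_two).1 (orderOf_dvd_of_pow_eq_one h)
    rcases this with h | h <;> simp [h]
  · have := (Nat.dvd_prime Nat.prime_three).1 (orderOf_dvd_of_pow_eq_one h)
    rcases this with h | h <;> simp [h]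
  · exact absurd hg h

theorem or5 (x : alternatingGroup (Fin 5)) : orderOf x ∈ [1, 2, 3, 5] := by
  refine order_mem (fun m => m ∈ [1, 2, 3, 5]) (fun g hg => ?_) x
  rcases ex5 g with h | h | h | h
  · have := (Nat.dvd_prime Nat.prime_two).1 (orderOf_dvd_of_pow_eq_one h)
    rcases this with h | h <;> simp [h]
  · have := (Nat.dvd_prime Nat.prime_three).1 (orderOf_dvd_of_pow_eq_one h)
    rcases this with h | h <;> simp [h]
  · have := (Nat.dvd_prime Nat.prime_five).1 (orderOf_dvd_of_pow_eq_one h)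
    rcases this with h | h <;> simp [h]
  · exact absurd hg h

theorem or6 (x : alternatingGroup (Fin 6)) : orderOf x ∈ [1, 2, 3, 4, 5] := by
  refine order_mem (fun m => m ∈ [1, 2, 3, 4, 5]) (fun g hg => ?_) x
  rcases ex6 g with h | h | h | h
  · obtain ⟨k, hk, h1⟩ := (Nat.dvd_prime_pow Nat.prime_two (m := 2)).1 (by simpa using orderOf_dvd_of_pow_eq_one h)
    rw [h1]
    interval_cases k <;> simp
  · have := (Nat.dvd_prime Nat.prime_three).1 (orderOf_dvd_of_pow_eq_one h)
    rcases this with h | h <;> simp [h]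
  · have := (Nat.dvd_prime Nat.prime_five).1 (orderOf_dvd_of_pow_eq_one h)
    rcases this with h | h <;> simp [h]
  · exact absurd hg h

end Cfsg.Agent.H365.NseAlt
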