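import Cfsg.Agent.H365.CubeD
import Cfsg.Agent.H365.CubeS
import Cfsg.Prelude.Def_LieTypeChar

/-!
# `|G|_p ^ 3 ≤ |G|` for the families of classical groups in cross characteristic (helper365)
-/

set_option autoImplicit false

namespace Cfsg.Agent.H365.CubeF

open Cfsg Cfsg.Agent.H365.PPart Cfsg.Agent.H365.CubeA Cfsg.Agent.H365.CubeU Cfsg.Agent.H365.CubeC
  Cfsg.Agent.H365.CubeD Cfsg.Agent.H365.CubeE Cfsg.Agent.H365.CubeR Cfsg.Agent.H365.CubeS Finset

theorem prod_gl (q n : ℕ) : ∏ i : Fin (n + 1), (q ^ (n + 1) - q ^ (i : ℕ)) = (q - 1) * sA q n := by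
  rw [Fin.prod_univ_eq_prod_range (fun i => q ^ (n + 1) - q ^ i) (n + 1)]
  induction n with
  | zero => simp [sA]
  | succ n ih =>
    rw [sA_succ, prod_range_succ', pow_zero]
    have h1 : ∀ i ∈ range (n + 1), q ^ (n + 1 + 1) - q ^ (i + 1) = q * (q ^ (n + 1) - q ^ i) := by
      intro i _
      rw [Nat.mul_sub, ← pow_succ', ← pow_succ']
    rw [prod_congr rfl h1, prod_mul_distrib, prod_const, card_range, ih]
    ring

theorem prod_em (q n : ℕ) : q ^ ((n + 1) * (n + 1 - 1) / 2) *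
    ∏ i ∈ range (n + 1), (if Even i then q ^ (i + 1) + 1 else q ^ (i + 1) - 1) = (q + 1) * sU q n := by
  have h0 : ∀ i, (if Even i then q ^ (i + 1) + 1 else q ^ (i + 1) - 1) = emn q (i + 1) := by
    intro i
    unfold emn
    by_cases h : Even i
    · rw [if_pos h, if_neg (by rw [Nat.not_even_iff_odd]; exact h.add_one)]
    · rw [if_neg h, if_pos (by rw [Nat.not_even_iff_odd] at h; exact h.add_one)]
  simp only [h0]
  rw [Nat.add_sub_cancel, prod_range_succ']
  have h1 : emn q (0 + 1) = q + 1 := by simp [emn]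
  rw [h1]
  have h2 : q ^ ((n + 1) * n / 2) * ∏ k ∈ range n, emn q (k + 1 + 1) = sU q n := by
    unfold sU
    rw [prod_mul_distrib, prod_pow_eq_pow_sum]
    congr 2
    have := Finset.sum_range_id_mul_two (n + 1)
    rw [sum_range_succ'] at this
    simp only [add_zero, Nat.add_sub_cancel] at this
    omega
  rw [← mul_assoc, h2, mul_comm]

theorem prod_sp (q m : ℕ) : q ^ (m ^ 2) * ∏ i ∈ range m, (q ^ (2 * (i + 1)) - 1) = tC q m := by
  unfold tC
  rw [prod_mul_distrib, prod_pow_eq_pow_sum]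
  congr 2
  induction m with
  | zero => simp
  | succ m ih =>
    rw [sum_range_succ, ← ih]
    ring

theorem prod_d (q m D : ℕ) (hm : 4 ≤ m) :
    q ^ (m * (m - 1)) * D * ∏ i ∈ range (m - 1), (q ^ (2 * (i + 1)) - 1) = sD q m D := by
  unfold sD
  rw [← prod_sp]
  obtain ⟨k, rfl⟩ : ∃ k, m = k + 1 := ⟨m - 1, by omega⟩
  rw [Nat.add_sub_cancel]
  have : (k + 1) * k = k + k ^ 2 := by ring
  rw [this, pow_add]
  ring

section fields

variable {F : Type} [Field F] [Fintype F]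

theorem charP_of_dvd {p : ℕ} (hp : p.Prime) (h : p ∣ Fintype.card F) : CharP F p := by
  obtain ⟨r, hr⟩ := CharP.exists F
  obtain ⟨n, hr1, hn⟩ := FiniteField.card F r
  rw [hn] at h
  have := (Nat.prime_dvd_prime_iff_eq hp hr1).1 (hp.dvd_of_dvd_pow h)
  rw [this]
  exact hr

theorem two_le_card : 2 ≤ Fintype.card F := Fintype.one_lt_card

theorem psl_eq {n : ℕ} (hn : 2 ≤ n) : Nat.gcd n (Fintype.card F - 1) *
    Nat.card (Matrix.ProjectiveSpecialLinearGroup (Fin n) F) = sA (Fintype.card F) (n - 1) := by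
  have h := S0243.result (F := F) rfl n hn
  obtain ⟨m, rfl⟩ := Nat.exists_eq_add_of_le' (show 1 ≤ n by omega)
  rw [prod_gl, mul_left_comm] at h
  exact Nat.eq_of_mul_eq_mul_left (by have := two_le_card (F := F); omega) h

theorem psu_eq {n q : ℕ} (hF : Fintype.card F = q ^ 2) (hn : 2 ≤ n) : Nat.gcd n (q + 1) *
    Nat.card (PSU n F q) = sU q (n - 1) := by
  have h := S0280.result (F := F) hF n hn
  obtain ⟨m, rfl⟩ := Nat.exists_eq_add_of_le' (show 1 ≤ n by omega)
  rw [prod_em, mul_left_comm] at h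
  exact Nat.eq_of_mul_eq_mul_left (by omega) h

theorem psp_eq {m : ℕ} (hm : 1 ≤ m) : Nat.gcd 2 (Fintype.card F - 1) *
    Nat.card (PSp m F) = tC (Fintype.card F) m := by
  have h1 := S0245.result (F := F) rfl m
  have h2 := S0246.result (F := F) rfl m (by omega)
  have h3 := Subgroup.card_mul_index (Subgroup.center ↥(Matrix.symplecticGroup (Fin m) F))
  rw [h1, h2, prod_sp] at h3
  exact h3

theorem oodd_eq {m : ℕ} (hm : 3 ≤ m) (ho : Odd (Fintype.card F)) : Nat.gcd 2 (Fintype.card F - 1) *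
    Nat.card (POmega F (quadFormOdd m F)) = tC (Fintype.card F) m := by
  have h1 := S0292.result (F := F) rfl ho m hm
  rw [prod_sp] at h1
  rw [← h1]
  congr 1
  obtain ⟨c, hc⟩ := ho
  rw [hc, Nat.add_sub_cancel]
  exact Nat.gcd_eq_left (Dvd.intro _ rfl)

theorem oplus_eq {m : ℕ} (hm : 4 ≤ m) : Nat.gcd 4 (Fintype.card F ^ m - 1) *
    Nat.card (POmega F (quadFormPlus m F)) = sD (Fintype.card F) m (Fintype.card F ^ m - 1) := by
  have h1 := S0293.result (F := F) rfl m hm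
  rw [prod_d _ _ _ hm] at h1
  exact h1

theorem ominus_eq {m : ℕ} (hm : 4 ≤ m) (a b : F)
    (hab : ∀ z₁ z₂ : F, z₁ ^ 2 + a * z₁ * z₂ + b * z₂ ^ 2 = 0 → z₁ = 0 ∧ z₂ = 0) :
    Nat.gcd 4 (Fintype.card F ^ m + 1) * Nat.card (POmega F (quadFormMinus (m - 1) F a b)) =
      sD (Fintype.card F) m (Fintype.card F ^ m + 1) := by
  have h1 := S0294.result (F := F) rfl m hm a b hab
  rw [prod_d _ _ _ hm] at h1
  exact h1

end fields

end Cfsg.Agent.H365.CubeF
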