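import Cfsg.Agent.H365.CubeF

/-!
# `|G|_p ^ 3 ≤ |G|` for the known simple groups `G` not of Lie type in characteristic `p` (helper365)
-/

set_option autoImplicit false

namespace Cfsg.Agent.H365.Cube

open Cfsg Cfsg.Agent.H365.PPart Cfsg.Agent.H365.CubeA Cfsg.Agent.H365.CubeU Cfsg.Agent.H365.CubeC
  Cfsg.Agent.H365.CubeD Cfsg.Agent.H365.CubeE Cfsg.Agent.H365.CubeR Cfsg.Agent.H365.CubeS
  Cfsg.Agent.H365.CubeF Cfsg.Agent.OrdDiv Finset

universe u

/-- the exceptions (groups of Lie type in other characteristics, alternating and sporadic groups) -/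
def Exc (p : ℕ) (G : Type u) [Group G] : Prop :=
  (∃ n, altEx p n = true ∧ Nonempty (G ≃* ↥(alternatingGroup (Fin n)))) ∨
  (∃ (F : Type) (_ : Field F) (_ : Fintype F), 4 ≤ Fintype.card F ∧
    (pt p (Fintype.card F + 1) = Fintype.card F + 1 ∨ (p = 2 ∧ pt p (Fintype.card F - 1) = Fintype.card F - 1)) ∧
    Nonempty (G ≃* Matrix.ProjectiveSpecialLinearGroup (Fin 2) F)) ∨
  (p = 7 ∧ ∃ (F : Type) (_ : Field F) (_ : Fintype F), Fintype.card F = 2 ∧
    Nonempty (G ≃* Matrix.ProjectiveSpecialLinearGroup (Fin 3) F)) ∨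
  (p = 2 ∧ ∃ (F : Type) (_ : Field F) (_ : Fintype F), Fintype.card F = 9 ∧ Nonempty (G ≃* PSU 3 F 3)) ∨
  (p = 3 ∧ ∃ (F : Type) (_ : Field F) (_ : Fintype F), Fintype.card F = 4 ∧
    (Nonempty (G ≃* PSU 4 F 2) ∨ Nonempty (G ≃* PSU 5 F 2))) ∨
  (p = 2 ∧ ∃ (F : Type) (_ : Field F) (_ : Fintype F), Fintype.card F = 3 ∧ Nonempty (G ≃* PSp 2 F)) ∨
  (p = 2 ∧ ∃ x ∈ OrdDiv.spor, big2 x.1 = true ∧ Real x.1 G)

/-- **`|G|_p ^ 3 ≤ |G|`** for the known simple groups that are not of Lie type in characteristic `p`,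
and the exceptions. -/
theorem known_cube (T : OrderTable.{u}) {G : Type u} [Group G] [Finite G] (h : IsKnownSimple' G)
    (hna : ¬ ∀ a b : G, a * b = b * a) {p : ℕ} (hp : p.Prime) :
    pt p (Nat.card G) ^ 3 ≤ Nat.card G ∨ IsLieTypeChar p G ∨ Exc p G := by
  have hG0 : Nat.card G ≠ 0 := Nat.card_pos.ne'
  have key : ∀ x ∈ OrdDiv.spor, Real x.1 G →
      pt p (Nat.card G) ^ 3 ≤ Nat.card G ∨ IsLieTypeChar p G ∨ Exc p G := by
    intro x hx hr
    rw [T.spor G x hx hr]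
    by_cases h1 : big2 x.1 = true ∧ p = 2
    · exact Or.inr (Or.inr (Or.inr (Or.inr (Or.inr (Or.inr (Or.inr (Or.inr ⟨h1.2, x, hx, h1.1, hr⟩)))))))
    · exact Or.inl (spor_cube (g := x.1) (N := x.2) hx hp h1)
  rcases h with h | h | h | h | h | h | h | h | h | h
  · exfalso
    have : Fact (Nat.card G).Prime := ⟨h⟩
    have : IsCyclic G := isCyclic_of_prime_card (p := Nat.card G) rfl
    exact hna fun a b => (IsCyclic.isMulCommutative (α := G)).is_comm.comm a b
  · obtain ⟨n, hn, ⟨e⟩⟩ := h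
    by_cases hex : altEx p n = true
    · exact Or.inr (Or.inr (Or.inl ⟨n, hex, ⟨e⟩⟩))
    · left
      have h1 := alt_card hn e
      have h2 : Nat.card G = n.factorial / 2 := (Nat.div_eq_of_eq_mul_right (by norm_num) h1).symm
      rw [h2]
      exact alt_cube hp hn (by simpa using hex)
  · obtain ⟨F, _, _, n, hn, hn2, ⟨e⟩⟩ := h
    by_cases hpq : p ∣ Fintype.card F
    · exact Or.inr (Or.inl (Or.inl ⟨F, inferInstance, inferInstance, charP_of_dvd hp hpq, n, hn, hn2, ⟨e⟩⟩))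
    have hq2 := two_le_card (F := F)
    have h1 := psl_eq (F := F) hn
    rw [← Nat.card_congr e.toEquiv] at h1
    rcases Nat.lt_or_ge n 3 with h3 | h3
    · obtain rfl : n = 2 := by omega
      have hq4 := hn2 rfl
      by_cases hp2 : p = 2
      · subst hp2
        rcases psl2_two hq4 hpq hG0 h1 with h4 | h4 | h4
        · exact Or.inr (Or.inr (Or.inr (Or.inl ⟨F, inferInstance, inferInstance, hq4, Or.inl h4, ⟨e⟩⟩)))
        · exact Or.inr (Or.inr (Or.inr (Or.inl ⟨F, inferInstance, inferInstance, hq4, Or.inr ⟨rfl, h4⟩, ⟨e⟩⟩)))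
        · exact Or.inl h4
      · rcases psl2_odd hp hp2 hq4 hpq hG0 h1 with h4 | h4
        · exact Or.inr (Or.inr (Or.inr (Or.inl ⟨F, inferInstance, inferInstance, hq4, Or.inl h4, ⟨e⟩⟩)))
        · exact Or.inl h4
    · by_cases hex : n = 3 ∧ Fintype.card F = 2 ∧ p = 7
      · obtain ⟨rfl, h4, h5⟩ := hex
        exact Or.inr (Or.inr (Or.inr (Or.inr (Or.inl ⟨h5, F, inferInstance, inferInstance, h4, ⟨e⟩⟩))))
      · exact Or.inl (psl_cube hp hq2 hpq h3 hex hG0 h1)
  · obtain ⟨F, _, _, m, hm, hm2, ⟨e⟩⟩ := h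
    by_cases hpq : p ∣ Fintype.card F
    · exact Or.inr (Or.inl (Or.inr (Or.inl
        ⟨F, inferInstance, inferInstance, charP_of_dvd hp hpq, m, hm, hm2, ⟨e⟩⟩)))
    have hq2 := two_le_card (F := F)
    have h1 := psp_eq (F := F) (show 1 ≤ m by omega)
    rw [← Nat.card_congr e.toEquiv] at h1
    by_cases hex : p = 2 ∧ m = 2 ∧ Fintype.card F = 3
    · obtain ⟨h5, rfl, h4⟩ := hex
      exact Or.inr (Or.inr (Or.inr (Or.inr (Or.inr (Or.inr (Or.inr (Or.inl
        ⟨h5, F, inferInstance, inferInstance, h4, ⟨e⟩⟩)))))))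
    · exact Or.inl (psp_cube hp hq2 hpq hm (fun h => by have := hm2 h.1; omega) hex hG0 h1)
  · obtain ⟨F, _, _, n, q, hF, hn, hn2, ⟨e⟩⟩ := h
    have hF2 := two_le_card (F := F)
    by_cases hpF : p ∣ Fintype.card F
    · exact Or.inr (Or.inl (Or.inr (Or.inr (Or.inl
        ⟨F, inferInstance, inferInstance, charP_of_dvd hp hpF, n, q, hF, hn, hn2, ⟨e⟩⟩))))
    have hpq : ¬ p ∣ q := fun h => hpF (by rw [hF]; exact h.trans (dvd_pow_self q (by norm_num)))
    have hq2 : 2 ≤ q := by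
      by_contra hlt
      rcases (by omega : q = 0 ∨ q = 1) with rfl | rfl <;> norm_num at hF <;> omega
    have h1 := psu_eq (F := F) hF (show 2 ≤ n by omega)
    rw [← Nat.card_congr e.toEquiv] at h1
    by_cases hex : p = 2 ∧ n = 3 ∧ q = 3
    · obtain ⟨h5, rfl, rfl⟩ := hex
      exact Or.inr (Or.inr (Or.inr (Or.inr (Or.inr (Or.inl ⟨h5, F, inferInstance, inferInstance, hF, ⟨e⟩⟩)))))
    by_cases hex2 : p = 3 ∧ q = 2 ∧ (n = 4 ∨ n = 5)
    · obtain ⟨h5, rfl, h6⟩ := hex2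
      refine Or.inr (Or.inr (Or.inr (Or.inr (Or.inr (Or.inr (Or.inl ⟨h5, F, inferInstance, inferInstance, hF, ?_⟩))))))
      rcases h6 with rfl | rfl
      · exact Or.inl ⟨e⟩
      · exact Or.inr ⟨e⟩
    · exact Or.inl (psu_cube hp hq2 hpq hn hn2 hex hex2 hG0 h1)
  · obtain ⟨F, _, _, m, hm, ho, ⟨e⟩⟩ := h
    by_cases hpq : p ∣ Fintype.card F
    · exact Or.inr (Or.inl (Or.inr (Or.inr (Or.inr (Or.inl
        ⟨F, inferInstance, inferInstance, charP_of_dvd hp hpq, m, hm, ho, ⟨e⟩⟩)))))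
    have hq2 := two_le_card (F := F)
    have h1 := oodd_eq (F := F) hm ho
    rw [← Nat.card_congr e.toEquiv] at h1
    exact Or.inl (psp_cube hp hq2 hpq (by omega) (fun h => by omega) (fun h => by omega) hG0 h1)
  · obtain ⟨F, _, _, m, hm, ⟨e⟩⟩ := h
    by_cases hpq : p ∣ Fintype.card F
    · exact Or.inr (Or.inl (Or.inr (Or.inr (Or.inr (Or.inr (Or.inl
        ⟨F, inferInstance, inferInstance, charP_of_dvd hp hpq, m, hm, ⟨e⟩⟩))))))
    have hq2 := two_le_card (F := F)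
    have h1 := oplus_eq (F := F) hm
    rw [← Nat.card_congr e.toEquiv] at h1
    exact Or.inl (d_cube hp hq2 hpq hm (Or.inl rfl) hG0 h1)
  · obtain ⟨F, _, _, m, a, b, hm, hab, ⟨e⟩⟩ := h
    by_cases hpq : p ∣ Fintype.card F
    · exact Or.inr (Or.inl (Or.inr (Or.inr (Or.inr (Or.inr (Or.inr (Or.inl
        ⟨F, inferInstance, inferInstance, charP_of_dvd hp hpq, m, a, b, hm, hab, ⟨e⟩⟩)))))))
    have hq2 := two_le_card (F := F)
    have h1 := ominus_eq (F := F) hm a b hab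
    rw [← Nat.card_congr e.toEquiv] at h1
    exact Or.inl (d_cube hp hq2 hpq hm (Or.inr rfl) hG0 h1)
  · rcases h with h | h | h | h | h | h | h | h | h | h | h
    · obtain ⟨F, _, _, hq, ⟨e⟩⟩ := h
      by_cases hpq : p ∣ Fintype.card F
      · exact Or.inr (Or.inl (Or.inr (Or.inr (Or.inr (Or.inr (Or.inr (Or.inr (Or.inl
          ⟨F, inferInstance, inferInstance, charP_of_dvd hp hpq, Or.inl ⟨hq, ⟨e⟩⟩⟩))))))))
      rw [Nat.card_congr e.toEquiv, T.g2 F]
      exact Or.inl (g2_cube hp hq hpq)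
    · obtain ⟨F, _, _, ⟨e⟩⟩ := h
      by_cases hpq : p ∣ Fintype.card F
      · exact Or.inr (Or.inl (Or.inr (Or.inr (Or.inr (Or.inr (Or.inr (Or.inr (Or.inl
          ⟨F, inferInstance, inferInstance, charP_of_dvd hp hpq, Or.inr (Or.inl ⟨e⟩)⟩))))))))
      rw [Nat.card_congr e.toEquiv, T.f4 F _ rfl]
      exact Or.inl (f4_cube hp two_le_card hpq)
    · obtain ⟨F, _, _, ⟨e⟩⟩ := h
      by_cases hpq : p ∣ Fintype.card F
      · exact Or.inr (Or.inl (Or.inr (Or.inr (Or.inr (Or.inr (Or.inr (Or.inr (Or.inl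
          ⟨F, inferInstance, inferInstance, charP_of_dvd hp hpq, Or.inr (Or.inr (Or.inl ⟨e⟩))⟩))))))))
      have h1 := T.e6 F _ rfl
      rw [← Nat.card_congr e.toEquiv] at h1
      exact Or.inl (e6_cube hp two_le_card hpq hG0 h1)
    · obtain ⟨F, _, _, ⟨e⟩⟩ := h
      by_cases hpq : p ∣ Fintype.card F
      · exact Or.inr (Or.inl (Or.inr (Or.inr (Or.inr (Or.inr (Or.inr (Or.inr (Or.inl
          ⟨F, inferInstance, inferInstance, charP_of_dvd hp hpq, Or.inr (Or.inr (Or.inr (Or.inl ⟨e⟩)))⟩))))))))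
      have h1 := T.e7 F _ rfl
      rw [← Nat.card_congr e.toEquiv] at h1
      exact Or.inl (e7_cube hp two_le_card hpq hG0 h1)
    · obtain ⟨F, _, _, ⟨e⟩⟩ := h
      by_cases hpq : p ∣ Fintype.card F
      · exact Or.inr (Or.inl (Or.inr (Or.inr (Or.inr (Or.inr (Or.inr (Or.inr (Or.inl
          ⟨F, inferInstance, inferInstance, charP_of_dvd hp hpq, Or.inr (Or.inr (Or.inr (Or.inr ⟨e⟩)))⟩))))))))
      rw [Nat.card_congr e.toEquiv, T.e8 F _ rfl]
      exact Or.inl (e8_cube hp two_le_card hpq)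
    · obtain ⟨F, _, _, q, hq, hF, ⟨e⟩⟩ := h
      by_cases hpF : p ∣ Fintype.card F
      · exact Or.inr (Or.inl (Or.inr (Or.inr (Or.inr (Or.inr (Or.inr (Or.inr (Or.inr (Or.inl
          ⟨F, inferInstance, inferInstance, charP_of_dvd hp hpF, q, hq, Or.inl ⟨hF, ⟨e⟩⟩⟩)))))))))
      have hpq : ¬ p ∣ q := fun h => hpF (by rw [hF]; exact h.trans (dvd_pow_self q (by norm_num)))
      have h1 := T.te6 F q hq hF
      rw [← Nat.card_congr e.toEquiv] at h1
      exact Or.inl (te6_cube hp hq.two_le hpq hG0 h1)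
    · obtain ⟨F, _, _, q, hq, hF, ⟨e⟩⟩ := h
      by_cases hpF : p ∣ Fintype.card F
      · exact Or.inr (Or.inl (Or.inr (Or.inr (Or.inr (Or.inr (Or.inr (Or.inr (Or.inr (Or.inl
          ⟨F, inferInstance, inferInstance, charP_of_dvd hp hpF, q, hq, Or.inr ⟨hF, ⟨e⟩⟩⟩)))))))))
      have hpq : ¬ p ∣ q := fun h => hpF (by rw [hF]; exact h.trans (dvd_pow_self q (by norm_num)))
      rw [Nat.card_congr e.toEquiv, T.td4 F q hq hF]
      exact Or.inl (td4_cube hp hq.two_le hpq)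
    · by_cases hp2 : p = 2
      · exact Or.inr (Or.inl (Or.inr (Or.inr (Or.inr (Or.inr (Or.inr (Or.inr (Or.inr (Or.inr (Or.inl
          ⟨hp2, h⟩))))))))))
      obtain ⟨F, _, _, m, hm, hF, ⟨e⟩⟩ := h
      rw [Nat.card_congr e.toEquiv, T.sz F m hm hF]
      have hpq : ¬ p ∣ 2 ^ (2 * m + 1) := fun h =>
        hp2 ((Nat.prime_dvd_prime_iff_eq hp Nat.prime_two).1 (hp.dvd_of_dvd_pow h))
      have h8 : 8 ≤ 2 ^ (2 * m + 1) := by
        calc 8 = 2 ^ 3 := by norm_num
          _ ≤ _ := Nat.pow_le_pow_right (by norm_num) (by omega)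
      refine Or.inl (sz_cube (r := 2 ^ (m + 1)) hp hp2 h8 hpq ?_ ?_)
      · rw [← pow_mul, ← pow_succ']
        congr 1
        ring
      · rw [← pow_succ']
        exact Nat.pow_le_pow_right (by norm_num) (by omega)
    · by_cases hp3 : p = 3
      · exact Or.inr (Or.inl (Or.inr (Or.inr (Or.inr (Or.inr (Or.inr (Or.inr (Or.inr (Or.inr (Or.inr (Or.inr
          ⟨hp3, h⟩)))))))))))
      obtain ⟨F, _, _, m, hm, hF, ⟨e⟩⟩ := h
      rw [Nat.card_congr e.toEquiv, T.ree F m hm hF]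
      have hpq : ¬ p ∣ 3 ^ (2 * m + 1) := fun h =>
        hp3 ((Nat.prime_dvd_prime_iff_eq hp Nat.prime_three).1 (hp.dvd_of_dvd_pow h))
      have h8 : 4 ≤ 3 ^ (2 * m + 1) := by
        calc 4 ≤ 3 ^ 3 := by norm_num
          _ ≤ _ := Nat.pow_le_pow_right (by norm_num) (by omega)
      exact Or.inl (ree_cube hp h8 hpq hp3)
    · by_cases hp2 : p = 2
      · exact Or.inr (Or.inl (Or.inr (Or.inr (Or.inr (Or.inr (Or.inr (Or.inr (Or.inr (Or.inr (Or.inr (Or.inl
          ⟨hp2, h⟩)))))))))))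
      obtain ⟨F, _, _, m, hm, hF, ⟨e⟩⟩ := h
      rw [Nat.card_congr e.toEquiv, T.tf4 F m hm hF]
      have hpq : ¬ p ∣ 2 ^ (2 * m + 1) := fun h =>
        hp2 ((Nat.prime_dvd_prime_iff_eq hp Nat.prime_two).1 (hp.dvd_of_dvd_pow h))
      have h8 : 8 ≤ 2 ^ (2 * m + 1) := by
        calc 8 = 2 ^ 3 := by norm_num
          _ ≤ _ := Nat.pow_le_pow_right (by norm_num) (by omega)
      exact Or.inl (tf4_cube hp hp2 h8 hpq)
    · exact key (.tits, 17971200) (by decide) h
  · have key' : ∀ g : Grp, g ∈ OrdDiv.spor.map (fun x => x.1) → Real g G →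
      pt p (Nat.card G) ^ 3 ≤ Nat.card G ∨ IsLieTypeChar p G ∨ Exc p G := fun g hg hr => by
      obtain ⟨x, hx, rfl⟩ := List.mem_map.1 hg
      exact key x hx hr
    rcases h with h | h | h | h | h | h | h | h | h | h | h | h | h | h | h | h | h | h | h | h | h | h | h | h | h | h
    · exact key' .m11 (by decide) h
    · exact key' .m12 (by decide) h
    · exact key' .m22 (by decide) h
    · exact key' .m23 (by decide) h
    · exact key' .m24 (by decide) h
    · exact key' .j1 (by decide) h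
    · exact key' .j2 (by decide) h
    · exact key' .j3 (by decide) h
    · exact key' .j4 (by decide) h
    · exact key' .co1 (by decide) h
    · exact key' .co2 (by decide) h
    · exact key' .co3 (by decide) h
    · exact key' .mcl (by decide) h
    · exact key' .hs (by decide) h
    · exact key' .suz (by decide) h
    · exact key' .he (by decide) h
    · exact key' .ru (by decide) h
    · exact key' .on (by decide) h
    · exact key' .ly (by decide) h
    · exact key' .fi22 (by decide) h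
    · exact key' .fi23 (by decide) h
    · exact key' .fi24 (by decide) h
    · exact key' .hn (by decide) h
    · exact key' .th (by decide) h
    · exact key' .b (by decide) h
    · exact key' .m (by decide) h

end Cfsg.Agent.H365.Cube
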