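import Cfsg.Agent.H365.SporNum
import Cfsg.Agent.H902.Iso

/-!
# Groups with the order and the element orders of a sporadic group or of the Tits group
-/

set_option autoImplicit false
set_option maxRecDepth 100000

namespace Cfsg.Agent.H365.SporCheck

open Cfsg Cfsg.Agent.OrdDiv Cfsg.Agent.H364

universe u v

theorem rows_prime : ∀ x ∈ rows, x.2.1.Prime ∧ ∀ t ∈ x.2.2.1, t.Prime ∧ t ≠ x.2.1 := by
  have h : (rows.all fun x => decide x.2.1.Prime && x.2.2.1.all fun t => decide t.Prime && decide (t ≠ x.2.1)) = true := by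
    decide +kernel
  intro x hx
  have h1 := List.all_eq_true.1 h x hx
  simp only [Bool.and_eq_true, decide_eq_true_eq, List.all_eq_true] at h1
  exact ⟨h1.1, fun t ht => h1.2 t ht⟩

/-- a group of sporadic order with some non-adjacent primes is the sporadic group -/
theorem row (T : OrderTable.{u}) (T' : OrderTable.{v})
    (hknown : ∀ (S : Type u) [Group S] [Finite S] [IsSimpleGroup S], IsKnownSimple' S)
    {G : Type u} [Group G] [Finite G] {S : Type v} [Group S] [Finite S] (g : Grp) {n p : ℕ} {ts : List ℕ}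
    {l : List (ℕ × ℕ)} (hx : (n, p, ts, l) ∈ rows) (hg : (g, n, l) ∈ H403.sporFac) (hS : OrdDiv.Real g S)
    (hc : Nat.card S = n) (hcard : Nat.card G = Nat.card S) (hspec : ∀ x : G, ∃ y : S, orderOf y = orderOf x)
    (hts : ∀ t ∈ ts, NoEdge S p t) : Nonempty (G ≃* S) := by
  obtain ⟨hp, htp⟩ := rows_prime _ hx
  have hG : ∀ t ∈ ts, NoEdge G p t := fun t ht x hxo => by
    obtain ⟨y, hy⟩ := hspec x
    exact hts t ht y (hy.trans hxo)
  obtain ⟨hs, hna⟩ := main T hknown (hcard.trans hc) hp
    (fun t ht => ⟨(htp t ht).1, (htp t ht).2, hG t ht⟩) (List.all_eq_true.1 rows_chk _ hx)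
  have h1 : OrdDiv.Real g G := H403.real_of_card T (hknown G) hna hg (hcard.trans hc)
  exact H902.Iso.real_unique g h1 hS

end Cfsg.Agent.H365.SporCheck
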