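import Cfsg.Agent.H365.SepOdd
import Cfsg.Agent.S3724
import Cfsg.Agent.H514.OrdL34

/-!
# Simple groups with the same order and the same element orders are isomorphic
-/

set_option autoImplicit false

namespace Cfsg.Agent.H365.SepSpec

theorem range_congr {A B : Type*} [Group A] [Group B] (e : A ≃* B) :
    Set.range (orderOf : A → ℕ) = Set.range (orderOf : B → ℕ) := by
  ext n
  constructor
  · rintro ⟨x, rfl⟩
    exact ⟨e x, e.orderOf_eq x⟩
  · rintro ⟨x, rfl⟩
    exact ⟨e.symm x, e.symm.orderOf_eq x⟩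

set_option maxRecDepth 20000 in
/-- an element of order six in `A₈` -/
theorem exists_six : ∃ x : ↥(alternatingGroup (Fin 8)), orderOf x = 6 := by
  let g : Equiv.Perm (Fin 8) := Equiv.swap 0 1 * Equiv.swap 1 2 * Equiv.swap 3 4 * Equiv.swap 5 6
  have hg : g ∈ alternatingGroup (Fin 8) := by
    rw [Equiv.Perm.mem_alternatingGroup]
    decide
  refine ⟨⟨g, hg⟩, ?_⟩
  rw [← Subgroup.orderOf_coe]
  refine orderOf_eq_of_pow_and_pow_div_prime (by norm_num) (show g ^ 6 = 1 by decide) ?_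
  intro r hr hd
  have h1 : r = 2 ∨ r = 3 := by
    have h2 : r ∣ 2 * 3 := hd
    rcases hr.dvd_mul.1 h2 with h | h
    · exact Or.inl ((Nat.prime_dvd_prime_iff_eq hr Nat.prime_two).1 h)
    · exact Or.inr ((Nat.prime_dvd_prime_iff_eq hr Nat.prime_three).1 h)
  rcases h1 with rfl | rfl
  · show g ^ 3 ≠ 1
    decide
  · show g ^ 2 ≠ 1
    decide

theorem no_alt {A B : Type*} [Group A] [Group B] (hr : Set.range (orderOf : A → ℕ) = Set.range (orderOf : B → ℕ))
    (e : A ≃* ↥(alternatingGroup (Fin 8))) {F : Type} [Field F] [Fintype F] (hF : Fintype.card F = 4)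
    (e' : B ≃* Matrix.ProjectiveSpecialLinearGroup (Fin 3) F) : False := by
  obtain ⟨x, hx⟩ := exists_six
  have h1 : (6 : ℕ) ∈ Set.range (orderOf : A → ℕ) := by
    rw [range_congr e]; exact ⟨x, hx⟩
  rw [hr] at h1
  have h2 := (Cfsg.Agent.H514.OC.L34.mem_range_iff hF e').1 h1
  omega

/-- **Separation.** -/
theorem iso_of_range {G M : Type*} [Group G] [Finite G] [IsSimpleGroup G] [Group M] [Finite M] [IsSimpleGroup M]
    (hc : Nat.card G = Nat.card M) (hr : Set.range (orderOf : G → ℕ) = Set.range (orderOf : M → ℕ)) :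
    Nonempty (G ≃* M) := by
  rcases Cfsg.Agent.S3724.result hc with h | (⟨⟨e⟩, F, _, _, hF, ⟨e'⟩⟩ | ⟨⟨e⟩, F, _, _, hF, ⟨e'⟩⟩) |
    ⟨F, _, _, n, hodd, hn, (⟨⟨e⟩, ⟨e'⟩⟩ | ⟨⟨e⟩, ⟨e'⟩⟩)⟩
  · exact h
  · exact (no_alt hr e hF e').elim
  · exact (no_alt hr.symm e hF e').elim
  · refine (SepOdd.range_ne hodd hn ?_).elim
    rw [← range_congr e, ← range_congr e', hr]
  · refine (SepOdd.range_ne hodd hn ?_).elim
    rw [← range_congr e, ← range_congr e', hr]

/-- the same with sets of orders given pointwise -/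
theorem iso_of_orders {G M : Type*} [Group G] [Finite G] [IsSimpleGroup G] [Group M] [Finite M] [IsSimpleGroup M]
    (hc : Nat.card G = Nat.card M) (h1 : ∀ x : G, ∃ y : M, orderOf y = orderOf x)
    (h2 : ∀ y : M, ∃ x : G, orderOf x = orderOf y) : Nonempty (G ≃* M) := by
  refine iso_of_range hc (Set.Subset.antisymm ?_ ?_)
  · rintro _ ⟨x, rfl⟩
    exact h1 x
  · rintro _ ⟨y, rfl⟩
    exact h2 y

end Cfsg.Agent.H365.SepSpec
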