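import Mathlib
import Cfsg.Agent.S3534
import Cfsg.Agent.S3535
import Cfsg.Agent.H912.KnownSplit
import Cfsg.Agent.OddHalf.Known
import Cfsg.Agent.H364.LieNam
import Cfsg.Agent.S0000
import Cfsg.Agent.OrdDiv.Table

/-!
# The simple section of a group with the spectrum of a symplectic or orthogonal group is of Lie type
-/

set_option autoImplicit false

namespace Cfsg.Agent.H365.SpecFrame

open Cfsg Cfsg.Agent.H902 Cfsg.Agent.OrdDiv

universe u v

/-- a sporadic group has the order of a sporadic group -/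
theorem isSporadic_of {S : Type*} [Group S] (hs : IsSimpleGroup S) (h : IsSporadicGroup S) : IsSporadic S := by
  have T := Cfsg.Agent.OrdDiv.table.spor S
  have key : ∀ x ∈ Cfsg.Agent.OrdDiv.spor, Cfsg.Agent.OrdDiv.Real x.1 S → Nat.card S = x.2 := T
  unfold IsSporadicGroup at h
  unfold IsSporadic
  rcases h with h | h | h | h | h | h | h | h | h | h | h | h | h | h | h | h | h | h | h | h | h | h | h | h | h | h
  · exact Or.inl ⟨hs, key (.m11, 7920) (by decide) h⟩
  · exact Or.inr (Or.inl ⟨hs, key (.m12, 95040) (by decide) h⟩)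
  · exact Or.inr (Or.inr (Or.inl ⟨hs, key (.m22, 443520) (by decide) h⟩))
  · have h1 : IsM23 S := ⟨hs, key (.m23, 10200960) (by decide) h⟩
    tauto
  · have h1 : IsM24 S := ⟨hs, key (.m24, 244823040) (by decide) h⟩
    tauto
  · have h1 : IsJ1 S := ⟨hs, key (.j1, 175560) (by decide) h⟩
    tauto
  · have h1 : IsJ2 S := ⟨hs, key (.j2, 604800) (by decide) h⟩
    tauto
  · have h1 : IsJ3 S := ⟨hs, key (.j3, 50232960) (by decide) h⟩
    tauto
  · have h1 : IsJ4 S := ⟨hs, key (.j4, 86775571046077562880) (by decide) h⟩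
    tauto
  · have h1 : IsCo1 S := ⟨hs, key (.co1, 4157776806543360000) (by decide) h⟩
    tauto
  · have h1 : IsCo2 S := ⟨hs, key (.co2, 42305421312000) (by decide) h⟩
    tauto
  · have h1 : IsCo3 S := ⟨hs, key (.co3, 495766656000) (by decide) h⟩
    tauto
  · have h1 : IsMcL S := ⟨hs, key (.mcl, 898128000) (by decide) h⟩
    tauto
  · have h1 : IsHS S := ⟨hs, key (.hs, 44352000) (by decide) h⟩
    tauto
  · have h1 : IsSuz S := ⟨hs, key (.suz, 448345497600) (by decide) h⟩
    tauto
  · have h1 : IsHe S := ⟨hs, key (.he, 4030387200) (by decide) h⟩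
    tauto
  · have h1 : IsRu S := ⟨hs, key (.ru, 145926144000) (by decide) h⟩
    tauto
  · have h1 : IsON S := ⟨hs, key (.on, 460815505920) (by decide) h⟩
    tauto
  · have h1 : IsLy S := ⟨hs, key (.ly, 51765179004000000) (by decide) h⟩
    tauto
  · have h1 : IsFi22 S := ⟨hs, key (.fi22, 64561751654400) (by decide) h⟩
    tauto
  · have h1 : IsFi23 S := ⟨hs, key (.fi23, 4089470473293004800) (by decide) h⟩
    tauto
  · have h1 : IsFi24' S := ⟨hs, key (.fi24, 1255205709190661721292800) (by decide) h⟩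
    tauto
  · have h1 : IsHN S := ⟨hs, key (.hn, 273030912000000) (by decide) h⟩
    tauto
  · have h1 : IsTh S := ⟨hs, key (.th, 90745943887872000) (by decide) h⟩
    tauto
  · have h1 : IsB S := ⟨hs, key (.b, 4154781481226426191177580544000000) (by decide) h⟩
    tauto
  · have h1 : IsM S := ⟨hs, key (.m, 808017424794512875886459904961710757005754368000000000) (by decide) h⟩
    tauto

/-- the section belonging to a subgroup of a quotient -/
theorem exists_section {G : Type u} [Group G] (K : Subgroup G) [K.Normal] (N : Subgroup (G ⧸ K)) [N.Normal] :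
    ∃ (H : Subgroup G) (_ : H.Normal) (M : Subgroup H) (_ : M.Normal), Nonempty ((H ⧸ M) ≃* N) := by
  refine ⟨N.comap (QuotientGroup.mk' K), inferInstance, ((QuotientGroup.mk' K).subgroupComap N).ker, inferInstance,
    ⟨QuotientGroup.quotientKerEquivOfSurjective _
      (MonoidHom.subgroupComap_surjective_of_surjective _ _ (QuotientGroup.mk'_surjective K))⟩⟩

theorem exists_lie {G : Type u} [Group G] [Finite G] {L : Type v} [Group L] [Finite L]
    (hL : (Cfsg.IsPSp L ∧ ∀ (F : Type) [Field F] [Fintype F], Fintype.card F = 3 → ¬ Nonempty (L ≃* Cfsg.PSp 2 F)) ∨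
      Cfsg.IsPOmegaOdd L ∨ Cfsg.IsPOmegaPlus L ∨ Cfsg.IsPOmegaMinus L)
    (h : Set.range (orderOf : G → ℕ) = Set.range (orderOf : L → ℕ))
    {K : Subgroup G} [K.Normal] {N : Subgroup (G ⧸ K)} [N.Normal] (hs : IsSimpleGroup N)
    (hna : ¬ ∀ x y : N, x * y = y * x) :
    ∃ w X g, IsLieTypeChar w N ∧ Art.Real X w g (Nat.card N) := by
  obtain ⟨H, hH, M, hM, ⟨e⟩⟩ := exists_section K N
  have hs' : IsSimpleGroup (H ⧸ M) := MulEquiv.isSimpleGroup e
  have hna' : ¬ IsMulCommutative (H ⧸ M) := by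
    intro hc
    apply hna
    intro x y
    apply e.symm.injective
    rw [map_mul, map_mul]
    exact hc.is_comm.comm _ _
  have hsub : H.IsSubnormal := hH.isSubnormal
  have h34 := fun k => Cfsg.Agent.S3534.result hL h H hsub M hs' hna' k
  have h35 := Cfsg.Agent.S3535.result hL h H hsub M hs' hna'
  have hknown : IsKnownSimple' (H ⧸ M) := Cfsg.Agent.S0000.result (G := H ⧸ M)
  have hpc : ¬ IsPrimeCyclic (H ⧸ M) := by
    intro h1
    apply hna'
    have : Fact (Nat.card (H ⧸ M)).Prime := ⟨h1⟩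
    have : IsCyclic (H ⧸ M) := isCyclic_of_prime_card (p := Nat.card (H ⧸ M)) rfl
    exact IsCyclic.isMulCommutative
  rcases H912.Known.known_split hknown hpc with h1 | ⟨w, hw, h1⟩ | h1 | h1
  · obtain ⟨n, hn, e1⟩ := h1
    exact (h34 n e1).elim
  · obtain ⟨-, X, g, -, -, h2⟩ := Cfsg.Agent.H364.LieNam.lie_nam table hw h1
    rw [Nat.card_congr e.toEquiv] at h2
    exact ⟨w, X, g, OddHalf.Known.isLieTypeChar_congr e h1, h2⟩
  · exact (h35.2 h1).elim
  · exact (h35.1 (isSporadic_of hs' h1)).elim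

end Cfsg.Agent.H365.SpecFrame
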