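import Cfsg.Agent.H365.SporRow
import Cfsg.Agent.H393.Iso.All
import Cfsg.Agent.H149.Sp.Conway
import Cfsg.Agent.H149.Sp.Engine
import Cfsg.Agent.H713.Spor.Fi22
import Cfsg.Agent.H163.PG.Fi23
import Cfsg.Agent.J2Type.ThreeF
import Cfsg.Agent.KFacts.J2.Facts
import Cfsg.Agent.OrdDiv.Table
import Cfsg.Agent.S0000

/-!
# A finite group with the order and the element orders of a sporadic group (or the Tits group) is that group
-/

set_option autoImplicit false
set_option maxRecDepth 100000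

namespace Cfsg.Agent.H365.SporRecog

open Subgroup Cfsg Cfsg.Agent.OrdDiv Cfsg.Agent.H364 Cfsg.Agent.H365.SporCheck Cfsg.Agent.H393.Iso
open Cfsg.Agent.H149.Sp Cfsg.Agent.KFacts.MM

universe u v

theorem noEdge_of_na {S : Type*} [Group S] {p : ℕ} (hp : p.Prime) (h : NA p S) : NoEdge S p 2 := fun g hg =>
  h.ne_two_mul hp g (by rw [hg, mul_comm])

theorem noEdge_of_adj {S : Type u} [Group S] {p q : ℕ} (h : ¬ H163.PG.Adj S p q) : NoEdge S p q := fun g hg =>
  h ⟨g, hg⟩

/-- no elements of order 35 in `J₂` -/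
theorem j2_35 {S : Type u} [Group S] [Finite S] (h : Spor.IsoJ2 S) : NoEdge S 7 5 := by
  have hc := NotCT.Orders.j2 h
  obtain ⟨t, w, Q, v, ρ, D⟩ := Cfsg.Agent.KFacts.J2.Facts.exists_dat_of h
  have hf : Fact (Nat.Prime 7) := ⟨by norm_num⟩
  intro x hx
  have h7 : orderOf (x ^ 5) = 7 := by
    rw [orderOf_pow_of_dvd (by norm_num) (by rw [hx]; norm_num), hx]
  have h5 : orderOf (x ^ 7) = 5 := by
    rw [orderOf_pow_of_dvd (by norm_num) (by rw [hx]; norm_num), hx]
  obtain ⟨P, hP⟩ := H149.Sp.Eng.exists_sylow (s := 7) (by norm_num) (by rw [hc]; norm_num) h7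
  have h1 := (Cfsg.Agent.J2Type.ThreeF.sylow_seven D.F P).1
  have h2 : x ^ 7 ∈ centralizer ((P : Subgroup S) : Set S) := by
    rw [hP, mem_centralizer_iff]
    intro y hy
    obtain ⟨k, rfl⟩ := mem_zpowers_iff.1 (show y ∈ zpowers (x ^ 5) from hy)
    have h3 : Commute (x ^ 5) (x ^ 7) := (Commute.refl x).pow_pow 5 7
    exact (h3.zpow_left k).eq
  rw [h1, hP] at h2
  have h3 : orderOf (x ^ 7) ∣ Nat.card (zpowers (x ^ 5)) := by
    have := orderOf_dvd_natCard (⟨x ^ 7, h2⟩ : zpowers (x ^ 5))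
    rwa [Subgroup.orderOf_mk] at this
  rw [Nat.card_zpowers, h7, h5] at h3
  norm_num at h3

theorem co1_adj {G : Type u} [Group G] (h : Spor.IsoCo1 G) {p q : ℕ} (hp : P5 p) (hq : P5 q) (hpq : p < q)
    (h57 : ¬ (p = 5 ∧ q = 7)) : NoEdge G q p := by
  refine (noEdge_of_adj fun hadj => ?_).symm
  obtain ⟨e⟩ := h
  obtain ⟨x, y, hx, hy, hxy⟩ := ((H163.PG.adj_congr e).1 hadj).exists_commute hp.prime hq.prime
  exact co1_not_comm hp hq hpq h57 hx hy hxy

theorem suz_adj {G : Type u} [Group G] (h : Spor.IsoSuz G) {p q : ℕ} (hp : P5 p) (hq : P5 q) (hpq : p < q)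
    (h57 : ¬ (p = 5 ∧ q = 7)) : NoEdge G q p := by
  refine (noEdge_of_adj fun hadj => ?_).symm
  obtain ⟨e⟩ := h
  obtain ⟨e'⟩ := LThreeCo1Suz.Main.t0
  have h1 := (H163.PG.adj_congr (e.trans e'.symm)).1 hadj
  have hfin : Finite Spor.Co1 := by
    have : Finite Co0 := Cfsg.Agent.CoOneType.FrameFix.finite_co0
    exact Quotient.finite _
  have h2 := adj_of_surjective (QuotientGroup.mk' _) (QuotientGroup.mk'_surjective _) h1
  obtain ⟨x, y, hx, hy, hxy⟩ := h2.of_subgroup.exists_commute hp.prime hq.prime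
  exact co1_not_comm hp hq hpq h57 hx hy hxy

theorem co2_adj {G : Type u} [Group G] (h : Spor.IsoCo2 G) {p q : ℕ} (hp : P5 p) (hq : P5 q) (hpq : p < q)
    (h57 : ¬ (p = 5 ∧ q = 7)) : NoEdge G q p := by
  obtain ⟨e⟩ := h
  exact (noEdge_of_adj (not_adj_of_emb ((Subgroup.inclusion (inf_le_left : Spor.Co2 ≤ Co0)).comp e.toMonoidHom)
    ((Subgroup.inclusion_injective (inf_le_left : Spor.Co2 ≤ Co0)).comp e.injective) hp hq hpq h57)).symm

theorem co3_adj {G : Type u} [Group G] (h : Spor.IsoCo3 G) {p q : ℕ} (hp : P5 p) (hq : P5 q) (hpq : p < q)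
    (h57 : ¬ (p = 5 ∧ q = 7)) : NoEdge G q p := by
  obtain ⟨e⟩ := h
  exact (noEdge_of_adj (not_adj_of_emb ((Subgroup.inclusion (inf_le_left : Spor.Co3 ≤ Co0)).comp e.toMonoidHom)
    ((Subgroup.inclusion_injective (inf_le_left : Spor.Co3 ≤ Co0)).comp e.injective) hp hq hpq h57)).symm

theorem mcl_adj {G : Type u} [Group G] (h : Spor.IsoMcL G) {p q : ℕ} (hp : P5 p) (hq : P5 q) (hpq : p < q)
    (h57 : ¬ (p = 5 ∧ q = 7)) : NoEdge G q p := by
  obtain ⟨e⟩ := h
  exact (noEdge_of_adj (not_adj_of_emb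
    ((Subgroup.inclusion (inf_le_left.trans inf_le_left : Spor.McL ≤ Co0)).comp e.toMonoidHom)
    ((Subgroup.inclusion_injective (inf_le_left.trans inf_le_left : Spor.McL ≤ Co0)).comp e.injective)
    hp hq hpq h57)).symm

theorem fi22_adj {G : Type u} [Group G] [Finite G] (h : Spor.IsoFi22 G) : NoEdge G 13 7 := by
  obtain ⟨e⟩ := h
  refine noEdge_of_adj (H163.PG.not_adj_of_cent (by norm_num) (by norm_num) fun x hx => ?_)
  rw [H713.Spor.Fi22.cent_13 e hx]
  norm_num

theorem fi23_adj {G : Type u} [Group G] [Finite G] (h : Spor.IsoFi23 G) : NoEdge G 23 13 := by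
  obtain ⟨e⟩ := h
  refine (noEdge_of_adj fun hadj => ?_).symm
  exact H163.PG.FiTT.not_adj_13_23 ((H163.PG.adj_congr e).1 hadj)

theorem mem1 {S : Type u} [Group S] {p t₀ : ℕ} (h : NoEdge S p t₀) : ∀ t ∈ [t₀], NoEdge S p t := by
  intro t ht
  rw [List.mem_singleton] at ht
  rw [ht]; exact h

theorem mem2 {S : Type u} [Group S] {p t₀ t₁ : ℕ} (h : NoEdge S p t₀) (h1 : NoEdge S p t₁) :
    ∀ t ∈ [t₀, t₁], NoEdge S p t := by
  intro t ht
  simp only [List.mem_cons, List.not_mem_nil, or_false] at ht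
  rcases ht with rfl | rfl
  · exact h
  · exact h1

theorem mem3 {S : Type u} [Group S] {p t₀ t₁ t₂ : ℕ} (h : NoEdge S p t₀) (h1 : NoEdge S p t₁) (h2 : NoEdge S p t₂) :
    ∀ t ∈ [t₀, t₁, t₂], NoEdge S p t := by
  intro t ht
  simp only [List.mem_cons, List.not_mem_nil, or_false] at ht
  rcases ht with rfl | rfl | rfl
  · exact h
  · exact h1
  · exact h2

section

variable {G : Type u} [Group G] [Finite G] {S : Type v} [Group S] [Finite S] [IsSimpleGroup S]
  (hcard : Nat.card G = Nat.card S) (hspec : ∀ x : G, ∃ y : S, orderOf y = orderOf x)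

include hcard hspec

theorem run (g : Grp) {n p : ℕ} {ts : List ℕ} {l : List (ℕ × ℕ)} (hx : (n, p, ts, l) ∈ rows)
    (hg : (g, n, l) ∈ H403.sporFac) (hS : OrdDiv.Real g S) (hc : Nat.card S = n)
    (hts : ∀ t ∈ ts, NoEdge S p t) : Nonempty (G ≃* S) :=
  row table table (fun S _ _ _ => Cfsg.Agent.S0000.result (G := S)) g hx hg hS hc hcard hspec hts

theorem tits (h : Lie.IsoTits S) : Nonempty (G ≃* S) :=
  run hcard hspec .tits (n := 17971200) (p := 13) (ts := [2]) (l := [(2,11),(3,3),(5,2),(13,1)]) (by decide) (by decide) h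
    (NotCT.Orders.tits h) (mem1 (noEdge_of_na (by norm_num) (na_tits h)))

theorem m11 (h : Spor.IsoM11 S) : Nonempty (G ≃* S) :=
  run hcard hspec .m11 (n := 7920) (p := 11) (ts := [2])
    (l := [(2,4),(3,2),(5,1),(11,1)]) (by decide) (by decide) h (NotCT.Orders.m11 h)
    (mem1 (noEdge_of_na (by norm_num) (na_m11 h)))

theorem m12 (h : Spor.IsoM12 S) : Nonempty (G ≃* S) :=
  run hcard hspec .m12 (n := 95040) (p := 11) (ts := [2])
    (l := [(2,6),(3,3),(5,1),(11,1)]) (by decide) (by decide) h (NotCT.Orders.m12 h)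
    (mem1 (noEdge_of_na (by norm_num) (na_m12 h)))

theorem m22 (h : Spor.IsoM22 S) : Nonempty (G ≃* S) :=
  run hcard hspec .m22 (n := 443520) (p := 11) (ts := [2])
    (l := [(2,7),(3,2),(5,1),(7,1),(11,1)]) (by decide) (by decide) h (NotCT.Orders.m22 h)
    (mem1 (noEdge_of_na (by norm_num) (na_m22 h)))

theorem m23 (h : Spor.IsoM23 S) : Nonempty (G ≃* S) :=
  run hcard hspec .m23 (n := 10200960) (p := 23) (ts := [2])
    (l := [(2,7),(3,2),(5,1),(7,1),(11,1),(23,1)]) (by decide) (by decide) h (NotCT.Orders.m23 h)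
    (mem1 (noEdge_of_na (by norm_num) (na_m23 h)))

theorem m24 (h : Spor.IsoM24 S) : Nonempty (G ≃* S) :=
  run hcard hspec .m24 (n := 244823040) (p := 23) (ts := [2])
    (l := [(2,10),(3,3),(5,1),(7,1),(11,1),(23,1)]) (by decide) (by decide) h (NotCT.Orders.m24 h)
    (mem1 (noEdge_of_na (by norm_num) (na_m24 h)))

theorem j1 (h : Spor.IsoJ1 S) : Nonempty (G ≃* S) :=
  run hcard hspec .j1 (n := 175560) (p := 19) (ts := [2])
    (l := [(2,3),(3,1),(5,1),(7,1),(11,1),(19,1)]) (by decide) (by decide) h (NotCT.Orders.j1 h)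
    (mem1 (noEdge_of_na (by norm_num) (na_j1 h)))

theorem j3 (h : Spor.IsoJ3 S) : Nonempty (G ≃* S) :=
  run hcard hspec .j3 (n := 50232960) (p := 19) (ts := [2])
    (l := [(2,7),(3,5),(5,1),(17,1),(19,1)]) (by decide) (by decide) h (NotCT.Orders.j3 h)
    (mem1 (noEdge_of_na (by norm_num) (na_j3 h)))

theorem j4 (h : Spor.IsoJ4 S) : Nonempty (G ≃* S) :=
  run hcard hspec .j4 (n := 86775571046077562880) (p := 37) (ts := [2])
    (l := [(2,21),(3,3),(5,1),(7,1),(11,3),(23,1),(29,1),(31,1),(37,1),(43,1)]) (by decide) (by decide) h (NotCT.Orders.j4 h)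
    (mem1 (noEdge_of_na (by norm_num) (na_j4_37 h)))

theorem co1 (h : Spor.IsoCo1 S) : Nonempty (G ≃* S) :=
  run hcard hspec .co1 (n := 4157776806543360000) (p := 23) (ts := [2, 7])
    (l := [(2,21),(3,9),(5,4),(7,2),(11,1),(13,1),(23,1)]) (by decide) (by decide) h (NotCT.Orders.co1 h)
    (mem2 (noEdge_of_na (by norm_num) (na_co1 h)) (co1_adj h p7 p23 (by norm_num) (by norm_num)))

theorem co2 (h : Spor.IsoCo2 S) : Nonempty (G ≃* S) :=
  run hcard hspec .co2 (n := 42305421312000) (p := 23) (ts := [2, 5])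
    (l := [(2,18),(3,6),(5,3),(7,1),(11,1),(23,1)]) (by decide) (by decide) h (NotCT.Orders.co2 h)
    (mem2 (noEdge_of_na (by norm_num) (na_co2 h)) (co2_adj h p5 p23 (by norm_num) (by norm_num)))

theorem co3 (h : Spor.IsoCo3 S) : Nonempty (G ≃* S) :=
  run hcard hspec .co3 (n := 495766656000) (p := 23) (ts := [2, 5])
    (l := [(2,10),(3,7),(5,3),(7,1),(11,1),(23,1)]) (by decide) (by decide) h (NotCT.Orders.co3 h)
    (mem2 (noEdge_of_na (by norm_num) (na_co3 h)) (co3_adj h p5 p23 (by norm_num) (by norm_num)))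

theorem mcl (h : Spor.IsoMcL S) : Nonempty (G ≃* S) :=
  run hcard hspec .mcl (n := 898128000) (p := 11) (ts := [2, 5, 7])
    (l := [(2,7),(3,6),(5,3),(7,1),(11,1)]) (by decide) (by decide) h (NotCT.Orders.mcl h)
    (mem3 (noEdge_of_na (by norm_num) (na_mcl h)) (mcl_adj h p5 p11 (by norm_num) (by norm_num)) (mcl_adj h p7 p11 (by norm_num) (by norm_num)))

theorem hs (h : Spor.IsoHS S) : Nonempty (G ≃* S) :=
  run hcard hspec .hs (n := 44352000) (p := 11) (ts := [2])
    (l := [(2,9),(3,2),(5,3),(7,1),(11,1)]) (by decide) (by decide) h (NotCT.Orders.hs h)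
    (mem1 (noEdge_of_na (by norm_num) (na_hs h)))

theorem suz (h : Spor.IsoSuz S) : Nonempty (G ≃* S) :=
  run hcard hspec .suz (n := 448345497600) (p := 11) (ts := [2, 5])
    (l := [(2,13),(3,7),(5,2),(7,1),(11,1),(13,1)]) (by decide) (by decide) h (NotCT.Orders.suz h)
    (mem2 (noEdge_of_na (by norm_num) (na_suz h)) (suz_adj h p5 p11 (by norm_num) (by norm_num)))

theorem he (h : Spor.IsoHe S) (h7 : NoEdge S 17 7) : Nonempty (G ≃* S) :=
  run hcard hspec .he (n := 4030387200) (p := 17) (ts := [2, 7])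
    (l := [(2,10),(3,3),(5,2),(7,3),(17,1)]) (by decide) (by decide) h (NotCT.Orders.he h)
    (mem2 (noEdge_of_na (by norm_num) (na_he h)) h7)

theorem ru (h : Spor.IsoRu S) : Nonempty (G ≃* S) :=
  run hcard hspec .ru (n := 145926144000) (p := 29) (ts := [2])
    (l := [(2,14),(3,3),(5,3),(7,1),(13,1),(29,1)]) (by decide) (by decide) h (NotCT.Orders.ru h)
    (mem1 (noEdge_of_na (by norm_num) (na_ru h)))

theorem on (h : Spor.IsoON S) : Nonempty (G ≃* S) :=
  run hcard hspec .on (n := 460815505920) (p := 31) (ts := [2])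
    (l := [(2,9),(3,4),(5,1),(7,3),(11,1),(19,1),(31,1)]) (by decide) (by decide) h (NotCT.Orders.on h)
    (mem1 (noEdge_of_na (by norm_num) (na_on h)))

theorem ly (h : Spor.IsoLy S) : Nonempty (G ≃* S) :=
  run hcard hspec .ly (n := 51765179004000000) (p := 67) (ts := [2])
    (l := [(2,8),(3,7),(5,6),(7,1),(11,1),(31,1),(37,1),(67,1)]) (by decide) (by decide) h (NotCT.Orders.ly h)
    (mem1 (noEdge_of_na (by norm_num) (na_ly h)))

theorem fi22 (h : Spor.IsoFi22 S) : Nonempty (G ≃* S) :=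
  run hcard hspec .fi22 (n := 64561751654400) (p := 13) (ts := [2, 7])
    (l := [(2,17),(3,9),(5,2),(7,1),(11,1),(13,1)]) (by decide) (by decide) h (NotCT.Orders.fi22 h)
    (mem2 (noEdge_of_na (by norm_num) (na_fi22 h)) (fi22_adj h))

theorem fi23 (h : Spor.IsoFi23 S) : Nonempty (G ≃* S) :=
  run hcard hspec .fi23 (n := 4089470473293004800) (p := 23) (ts := [2, 13])
    (l := [(2,18),(3,13),(5,2),(7,1),(11,1),(13,1),(17,1),(23,1)]) (by decide) (by decide) h (NotCT.Orders.fi23 h)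
    (mem2 (noEdge_of_na (by norm_num) (na_fi23 h)) (fi23_adj h))

theorem fi24 (h : Spor.IsoFi24' S) : Nonempty (G ≃* S) :=
  run hcard hspec .fi24 (n := 1255205709190661721292800) (p := 29) (ts := [2])
    (l := [(2,21),(3,16),(5,2),(7,3),(11,1),(13,1),(17,1),(23,1),(29,1)]) (by decide) (by decide) h (NotCT.Orders.fi24 h)
    (mem1 (noEdge_of_na (by norm_num) (na_fi24 h)))

theorem hn (h : Spor.IsoHN S) : Nonempty (G ≃* S) :=
  run hcard hspec .hn (n := 273030912000000) (p := 19) (ts := [2])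
    (l := [(2,14),(3,6),(5,6),(7,1),(11,1),(19,1)]) (by decide) (by decide) h (NotCT.Orders.hn h)
    (mem1 (noEdge_of_na (by norm_num) (na_hn h)))

theorem th (h : Spor.IsoTh S) : Nonempty (G ≃* S) :=
  run hcard hspec .th (n := 90745943887872000) (p := 19) (ts := [2])
    (l := [(2,15),(3,10),(5,3),(7,2),(13,1),(19,1),(31,1)]) (by decide) (by decide) h (NotCT.Orders.th h)
    (mem1 (noEdge_of_na (by norm_num) (na_th h)))

theorem b (h : Spor.IsoB S) : Nonempty (G ≃* S) :=
  run hcard hspec .b (n := 4154781481226426191177580544000000) (p := 47) (ts := [2])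
    (l := [(2,41),(3,13),(5,6),(7,2),(11,1),(13,1),(17,1),(19,1),(23,1),(31,1),(47,1)]) (by decide) (by decide) h (NotCT.Orders.b h)
    (mem1 (noEdge_of_na (by norm_num) (na_b h)))

theorem m (h : Spor.IsoM S) : Nonempty (G ≃* S) :=
  run hcard hspec .m (n := 808017424794512875886459904961710757005754368000000000) (p := 71) (ts := [2])
    (l := [(2,46),(3,20),(5,9),(7,6),(11,2),(13,3),(17,1),(19,1),(23,1),(29,1),(31,1),(41,1),(47,1),(59,1),(71,1)]) (by decide) (by decide) h (NotCT.Orders.m h)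
    (mem1 (noEdge_of_na (by norm_num) (na_m h (Or.inr (Or.inr rfl)))))

theorem j2 (h : Spor.IsoJ2 S) : Nonempty (G ≃* S) :=
  run hcard hspec .j2 (n := 604800) (p := 7) (ts := [5]) (l := [(2,7),(3,3),(5,2),(7,1)]) (by decide) (by decide) h
    (NotCT.Orders.j2 h) (mem1 (j2_35 h))

/-- **The sporadic groups** (up to a fact on `He`) -/
theorem sporadic_of (h7 : Spor.IsoHe S → NoEdge S 17 7) (h : IsSporadicGroup S) : Nonempty (G ≃* S) := by
  rcases h with h | h | h | h | h | h | h | h | h | h | h | h | h | h | h | h | h | h | h | h | h | h | h | h | h | h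
  · exact m11 hcard hspec h
  · exact m12 hcard hspec h
  · exact m22 hcard hspec h
  · exact m23 hcard hspec h
  · exact m24 hcard hspec h
  · exact j1 hcard hspec h
  · exact j2 hcard hspec h
  · exact j3 hcard hspec h
  · exact j4 hcard hspec h
  · exact co1 hcard hspec h
  · exact co2 hcard hspec h
  · exact co3 hcard hspec h
  · exact mcl hcard hspec h
  · exact hs hcard hspec h
  · exact suz hcard hspec h
  · exact he hcard hspec h (h7 h)
  · exact ru hcard hspec h
  · exact on hcard hspec h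
  · exact ly hcard hspec h
  · exact fi22 hcard hspec h
  · exact fi23 hcard hspec h
  · exact fi24 hcard hspec h
  · exact hn hcard hspec h
  · exact th hcard hspec h
  · exact b hcard hspec h
  · exact m hcard hspec h

end

end Cfsg.Agent.H365.SporRecog
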