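import Mathlib
import Cfsg.Agent.H365.SporRecog
import Cfsg.Agent.H547.SelfCent.He

/-!
# The sporadic rows: groups with the order and the element orders of a sporadic group
-/

set_option autoImplicit false

namespace Cfsg.Agent.H365.SporRecog

open Cfsg Cfsg.Agent.OrdDiv Cfsg.Agent.H364 Subgroup

universe u v

theorem he_noEdge {S : Type v} [Group S] [Finite S] (h : Spor.IsoHe S) : NoEdge S 17 7 := by
  intro x hx
  have hcard : Nat.card S = 4030387200 := NotCT.Orders.he h
  have h1 : orderOf (x ^ 7) = 17 := by
    rw [orderOf_pow' x (by norm_num), hx]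
    norm_num
  have h2 := Cfsg.Agent.H547.SelfCent.HeRow.he h hcard h1
  have h3 : x ∈ centralizer ({x ^ 7} : Set S) := by
    rw [mem_centralizer_singleton_iff]
    exact (Commute.refl x).pow_right 7
  have h4 : orderOf x ∣ 17 := by
    rw [← h2, ← Subgroup.orderOf_mk x h3]
    exact orderOf_dvd_natCard _
  rw [hx] at h4
  exact absurd h4 (by norm_num)

/-- **The sporadic groups** -/
theorem sporadic {G : Type u} [Group G] [Finite G] {S : Type v} [Group S] [Finite S] [IsSimpleGroup S]
    (hcard : Nat.card G = Nat.card S) (hspec : ∀ x : G, ∃ y : S, orderOf y = orderOf x)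
    (h : IsSporadicGroup S) : Nonempty (G ≃* S) :=
  sporadic_of hcard hspec he_noEdge h

end Cfsg.Agent.H365.SporRecog
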