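import Cfsg.Agent.H365.ExcEight
import Cfsg.Agent.H378.TwRows

/-!
# E₆(q) and ²E₆(q): primes not adjacent to the characteristic, exponent of the unipotent elements
-/

set_option autoImplicit false
set_option linter.unusedSectionVars false

namespace Cfsg.Agent.H365.ExcSix

open CoxeterSystem Subgroup Cfsg Cfsg.Lie Cfsg.Lie.ChevalleyDatum
open Cfsg.Agent.ChevalleyStructure Cfsg.Agent.ChevalleyStructure.Elts Cfsg.Agent.ChevalleyStructure.CoxeterGeom
  Cfsg.Agent.ChevalleyStructure.CoxeterGeomTypes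
open Cfsg.Agent.Nodes Cfsg.Agent.Nodes.RGDChev Cfsg.Agent.KFacts.RgdField Cfsg.Agent.KFacts.RgdChevCoord
  Cfsg.Agent.BpExc.TorCent Cfsg.Agent.BpExc.TorChev Cfsg.Agent.BpExc.Tow Cfsg.Agent.BpExc.TowChev
  Cfsg.Agent.BpExc.FamExt Cfsg.Agent.BpExc.FamUntw Cfsg.Agent.BpExc.FamInst Cfsg.Agent.BpExc.LangFr
  Cfsg.Agent.BpExc.FamField Cfsg.Agent.BpExc.RowsUntw
open Cfsg.Agent.GpExc.Field (glMap emb coe_emb glMap_xG emb_injective coe_glMap)
open Cfsg.Agent.H378.TorDual Cfsg.Agent.H378.ExcAdj Cfsg.Agent.H378.TorFin Cfsg.Agent.H378.RegFin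
  Cfsg.Agent.H378.ExcNear Cfsg.Agent.H378.RegTw Cfsg.Agent.H378.TwRows
open Cfsg.Agent.H364 Cfsg.Agent.H365.ExcEight

universe u v

theorem root_all {W : Type*} [Group W] [Finite W] (cs : CoxeterSystem CoxeterMatrix.E₆ W)
    {g : (Fin 6 → ℤ) ≃+ (Fin 6 → ℤ)}
    (hg : ∀ a, Tits.Roots.IsRoot cs e6T.isCartan (g a) ↔ Tits.Roots.IsRoot cs e6T.isCartan a)
    {k : Type u} [Field k] {ℓ m q : ℕ} (hℓ : ℓ.Prime) (hm : m = 8 ∨ m = 12 ∨ m = 9 ∨ m = 18) (h : od q ℓ = m)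
    {χ : Ch 6 k} (hE : EigG k q ℓ g χ)
    {a : Fin 6 → ℤ} (ha : Tits.Roots.IsRoot cs e6T.isCartan a) : χ (Multiplicative.ofAdd a) ≠ 1 := by
  have hm0 : 0 < m := by omega
  have h1 := mod_of_od hℓ h hm0
  have h2 := hℓ.two_le
  have h3 := Nat.le_of_dvd (by omega) h1
  have hq := cyclotomic_dvd hℓ h hm0
  rcases hm with hm | hm | hm | hm
  · exact root_E6 cs hg hℓ (Or.inl hm) (by omega) hq hE ha
  · exact root_E6 cs hg hℓ (Or.inr hm) (by omega) hq hE ha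
  · exact root_phi cs hg hℓ hm0 (by rw [hm]; decide) (by omega) (by omega) hq hE ha
  · exact root_phi cs hg hℓ hm0 (by rw [hm]; decide) (by omega) (by omega) hq hE ha

/-- **E₆(q)**: no element of order `ℓ p`, where `q` has order 8, 9, 12 (or 18) modulo `ℓ`. -/
theorem noEdge_E6 {F : Type u} [Field F] [Finite F] {p ℓ m : ℕ} (hp : p.Prime) (hpF : p ∣ Nat.card F) (hℓ : ℓ.Prime)
    (h : od (Nat.card F) ℓ = m) (hm : m = 8 ∨ m = 12 ∨ m = 9 ∨ m = 18) : NoEdge ↥(chevE6.group F) ℓ p := by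
  obtain ⟨k, _, _, f, r, hrF, _, n, hk, hka, hn0, hn⟩ := exists_closure F
  have hpr : p = r := by
    rw [hn] at hpF
    exact (Nat.prime_dvd_prime_iff_eq hp hrF.out).1 (hp.dvd_of_dvd_pow hpF)
  subst hpr
  have hfin := finite_W e6T (CoxeterMatrix.E₆.toCoxeterSystem)
  have hℓq := not_dvd_q hℓ h (by omega)
  have hℓp : ℓ ≠ p := by
    rintro rfl
    exact hℓq hpF
  have h1 := mod_of_od hℓ h (by omega)
  have h2 := hℓ.two_le
  have h3 := Nat.le_of_dvd (by omega) h1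
  exact noEdge_gen e6T CoxeterMatrix.E₆.toCoxeterSystem hk hka hn0 (phi_isFrob p n)
    (phi_fr e6T CoxeterMatrix.E₆.toCoxeterSystem p hk n) (e0 := emb e6T.inList f)
    (emb_injective e6T.inList f) (fun a => phi_emb' e6T f p hn a) hℓ hℓp
    (fun hd => by
      have := H378.LatCodim.le_of_dvd_card CoxeterMatrix.E₆.toCoxeterSystem e6T.isCartan hℓ hd
      omega)
    (fun g' χ hg' hE a ha => root_all _ hg' hℓ hm (by rw [← hn]; exact h) hE ha)

/-- **²E₆(q)**: no element of order `ℓ p`, where `q` has order 8, 12, 18 (or 9) modulo `ℓ`. -/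
theorem noEdge_TE6 {K : Type u} [Field K] [Fintype K] {q : ℕ} (hq : IsPrimePow q) (hK : Fintype.card K = q ^ 2)
    {p ℓ m : ℕ} (hp : p.Prime) (hpq : p ∣ q) (hℓ : ℓ.Prime)
    (h : od q ℓ = m) (hm : m = 8 ∨ m = 12 ∨ m = 9 ∨ m = 18) : NoEdge ↥(twistedE6 K q) ℓ p := by
  have hfin := H493.PGE6.finW
  obtain ⟨k, _, _, f, r, hrF, _, e, hk, hka, he, hqe⟩ := exists_closure' hq hK
  have hpr : p = r := by
    rw [hqe] at hpq
    exact (Nat.prime_dvd_prime_iff_eq hp hrF.out).1 (hp.dvd_of_dvd_pow hpq)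
  subst hpr
  have hℓq := not_dvd_q hℓ h (by omega)
  have hℓp : ℓ ≠ p := by
    rintro rfl
    exact hℓq hpq
  have h1 := mod_of_od hℓ h (by omega)
  have h2 := hℓ.two_le
  have h3 := Nat.le_of_dvd (by omega) h1
  exact noEdge_gen RGDTwE6.hp CoxeterMatrix.E₆.toCoxeterSystem hk hka he H493.TwE6Alg.isFrob_tau
    (H493.TwE6Alg.fr_tau CoxeterMatrix.E₆.toCoxeterSystem) (e0 := H493.TwE6Alg.embT f q)
    (H493.TwE6Alg.embT_injective f q)
    (fun a => H493.TwE6Alg.tau_embT f hqe hq hK a) hℓ hℓp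
    (fun hd => by
      have := H378.LatCodim.le_of_dvd_card CoxeterMatrix.E₆.toCoxeterSystem RGDTwE6.hp.isCartan hℓ hd
      omega)
    (fun g' χ hg' hE a ha => root_all _ hg' hℓ hm (by rw [← hqe]; exact h) hE ha)

theorem card_idx : Fintype.card chevE6.Idx = 78 := by
  rw [Fintype.card_sum, Fintype.card_fin, Fintype.card_fin]; decide +kernel

/-- the exponent of the `p`-elements -/
theorem exp_gl {K : Type*} [Field K] {p : ℕ} [hp : Fact p.Prime] [CharP K p] {j : ℕ} (S : Subgroup (GL chevE6.Idx K))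
    {x : ↥S} (hx : orderOf x = p ^ j) : j ≤ Nat.clog p 78 := by
  have hne : Nonempty chevE6.Idx := ⟨Sum.inl ⟨0, by decide⟩⟩
  have h1 : (((x : GL chevE6.Idx K) : Matrix chevE6.Idx chevE6.Idx K)) ^ p ^ j = 1 := by
    have h2 : x ^ p ^ j = 1 := by rw [← hx]; exact pow_orderOf_eq_one x
    have h3 := congrArg (fun y : ↥S => ((y : GL chevE6.Idx K) : Matrix chevE6.Idx chevE6.Idx K)) h2
    simpa using h3
  have h2 := ExcSeven.matrix_pow (e := Nat.clog p 78) (by rw [card_idx]; exact Nat.le_pow_clog hp.out.one_lt 78) h1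
  have h3 : x ^ p ^ Nat.clog p 78 = 1 := by
    apply Subtype.ext
    apply Units.ext
    simpa using h2
  have h4 := orderOf_dvd_of_pow_eq_one h3
  rw [hx] at h4
  exact (Nat.pow_dvd_pow_iff_le_right hp.out.one_lt).1 h4

end Cfsg.Agent.H365.ExcSix
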