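import Mathlib

/-!
# A search over the possible numbers of elements of each order (helper365)

`s m` = number of elements of order `m`, `N` = group order. The search enumerates the assignments `m ↦ s m`
on the divisors of `N` allowed by Frobenius' theorem, Cauchy's theorem and a list of allowed values.
-/

set_option autoImplicit false

namespace Cfsg.Agent.H365.Nse

open Finset

/-- the constraints -/
structure Dat (N : ℕ) (s : ℕ → ℕ) : Prop where
  pos : 0 < N
  frob : ∀ m, m ∣ N → m ∣ ∑ d ∈ m.divisors, s d
  tot : ∑ d ∈ N.divisors, s d = N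
  clo : ∀ m d, d ∣ m → s m ≠ 0 → s d ≠ 0
  cau : ∀ p, p.Prime → p ∣ N → s p ≠ 0
  phi : ∀ m, m.totient ∣ s m
  one : s 1 = 1

/-- the depth first search -/
def dfs (N : ℕ) (vals : ℕ → List ℕ) (P : List ℕ) (goal : List (ℕ × ℕ) → Bool) : List ℕ → List (ℕ × ℕ) → ℕ → Bool
  | [], acc, tot => tot != N || goal acc
  | m :: D, acc, tot => Nat.blt N tot || (0 :: vals m).all fun v =>
      (((acc.filter fun x => m % x.1 == 0).map Prod.snd).sum + v) % m != 0 ||
      ((v != 0 && acc.any fun x => m % x.1 == 0 && x.2 == 0) ||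
      ((v == 0 && P.contains m) || dfs N vals P goal D ((m, v) :: acc) (tot + v)))

variable {N : ℕ} {s : ℕ → ℕ} {vals : ℕ → List ℕ} {P : List ℕ} {goal : List (ℕ × ℕ) → Bool}

theorem sum_filter {pre D : List ℕ} {m : ℕ} (hP : (pre.reverse ++ m :: D).Pairwise (· < ·))
    (hL : ∀ d, d ∈ pre.reverse ++ m :: D ↔ d ∣ N) (hm : m ∣ N) (hN : N ≠ 0) :
    ((((pre.map fun d => (d, s d)).filter fun x => m % x.1 == 0).map Prod.snd).sum + s m) =
      ∑ d ∈ m.divisors, s d := by
  have hm0 : m ≠ 0 := by rintro rfl; exact hN (zero_dvd_iff.1 hm)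
  have h1 : ((pre.map fun d => (d, s d)).filter fun x => m % x.1 == 0).map Prod.snd =
      (pre.filter fun d => m % d == 0).map s := by
    rw [List.filter_map, List.map_map]
    rfl
  rw [h1]
  have hnd : (pre.filter fun d => m % d == 0).Nodup := by
    have h2 : (pre.reverse).Pairwise (· < ·) := (List.pairwise_append.1 hP).1
    have h3 : pre.reverse.Nodup := h2.imp (fun h => ne_of_lt h)
    exact (List.nodup_reverse.1 h3).filter _
  have h4 : m.properDivisors = (pre.filter fun d => m % d == 0).toFinset := by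
    ext d
    rw [Nat.mem_properDivisors, List.mem_toFinset, List.mem_filter, beq_iff_eq, ← Nat.dvd_iff_mod_eq_zero]
    constructor
    · rintro ⟨h5, h6⟩
      refine ⟨?_, h5⟩
      have h7 := (hL d).2 (h5.trans hm)
      rw [List.mem_append, List.mem_reverse, List.mem_cons] at h7
      rcases h7 with h7 | rfl | h7
      · exact h7
      · omega
      · have h8 := (List.pairwise_append.1 hP).2.1
        rw [List.pairwise_cons] at h8
        have := h8.1 d h7
        omega
    · rintro ⟨h5, h6⟩
      refine ⟨h6, ?_⟩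
      exact (List.pairwise_append.1 hP).2.2 d (List.mem_reverse.2 h5) m (List.mem_cons_self ..)
  rw [← Nat.insert_self_properDivisors hm0, Finset.sum_insert Nat.self_notMem_properDivisors, h4,
    List.sum_toFinset _ hnd, add_comm]

theorem dfs_sound (h : Dat N s) (h1 : ∀ m, m ∣ N → s m ≠ 0 → s m ∈ vals m) (hPr : ∀ p ∈ P, p.Prime) (D pre : List ℕ) :
    (pre.reverse ++ D).Pairwise (· < ·) → (∀ d, d ∈ pre.reverse ++ D ↔ d ∣ N) →
    dfs N vals P goal D (pre.map fun d => (d, s d)) (pre.map s).sum = true →
    goal ((pre.reverse ++ D).reverse.map fun d => (d, s d)) = true := by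
  have hN := h.pos.ne'
  induction D generalizing pre with
  | nil =>
    intro hP hL hd
    unfold dfs at hd
    rw [Bool.or_eq_true, bne_iff_ne] at hd
    rcases hd with hd | hd
    · exfalso
      apply hd
      rw [List.append_nil] at hP hL
      have hnd : pre.Nodup := List.nodup_reverse.1 (hP.imp (fun h => ne_of_lt h))
      rw [← List.sum_toFinset _ hnd, ← h.tot]
      apply Finset.sum_congr _ fun _ _ => rfl
      ext d
      rw [List.mem_toFinset, Nat.mem_divisors, ← hL, List.mem_reverse]
      exact ⟨fun h => ⟨h, hN⟩, fun h => h.1⟩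
    · simpa using hd
  | cons m D ih =>
    intro hP hL hd
    have hm : m ∣ N := (hL m).1 (by simp)
    have hm0 : m ≠ 0 := by rintro rfl; exact hN (zero_dvd_iff.1 hm)
    unfold dfs at hd
    rw [Bool.or_eq_true] at hd
    rcases hd with hd | hd
    · exfalso
      rw [Nat.blt_eq] at hd
      have h3 : (pre.map s).sum ≤ ∑ d ∈ N.divisors, s d := by
        have hnd : pre.Nodup := by
          have h2 : (pre.reverse).Pairwise (· < ·) := (List.pairwise_append.1 hP).1
          have h3 : pre.reverse.Nodup := h2.imp (fun h => ne_of_lt h)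
          exact List.nodup_reverse.1 h3
        rw [← List.sum_toFinset _ hnd]
        apply Finset.sum_le_sum_of_subset
        intro d hd
        rw [List.mem_toFinset] at hd
        rw [Nat.mem_divisors]
        exact ⟨(hL d).1 (List.mem_append.2 (Or.inl (List.mem_reverse.2 hd))), hN⟩
      rw [h.tot] at h3
      omega
    · rw [List.all_eq_true] at hd
      have hv : s m ∈ 0 :: vals m := by
        by_cases h0 : s m = 0
        · rw [h0]; exact List.mem_cons_self ..
        · exact List.mem_cons_of_mem _ (h1 m hm h0)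
      have h2 := hd _ hv
      rw [Bool.or_eq_true, Bool.or_eq_true, Bool.or_eq_true] at h2
      rcases h2 with h2 | h2 | h2 | h2
      · exfalso
        rw [sum_filter hP hL hm hN, bne_iff_ne] at h2
        exact h2 (Nat.mod_eq_zero_of_dvd (h.frob m hm))
      · exfalso
        rw [Bool.and_eq_true, bne_iff_ne, List.any_eq_true] at h2
        obtain ⟨h3, ⟨d, v⟩, h4, h5⟩ := h2
        rw [List.mem_map] at h4
        obtain ⟨d', -, h6⟩ := h4
        rw [Prod.mk.injEq] at h6
        obtain ⟨rfl, rfl⟩ := h6
        rw [Bool.and_eq_true, beq_iff_eq, beq_iff_eq] at h5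
        exact h.clo m d' (Nat.dvd_of_mod_eq_zero h5.1) h3 h5.2
      · exfalso
        rw [Bool.and_eq_true, beq_iff_eq, List.contains_iff_mem] at h2
        exact h.cau m (hPr m h2.2) hm h2.1
      · have h3 := ih (m :: pre) (by simpa using hP) (by simpa using hL) (by simpa [add_comm] using h2)
        simpa using h3

/-- the divisors of `N` in the list `L` -/
def dv (L : List ℕ) (N : ℕ) : List ℕ := L.filter fun d => N % d == 0

/-- the largest allowed value -/
def mx (l : List ℕ) : ℕ := l.foldr max 0

theorem le_mx {l : List ℕ} {x : ℕ} (h : x ∈ l) : x ≤ mx l := by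
  unfold mx
  induction l with
  | nil => simp at h
  | cons a l ih =>
    rw [List.foldr_cons]
    rcases List.mem_cons.1 h with rfl | h
    · exact le_max_left _ _
    · exact (ih h).trans (le_max_right _ _)

def chk (L : List ℕ) (vals : ℕ → List ℕ) (P : List ℕ) (goal : ℕ → List (ℕ × ℕ) → Bool) (N : ℕ) : Bool :=
  Nat.blt (((dv L N).map fun m => mx (vals m)).sum) N || dfs N vals P (goal N) (dv L N) [] 0

theorem mem_dv {L : List ℕ} (hL : ∀ d, d ∣ N → d ∈ L) (d : ℕ) : d ∈ dv L N ↔ d ∣ N := by
  unfold dv
  rw [List.mem_filter, beq_iff_eq, ← Nat.dvd_iff_mod_eq_zero]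
  exact ⟨fun h => h.2, fun h' => ⟨hL d h', h'⟩⟩

theorem chk_sound {L : List ℕ} {goal : ℕ → List (ℕ × ℕ) → Bool} (h : Dat N s)
    (hL : ∀ d, d ∣ N → d ∈ L) (hLp : L.Pairwise (· < ·)) (h1 : ∀ m, m ∣ N → s m ≠ 0 → s m ∈ vals m)
    (hPr : ∀ p ∈ P, p.Prime) (hc : chk L vals P goal N = true) :
    goal N ((dv L N).reverse.map fun d => (d, s d)) = true := by
  have hN := h.pos.ne'
  have hmem := mem_dv hL
  have hpw : (dv L N).Pairwise (· < ·) := hLp.filter _
  unfold chk at hc
  rw [Bool.or_eq_true] at hc
  rcases hc with hc | hc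
  · exfalso
    rw [Nat.blt_eq] at hc
    have h2 : ∑ d ∈ N.divisors, s d ≤ ((dv L N).map fun m => mx (vals m)).sum := by
      have hnd : (dv L N).Nodup := hpw.imp (fun h => ne_of_lt h)
      have h3 : N.divisors = (dv L N).toFinset := by
        ext d
        rw [Nat.mem_divisors, List.mem_toFinset, hmem]
        exact ⟨fun h => h.1, fun h => ⟨h, hN⟩⟩
      rw [h3, List.sum_toFinset _ hnd]
      apply List.sum_le_sum
      intro d hd
      by_cases h0 : s d = 0
      · rw [h0]; exact Nat.zero_le _
      · exact le_mx (h1 d ((hmem d).1 hd) h0)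
    rw [h.tot] at h2
    omega
  · have := dfs_sound (goal := goal N) h h1 hPr (dv L N) [] (by simpa using hpw) (by simpa using hmem) (by simpa using hc)
    simpa using this

end Cfsg.Agent.H365.Nse
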