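import Cfsg.Agent.H365.NseRun

/-!
# Order and spectrum from the set of the numbers of elements of each order: A₄, A₅, A₆ (helper365)
-/

set_option autoImplicit false

namespace Cfsg.Agent.H365.NseMain

open Finset Cfsg.Agent.H365.Nse Cfsg.Agent.H365.NseSix Cfsg.Agent.H365.NseRun

variable {N : ℕ} {s : ℕ → ℕ}

theorem run (h : Dat N s) {s2 : ℕ} {V : List ℕ} {T : List (ℕ × ℕ)} {P L : List ℕ} {N₀ B : ℕ} {R : List ℕ}
    (hd : ∀ m, s m ≠ 0 → m ∣ N) (ho : Odd s2) (h1 : s2 ≠ 1) (hV : ∀ m, s m ≠ 0 → s m ∈ 1 :: s2 :: V)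
    (ha : ∀ v ∈ 1 :: s2 :: V, ∃ m, s m = v) (hV0 : ∀ v ∈ 1 :: s2 :: V, v ≠ 0)
    (hT : ∀ x ∈ T, x.2 ∣ Nat.totient x.1) (hP : ∀ p ∈ P, p.Prime) (hB : N ∣ B) (hB0 : 0 < B)
    (hL : isDv L B = true) (hLp : L.Pairwise (· < ·)) (hR : ∀ r ∈ R, r ∣ N₀)
    (hs : sweep L s2 V T P N₀ R = true) : N = N₀ ∧ ∀ m, s m ≠ 0 ↔ m ∈ R := by
  have h2 : s 2 = s2 := two_eq h ho h1 (ha s2 (by simp))
  have hL' : ∀ d, d ∣ N → d ∈ L := by
    intro d hd'
    have hdB := hd'.trans hB
    unfold isDv at hL
    rw [List.all_eq_true] at hL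
    have := hL d (List.mem_range.2 (Nat.lt_succ_of_le (Nat.le_of_dvd hB0 hdB)))
    rw [Bool.or_eq_true, bne_iff_ne, List.contains_iff_mem] at this
    exact this.resolve_left (fun h => h (Nat.mod_eq_zero_of_dvd hdB))
  have h2N : 2 ∣ N := hd 2 (by rw [h2]; exact hV0 s2 (by simp))
  unfold sweep at hs
  rw [List.all_eq_true] at hs
  have h3 := hs N (hL' N dvd_rfl)
  rw [Bool.or_eq_true, bne_iff_ne] at h3
  have h4 := h3.resolve_left (fun h => h (Nat.mod_eq_zero_of_dvd h2N))
  have h5 := chk_sound h hL' hLp (fun m hm h0 => av_spec h (Or.inr h2) hT (fun m hm h0 => val_of h ho hV hm h0) hm h0)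
    hP h4
  exact gl_spec h hd hV0 ha hR hL' h5

/-- the values of `s q` -/
theorem at_q {V : List ℕ} (h : Dat N s) {s2 : ℕ} (ho : Odd s2) (hV : ∀ m, s m ≠ 0 → s m ∈ 1 :: s2 :: V)
    {q : ℕ} (hq : 3 ≤ q) (f : ℕ) (hf : f ∣ q.totient) : s q = 0 ∨ s q ∈ V.filter (fun v => v % f == 0) := by
  by_cases h0 : s q = 0
  · exact Or.inl h0
  · right
    rw [List.mem_filter, beq_iff_eq]
    exact ⟨val_of h ho hV hq h0, Nat.mod_eq_zero_of_dvd (hf.trans (h.phi q))⟩

theorem frob_p (h : Dat N s) {p : ℕ} (hp : p.Prime) (hpN : p ∣ N) : p ∣ 1 + s p := by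
  have := frob_pow h (k := 1) hp (by simpa using hpN)
  simpa [Finset.sum_range_succ, h.one] using this

theorem prime_of_dvd_pow {p q k : ℕ} (hp : p.Prime) (hq : q.Prime) (h : p ∣ q ^ k) : p = q :=
  (Nat.prime_dvd_prime_iff_eq hp hq).1 (hp.dvd_of_dvd_pow h)

theorem four (h : Dat N s) (hd : ∀ m, s m ≠ 0 → m ∣ N) (hV : ∀ m, s m ≠ 0 → s m ∈ [1, 3, 8])
    (ha : ∀ v ∈ [1, 3, 8], ∃ m, s m = v) : N = 12 ∧ ∀ m, s m ≠ 0 ↔ m ∈ [1, 2, 3] := by
  have h2 : s 2 = 3 := two_eq h (by decide) (by decide) (ha 3 (by simp))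
  refine run h (s2 := 3) (V := [8]) (T := [(9, 6)]) (P := [3]) (L := dl4) (N₀ := 12) (B := 36) hd (by decide)
    (by decide) hV ha (by decide) (by decide) (by norm_num) ?_ (by norm_num) dl4_all (by decide) (by decide) sweep4
  refine dvd_of_bounds [(2, 2), (3, 2)] fun p hp hpN => ?_
  by_cases hp2 : p = 2
  · subst hp2
    refine ⟨2, by simp, fun h8 => ?_⟩
    have h3 := frob_pow h hp h8
    have h4 := at_q h (s2 := 3) (V := [8]) (by decide) hV (q := 4) (by norm_num) 1 (one_dvd _)
    have h5 := at_q h (s2 := 3) (V := [8]) (by decide) hV (q := 8) (by norm_num) 1 (one_dvd _)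
    simp [Finset.sum_range_succ, h.one, h2] at h3 h4 h5
    omega
  · have hp3 : 3 ≤ p := by have := hp.two_le; omega
    have h3 := at_q h (s2 := 3) (V := [8]) (by decide) hV hp3 1 (one_dvd _)
    have h4 : s p = 8 := by
      have := h.cau p hp hpN
      simpa [this] using h3
    have h5 := frob_p h hp hpN
    rw [h4] at h5
    obtain rfl : p = 3 := prime_of_dvd_pow hp Nat.prime_three (k := 2) h5
    refine ⟨2, by simp, fun h27 => ?_⟩
    have h6 := frob_pow h hp h27
    have h7 := at_q h (s2 := 3) (V := [8]) (by decide) hV (q := 9) (by norm_num) 6 (by decide)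
    have h8 := at_q h (s2 := 3) (V := [8]) (by decide) hV (q := 27) (by norm_num) 18 (by decide)
    simp [Finset.sum_range_succ, h.one, h4] at h6 h7 h8
    omega

theorem five (h : Dat N s) (hd : ∀ m, s m ≠ 0 → m ∣ N) (hV : ∀ m, s m ≠ 0 → s m ∈ [1, 15, 20, 24])
    (ha : ∀ v ∈ [1, 15, 20, 24], ∃ m, s m = v) : N = 60 ∧ ∀ m, s m ≠ 0 ↔ m ∈ [1, 2, 3, 5] := by
  have h2 : s 2 = 15 := two_eq h (by decide) (by decide) (ha 15 (by simp))
  refine run h (s2 := 15) (V := [20, 24])
    (T := [(8, 4), (16, 8), (32, 16), (64, 32), (9, 6), (5, 4), (25, 20)]) (P := [3, 5]) (L := dl5)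
    (N₀ := 60) (B := 14400) hd (by decide)
    (by decide) hV ha (by decide) (by decide) (by norm_num) ?_ (by norm_num) dl5_all (by decide) (by decide) sweep5
  refine dvd_of_bounds [(2, 6), (3, 2), (5, 2)] fun p hp hpN => ?_
  have at' : ∀ (q f : ℕ), 3 ≤ q → f ∣ q.totient → s q = 0 ∨ s q ∈ [20, 24].filter (fun v => v % f == 0) :=
    fun q f hq hf => at_q h (s2 := 15) (V := [20, 24]) (by decide) hV hq f hf
  by_cases hp2 : p = 2
  · subst hp2
    refine ⟨6, by simp, fun h8 => ?_⟩
    have h3 := frob_pow h hp h8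
    have a4 := at' 4 1 (by norm_num) (one_dvd _)
    have a8 := at' 8 4 (by norm_num) (by decide)
    have a16 := at' 16 8 (by norm_num) (by decide)
    have a32 := at' 32 16 (by norm_num) (by decide)
    have a64 := at' 64 32 (by norm_num) (by decide)
    have a128 := at' 128 64 (by norm_num) (by decide)
    simp [Finset.sum_range_succ, h.one, h2] at h3 a4 a8 a16 a32 a64 a128
    omega
  · have hp3 : 3 ≤ p := by have := hp.two_le; omega
    have h3 := at' p 1 hp3 (one_dvd _)
    have h0 := h.cau p hp hpN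
    have h5 := frob_p h hp hpN
    simp [h0] at h3
    rcases h3 with h4 | h4 <;> rw [h4] at h5
    · -- 21
      have h6 : p ∣ 3 * 7 := h5
      rcases (Nat.Prime.dvd_mul hp).1 h6 with h6 | h6
      · obtain rfl : p = 3 := (Nat.prime_dvd_prime_iff_eq hp Nat.prime_three).1 h6
        refine ⟨2, by simp, fun h27 => ?_⟩
        have h6 := frob_pow h hp h27
        have a9 := at' 9 6 (by norm_num) (by decide)
        have a27 := at' 27 18 (by norm_num) (by decide)
        simp [Finset.sum_range_succ, h.one, h4] at h6 a9 a27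
        omega
      · obtain rfl : p = 7 := (Nat.prime_dvd_prime_iff_eq hp (by norm_num)).1 h6
        exfalso
        have a7 := at' 7 6 (by norm_num) (by decide)
        simp [h4] at a7
    · obtain rfl : p = 5 := prime_of_dvd_pow hp Nat.prime_five (k := 2) h5
      refine ⟨2, by simp, fun h125 => ?_⟩
      have h6 := frob_pow h hp h125
      have a25 := at' 25 20 (by norm_num) (by decide)
      have a125 := at' 125 100 (by norm_num) (by decide)
      simp [Finset.sum_range_succ, h.one, h4] at h6 a25 a125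
      omega

theorem six (h : Dat N s) (hd : ∀ m, s m ≠ 0 → m ∣ N) (hV : ∀ m, s m ≠ 0 → s m ∈ [1, 45, 80, 90, 144])
    (ha : ∀ v ∈ [1, 45, 80, 90, 144], ∃ m, s m = v) : N = 360 ∧ ∀ m, s m ≠ 0 ↔ m ∈ [1, 2, 3, 4, 5] := by
  have h2 : s 2 = 45 := two_eq h (by decide) (by decide) (ha 45 (by simp))
  refine run h (s2 := 45) (V := [80, 90, 144])
    (T := [(8, 4), (9, 6), (27, 18), (81, 54), (5, 4), (25, 20), (7, 6)]) (P := [3, 5, 7]) (L := dl6)
    (N₀ := 360) (B := 113400) hd (by decide)
    (by decide) hV ha (by decide) (by decide) (by norm_num) ?_ (by norm_num) dl6_all (by decide) (by decide) sweep6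
  refine dvd_of_bounds [(2, 3), (3, 4), (5, 2), (7, 1)] fun p hp hpN => ?_
  have at' : ∀ (q f : ℕ), 3 ≤ q → f ∣ q.totient → s q = 0 ∨ s q ∈ [80, 90, 144].filter (fun v => v % f == 0) :=
    fun q f hq hf => at_q h (s2 := 45) (V := [80, 90, 144]) (by decide) hV hq f hf
  by_cases hp2 : p = 2
  · subst hp2
    refine ⟨3, by simp, fun h16 => ?_⟩
    have h3 := frob_pow h hp h16
    have h3' := frob_pow h (k := 2) hp (Dvd.dvd.trans (by norm_num) h16)
    have a4 := at' 4 1 (by norm_num) (one_dvd _)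
    have a8 := at' 8 4 (by norm_num) (by decide)
    have a16 := at' 16 8 (by norm_num) (by decide)
    simp [Finset.sum_range_succ, h.one, h2] at h3 h3' a4 a8 a16
    omega
  · have hp3 : 3 ≤ p := by have := hp.two_le; omega
    have h3 := at' p 1 hp3 (one_dvd _)
    have h0 := h.cau p hp hpN
    have h5 := frob_p h hp hpN
    simp [h0] at h3
    rcases h3 with h4 | h4 | h4 <;> rw [h4] at h5
    · -- 81
      obtain rfl : p = 3 := prime_of_dvd_pow hp Nat.prime_three (k := 4) h5
      refine ⟨4, by simp, fun h243 => ?_⟩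
      have h6 := frob_pow h hp h243
      have h6' := frob_pow h (k := 3) hp (Dvd.dvd.trans (by norm_num) h243)
      have a9 := at' 9 6 (by norm_num) (by decide)
      have a27 := at' 27 18 (by norm_num) (by decide)
      have a81 := at' 81 54 (by norm_num) (by decide)
      have a243 := at' 243 162 (by norm_num) (by decide +kernel)
      simp [Finset.sum_range_succ, h.one, h4] at h6 h6' a9 a27 a81 a243
      omega
    · have h6 : p ∣ 7 * 13 := h5
      rcases (Nat.Prime.dvd_mul hp).1 h6 with h6 | h6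
      · obtain rfl : p = 7 := (Nat.prime_dvd_prime_iff_eq hp (by norm_num)).1 h6
        refine ⟨1, by simp, fun h49 => ?_⟩
        have h6 := frob_pow h hp h49
        have a49 := at' 49 42 (by norm_num) (by decide)
        simp [Finset.sum_range_succ, h.one, h4] at h6 a49
        omega
      · obtain rfl : p = 13 := (Nat.prime_dvd_prime_iff_eq hp (by norm_num)).1 h6
        exfalso
        have a13 := at' 13 12 (by norm_num) (by decide)
        simp [h4] at a13
    · have h6 : p ∣ 5 * 29 := h5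
      rcases (Nat.Prime.dvd_mul hp).1 h6 with h6 | h6
      · obtain rfl : p = 5 := (Nat.prime_dvd_prime_iff_eq hp (by norm_num)).1 h6
        refine ⟨2, by simp, fun h125 => ?_⟩
        have h6 := frob_pow h hp h125
        have a25 := at' 25 20 (by norm_num) (by decide)
        have a125 := at' 125 100 (by norm_num) (by decide)
        simp [Finset.sum_range_succ, h.one, h4] at h6 a25 a125
        omega
      · obtain rfl : p = 29 := (Nat.prime_dvd_prime_iff_eq hp (by norm_num)).1 h6
        exfalso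
        have a29 := at' 29 28 (by norm_num) (by decide)
        simp [h4] at a29

end Cfsg.Agent.H365.NseMain
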