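import Cfsg.Agent.H365.NseSix

/-!
# The orders and spectra for the three sets of numbers (helper365)
-/

set_option autoImplicit false

namespace Cfsg.Agent.H365.NseRun

open Finset Cfsg.Agent.H365.Nse Cfsg.Agent.H365.NseSix

def sweep (L : List ℕ) (s2 : ℕ) (V : List ℕ) (T : List (ℕ × ℕ)) (P : List ℕ) (N₀ : ℕ) (R : List ℕ) : Bool :=
  L.all fun N => N % 2 != 0 || chk L (av s2 V T) P (gl s2 V N₀ R) N

def dl4 : List ℕ := [1, 2, 3, 4, 6, 9, 12, 18, 36]

def dl5 : List ℕ := [1, 2, 3, 4, 5, 6, 8, 9, 10, 12, 15, 16, 18, 20, 24, 25, 30, 32, 36, 40, 45, 48, 50, 60, 64, 72, 75,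
  80, 90, 96, 100, 120, 144, 150, 160, 180, 192, 200, 225, 240, 288, 300, 320, 360, 400, 450, 480,
  576, 600, 720, 800, 900, 960, 1200, 1440, 1600, 1800, 2400, 2880, 3600, 4800, 7200, 14400]

def dl6 : List ℕ := [1, 2, 3, 4, 5, 6, 7, 8, 9, 10, 12, 14, 15, 18, 20, 21, 24, 25, 27, 28, 30, 35, 36, 40, 42, 45, 50,
  54, 56, 60, 63, 70, 72, 75, 81, 84, 90, 100, 105, 108, 120, 126, 135, 140, 150, 162, 168, 175, 180,
  189, 200, 210, 216, 225, 252, 270, 280, 300, 315, 324, 350, 360, 378, 405, 420, 450, 504, 525, 540,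
  567, 600, 630, 648, 675, 700, 756, 810, 840, 900, 945, 1050, 1080, 1134, 1260, 1350, 1400, 1512,
  1575, 1620, 1800, 1890, 2025, 2100, 2268, 2520, 2700, 2835, 3150, 3240, 3780, 4050, 4200, 4536,
  4725, 5400, 5670, 6300, 7560, 8100, 9450, 11340, 12600, 14175, 16200, 18900, 22680, 28350, 37800,
  56700, 113400]

def incr : List ℕ → Bool
  | [] => true
  | [_] => true
  | a :: b :: l => Nat.blt a b && incr (b :: l)

/-- `L` is the list of divisors of `B` -/
def isDv (L : List ℕ) (B : ℕ) : Bool := (List.range (B + 1)).all fun d => B % d != 0 || L.contains d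

theorem dl4_all : isDv dl4 36 = true := by decide +kernel
theorem dl5_all : isDv dl5 14400 = true := by decide +kernel
theorem dl6_all : isDv dl6 113400 = true := by decide +kernel

theorem sweep4 : sweep dl4 3 [8] [(9, 6)] [3] 12 [1, 2, 3] = true := by decide +kernel

theorem sweep5 : sweep dl5 15 [20, 24] [(8, 4), (16, 8), (32, 16), (64, 32), (9, 6), (5, 4), (25, 20)] [3, 5]
    60 [1, 2, 3, 5] = true := by decide +kernel

theorem sweep6 : sweep dl6 45 [80, 90, 144] [(8, 4), (9, 6), (27, 18), (81, 54), (5, 4), (25, 20), (7, 6)] [3, 5, 7]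
    360 [1, 2, 3, 4, 5] = true := by decide +kernel

end Cfsg.Agent.H365.NseRun
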