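import Cfsg.Agent.H365.Nse

/-!
# The numbers of elements of each order for `{1, 3, 8}`, `{1, 15, 20, 24}`, `{1, 45, 80, 90, 144}` (helper365)
-/

set_option autoImplicit false

namespace Cfsg.Agent.H365.NseSix

open Finset Cfsg.Agent.H365.Nse

/-- the allowed values -/
def av (s2 : ℕ) (V : List ℕ) (T : List (ℕ × ℕ)) (m : ℕ) : List ℕ :=
  if m == 1 then [1] else if m == 2 then [s2] else
    V.filter fun v => T.all fun x => m % x.1 != 0 || v % x.2 == 0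

/-- the goal: order `N₀` and element orders in `R` -/
def gl (s2 : ℕ) (V : List ℕ) (N₀ : ℕ) (R : List ℕ) (N : ℕ) (acc : List (ℕ × ℕ)) : Bool :=
  !((1 :: s2 :: V).all fun v => acc.any fun x => x.2 == v) ||
    (N == N₀ && acc.all fun x => (x.2 != 0) == R.contains x.1)

theorem av_spec {N s2 : ℕ} {s : ℕ → ℕ} {V : List ℕ} {T : List (ℕ × ℕ)} (h : Dat N s) (h2 : s 2 = 0 ∨ s 2 = s2)
    (hT : ∀ x ∈ T, x.2 ∣ Nat.totient x.1) (hV : ∀ m, 3 ≤ m → s m ≠ 0 → s m ∈ V) {m : ℕ} (hm : m ∣ N)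
    (h0 : s m ≠ 0) : s m ∈ av s2 V T m := by
  unfold av
  have hm0 : m ≠ 0 := by rintro rfl; exact h.pos.ne' (zero_dvd_iff.1 hm)
  by_cases h1 : m = 1
  · subst h1; simp [h.one]
  by_cases h3 : m = 2
  · subst h3
    have := h2.resolve_left h0
    simp [this]
  · rw [if_neg (by simpa using h1), if_neg (by simpa using h3), List.mem_filter]
    refine ⟨hV m (by omega) h0, ?_⟩
    rw [List.all_eq_true]
    intro x hx
    rw [Bool.or_eq_true]
    by_cases h4 : m % x.1 = 0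
    · right
      rw [beq_iff_eq]
      apply Nat.mod_eq_zero_of_dvd
      exact ((hT x hx).trans (Nat.totient_dvd_of_dvd (Nat.dvd_of_mod_eq_zero h4))).trans (h.phi m)
    · left
      simpa using h4

theorem dvd_of_bounds {N : ℕ} (B : List (ℕ × ℕ))
    (h : ∀ p, p.Prime → p ∣ N → ∃ e, (p, e) ∈ B ∧ ¬ p ^ (e + 1) ∣ N) :
    N ∣ (B.map fun x => x.1 ^ x.2).prod := by
  rw [Nat.dvd_iff_prime_pow_dvd_dvd]
  intro p k hp hk
  rcases Nat.eq_zero_or_pos k with rfl | hk0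
  · simp
  · obtain ⟨e, h1, h2⟩ := h p hp ((dvd_pow_self p hk0.ne').trans hk)
    have h3 : k ≤ e := by
      by_contra hlt
      exact h2 ((pow_dvd_pow p (by omega)).trans hk)
    exact (pow_dvd_pow p h3).trans (List.dvd_prod (List.mem_map.2 ⟨(p, e), h1, rfl⟩))

/-- `Σ_{d ∣ p ^ k} s d` -/
theorem frob_pow {N : ℕ} {s : ℕ → ℕ} (h : Dat N s) {p k : ℕ} (hp : p.Prime) (hk : p ^ k ∣ N) :
    p ^ k ∣ ∑ i ∈ range (k + 1), s (p ^ i) := by
  have := h.frob _ hk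
  rwa [Nat.sum_divisors_prime_pow hp] at this

theorem two_eq {N s2 : ℕ} {s : ℕ → ℕ} (h : Dat N s) (ho : Odd s2) (h1 : s2 ≠ 1) (ha : ∃ m, s m = s2) :
    s 2 = s2 := by
  obtain ⟨m, hm⟩ := ha
  rcases Nat.lt_or_ge 2 m with h2 | h2
  · exfalso
    have h3 := (Nat.totient_even h2).two_dvd.trans (h.phi m)
    rw [hm] at h3
    exact (Nat.not_even_iff_odd.2 ho) (even_iff_two_dvd.2 h3)
  · rcases (by omega : m = 0 ∨ m = 1 ∨ m = 2) with rfl | rfl | rfl
    · have h3 := h.phi 0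
      rw [Nat.totient_zero, zero_dvd_iff] at h3
      rw [h3] at hm
      exact absurd (hm ▸ ho) (by decide)
    · exact absurd (hm.symm.trans h.one) h1
    · exact hm

/-- values for `m ≥ 3` -/
theorem val_of {N s2 : ℕ} {s : ℕ → ℕ} (h : Dat N s) (ho : Odd s2) {V : List ℕ}
    (hV : ∀ m, s m ≠ 0 → s m ∈ (1 :: s2 :: V)) {m : ℕ} (hm : 3 ≤ m) (h0 : s m ≠ 0) : s m ∈ V := by
  have h1 := hV m h0
  have h3 := (Nat.totient_even (show 2 < m by omega)).two_dvd.trans (h.phi m)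
  rw [List.mem_cons, List.mem_cons] at h1
  rcases h1 with h1 | h1 | h1
  · rw [h1] at h3; omega
  · rw [h1] at h3
    exact absurd (even_iff_two_dvd.2 h3) (Nat.not_even_iff_odd.2 ho)
  · exact h1

theorem gl_spec {N s2 : ℕ} {s : ℕ → ℕ} (h : Dat N s) {V : List ℕ} {N₀ : ℕ} {R : List ℕ}
    (hd : ∀ m, s m ≠ 0 → m ∣ N) (hV0 : ∀ v ∈ 1 :: s2 :: V, v ≠ 0)
    (ha : ∀ v ∈ 1 :: s2 :: V, ∃ m, s m = v) (hR : ∀ r ∈ R, r ∣ N₀)
    {L : List ℕ} (hL : ∀ d, d ∣ N → d ∈ L)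
    (hg : gl s2 V N₀ R N ((dv L N).reverse.map fun d => (d, s d)) = true) :
    N = N₀ ∧ ∀ m, s m ≠ 0 ↔ m ∈ R := by
  have hmem := mem_dv hL
  unfold gl at hg
  rw [Bool.or_eq_true, Bool.and_eq_true, beq_iff_eq] at hg
  rcases hg with hg | ⟨hN, hg⟩
  · exfalso
    rw [Bool.not_eq_true', ← Bool.not_eq_true] at hg
    apply hg
    rw [List.all_eq_true]
    intro v hv
    obtain ⟨m, hm⟩ := ha v hv
    rw [List.any_eq_true]
    refine ⟨(m, s m), ?_, by simp [hm]⟩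
    rw [List.mem_map]
    refine ⟨m, ?_, rfl⟩
    rw [List.mem_reverse, hmem]
    exact hd m (by rw [hm]; exact hV0 v hv)
  · refine ⟨hN, fun m => ?_⟩
    rw [List.all_eq_true] at hg
    have key : m ∣ N → (s m ≠ 0 ↔ m ∈ R) := by
      intro hm
      have h1 := hg (m, s m) (List.mem_map.2 ⟨m, by rw [List.mem_reverse, hmem]; exact hm, rfl⟩)
      rw [beq_iff_eq] at h1
      rw [← bne_iff_ne, h1, List.contains_iff_mem]
    constructor
    · intro h0
      exact (key (hd m h0)).1 h0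
    · intro h0
      exact (key (by rw [hN]; exact hR m h0)).2 h0

end Cfsg.Agent.H365.NseSix
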