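import Mathlib

/-!
# The `p`-part of a natural number (helper365)

`pt p n = p ^ v_p(n)`, with the lifting-the-exponent formulas for `q ^ i - 1` and `q ^ i - (-1) ^ i`.
-/

set_option autoImplicit false

namespace Cfsg.Agent.H365.PPart

/-- the `p`-part -/
def pt (p n : ℕ) : ℕ := p ^ n.factorization p

theorem pt_dvd (p n : ℕ) : pt p n ∣ n := Nat.ordProj_dvd n p

theorem pt_pos (p n : ℕ) : 0 < pt p n := Nat.ordProj_pos n p

theorem one_le_pt (p n : ℕ) : 1 ≤ pt p n := pt_pos p n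

theorem pt_le (p : ℕ) {n : ℕ} (hn : n ≠ 0) : pt p n ≤ n := Nat.ordProj_le p hn

theorem pt_mul (p : ℕ) {a b : ℕ} (ha : a ≠ 0) (hb : b ≠ 0) : pt p (a * b) = pt p a * pt p b :=
  Nat.ordProj_mul p ha hb

theorem pt_one (p : ℕ) : pt p 1 = 1 := by simp [pt]

theorem pt_of_not_dvd {p n : ℕ} (h : ¬ p ∣ n) : pt p n = 1 := by
  rw [pt, Nat.factorization_eq_zero_of_not_dvd h, pow_zero]

theorem pt_pow (p : ℕ) {a : ℕ} (ha : a ≠ 0) (k : ℕ) : pt p (a ^ k) = pt p a ^ k := by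
  induction k with
  | zero => simp [pt_one]
  | succ k ih => rw [pow_succ, pow_succ, pt_mul p (pow_ne_zero k ha) ha, ih]

theorem pt_eq_padic {p : ℕ} (hp : p.Prime) (n : ℕ) : pt p n = p ^ padicValNat p n := by
  rw [pt, Nat.factorization_def n hp]

theorem pt_le_of_dvd {p a b : ℕ} (h : a ∣ b) (hb : b ≠ 0) : pt p a ≤ pt p b :=
  Nat.le_of_dvd (pt_pos _ _) (Nat.ordProj_dvd_ordProj_of_dvd hb h p)

theorem pt_self_pow {p k : ℕ} (hp : p.Prime) : pt p (p ^ k) = p ^ k := Nat.ordProj_self_pow hp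

theorem pt_prod (p : ℕ) {f : ℕ → ℕ} (hf : ∀ i, f i ≠ 0) (n : ℕ) :
    pt p (∏ i ∈ Finset.range n, f i) = ∏ i ∈ Finset.range n, pt p (f i) := by
  induction n with
  | zero => simp [pt_one]
  | succ n ih =>
    rw [Finset.prod_range_succ, Finset.prod_range_succ, pt_mul p (Finset.prod_ne_zero_iff.2 fun i _ => hf i) (hf n), ih]

/-- If `p ∤ a` then the `p`-part of `a * b` is that of `b`. -/
theorem pt_mul_of_not_dvd {p a b : ℕ} (ha : a ≠ 0) (hb : b ≠ 0) (h : ¬ p ∣ a) : pt p (a * b) = pt p b := by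
  rw [pt_mul p ha hb, pt_of_not_dvd h, one_mul]

/-- The reduction: from the order formula `c * G = S`. -/
theorem cube_le {p c G S : ℕ} (hc : c ≠ 0) (hG : G ≠ 0) (h : c * G = S)
    (hA : c * pt p S ^ 3 ≤ S * pt p c ^ 3) : pt p G ^ 3 ≤ G := by
  rw [← h, pt_mul p hc hG] at hA
  have h1 : (c * pt p c ^ 3) * pt p G ^ 3 ≤ (c * pt p c ^ 3) * G := by
    calc (c * pt p c ^ 3) * pt p G ^ 3 = c * (pt p c * pt p G) ^ 3 := by ring
      _ ≤ c * G * pt p c ^ 3 := hA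
      _ = _ := by ring
  exact Nat.le_of_mul_le_mul_left h1 (Nat.mul_pos (Nat.pos_of_ne_zero hc) (pow_pos (pt_pos _ _) 3))

theorem cube_le' {p c G S : ℕ} (hc : c ≠ 0) (hG : G ≠ 0) (h : c * G = S)
    (hA : c * pt p S ^ 3 ≤ S) : pt p G ^ 3 ≤ G :=
  cube_le hc hG h (hA.trans (Nat.le_mul_of_pos_right _ (pow_pos (pt_pos _ _) 3)))

/-! ### explicit numbers -/

/-- the product of a list of prime powers -/
def lprod (l : List (ℕ × ℕ)) : ℕ := (l.map fun x => x.1 ^ x.2).prod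

theorem exists_mem_of_dvd {p : ℕ} (hp : p.Prime) : ∀ {l : List (ℕ × ℕ)},
    (∀ x ∈ l, (x.1).Prime) → p ∣ lprod l → ∃ k, (p, k) ∈ l
  | [], _, h => by
    exfalso
    have h1 : p ∣ 1 := by simpa [lprod] using h
    exact hp.one_lt.ne' (Nat.dvd_one.1 h1)
  | x :: l, hl, h => by
    have h1 : lprod (x :: l) = x.1 ^ x.2 * lprod l := by simp [lprod]
    rw [h1] at h
    rcases (hp.dvd_mul).1 h with h2 | h2
    · have h3 : p = x.1 := (Nat.prime_dvd_prime_iff_eq hp (hl x List.mem_cons_self)).1 (hp.dvd_of_dvd_pow h2)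
      exact ⟨x.2, by rw [h3]; exact List.mem_cons_self⟩
    · obtain ⟨k, hk⟩ := exists_mem_of_dvd hp (fun y hy => hl y (List.mem_cons_of_mem _ hy)) h2
      exact ⟨k, List.mem_cons_of_mem _ hk⟩

/-- primality by trial division -/
def isP (p : ℕ) : Bool := Nat.blt 1 p && (List.range p).all fun d => Nat.blt d 2 || p % d != 0

theorem prime_of_isP {p : ℕ} (h : isP p = true) : p.Prime := by
  unfold isP at h
  rw [Bool.and_eq_true, List.all_eq_true] at h
  obtain ⟨h1, h2⟩ := h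
  have h1' : 1 < p := by simpa [Nat.blt_eq] using h1
  rw [Nat.prime_def_lt']
  refine ⟨h1', fun m hm hmp hd => ?_⟩
  have h3 := h2 m (List.mem_range.2 hmp)
  rw [Bool.or_eq_true] at h3
  rcases h3 with h3 | h3
  · rw [Nat.blt_eq] at h3
    omega
  · rw [Nat.mod_eq_zero_of_dvd hd] at h3
    exact absurd h3 (by decide)

/-- all the `p`-parts of `N = lprod l`, for the primes `p` with `ok p = true`, are at most `M`. -/
def chkB (l : List (ℕ × ℕ)) (N M : ℕ) (ok : ℕ → Bool) : Bool :=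
  lprod l == N && (l.all fun x => isP x.1 && (!(ok x.1) || (N % x.1 ^ (x.2 + 1) != 0 && Nat.ble (x.1 ^ x.2) M)))

theorem chkB_spec {l : List (ℕ × ℕ)} {N M : ℕ} {ok : ℕ → Bool} (hM : 1 ≤ M) (h : chkB l N M ok = true)
    {p : ℕ} (hp : p.Prime) (hok : ok p = true) : pt p N ≤ M := by
  unfold chkB at h
  rw [Bool.and_eq_true, List.all_eq_true] at h
  obtain ⟨h1, h2⟩ := h
  have h1' : lprod l = N := by simpa using h1
  have hpr : ∀ x ∈ l, (x.1).Prime := by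
    intro x hx
    have := h2 x hx
    rw [Bool.and_eq_true] at this
    exact prime_of_isP this.1
  by_cases hd : p ∣ N
  · obtain ⟨k, hk⟩ := exists_mem_of_dvd hp hpr (by rw [h1']; exact hd)
    have h3 := h2 _ hk
    simp only [hok, Bool.not_true, Bool.false_or, Bool.and_eq_true, Nat.ble_eq] at h3
    obtain ⟨-, h4, h5⟩ := h3
    have hN : N ≠ 0 := by
      rintro rfl
      simp at h4
    have h6 : N.factorization p ≤ k := by
      by_contra hlt
      push Not at hlt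
      have := (hp.pow_dvd_iff_le_factorization hN).2 hlt
      rw [Nat.mod_eq_zero_of_dvd this] at h4
      simp at h4
    exact (Nat.pow_le_pow_right hp.pos h6).trans h5
  · rw [pt_of_not_dvd hd]
    exact hM

/-! ### lifting the exponent -/

theorem sub_one_ne {q i : ℕ} (hq : 2 ≤ q) (hi : i ≠ 0) : q ^ i - 1 ≠ 0 := by
  have : 1 < q ^ i := Nat.one_lt_pow hi (by omega)
  omega

theorem not_dvd_of_dvd_sub {p q : ℕ} (hp : p.Prime) (hq : 1 ≤ q) (h : p ∣ q - 1) : ¬ p ∣ q := by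
  intro h'
  have : p ∣ 1 := by
    have h1 : q = (q - 1) + 1 := by omega
    rw [h1] at h'
    exact (Nat.dvd_add_right h).1 h'
  exact hp.one_lt.ne' (Nat.dvd_one.1 this)

/-- `p` odd, `p ∣ q - 1` -/
theorem pt_sub {p q i : ℕ} (hp : p.Prime) (hp2 : p ≠ 2) (hq : 2 ≤ q) (h : p ∣ q - 1) (hi : i ≠ 0) :
    pt p (q ^ i - 1) = pt p (q - 1) * pt p i := by
  have := Fact.mk hp
  have h1 := padicValNat.pow_sub_pow (p := p) (hp.odd_of_ne_two hp2) (by omega : 1 < q) h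
    (not_dvd_of_dvd_sub hp (by omega) h) hi
  rw [one_pow] at h1
  rw [pt_eq_padic hp, pt_eq_padic hp, pt_eq_padic hp, h1, pow_add]

/-- `p` odd, `p ∣ q ^ 2 - 1` -/
theorem pt_sub_two {p q i : ℕ} (hp : p.Prime) (hp2 : p ≠ 2) (hq : 2 ≤ q) (h : p ∣ q ^ 2 - 1) (hi : i ≠ 0) :
    pt p (q ^ (2 * i) - 1) = pt p (q ^ 2 - 1) * pt p i := by
  rw [pow_mul]
  exact pt_sub hp hp2 (by nlinarith) h hi

theorem sq_sub_one {q : ℕ} (hq : 1 ≤ q) : q ^ 2 - 1 = (q - 1) * (q + 1) := by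
  obtain ⟨c, rfl⟩ : ∃ c, q = c + 1 := ⟨q - 1, by omega⟩
  simp only [Nat.add_sub_cancel]
  have : (c + 1) ^ 2 = c * (c + 1 + 1) + 1 := by ring
  omega

theorem pow_two_mul_sub_one {q i : ℕ} (hq : 1 ≤ q) : q ^ (2 * i) - 1 = (q ^ i - 1) * (q ^ i + 1) := by
  rw [mul_comm 2 i, pow_mul]
  exact sq_sub_one (Nat.one_le_pow _ _ hq)

/-- `p` odd: `p` divides at most one of `x - 1`, `x + 1` -/
theorem pt_sq_cases {p x : ℕ} (hp : p.Prime) (hp2 : p ≠ 2) (hx : 2 ≤ x) :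
    (pt p (x ^ 2 - 1) = pt p (x - 1) ∧ pt p (x + 1) = 1) ∨ (pt p (x ^ 2 - 1) = pt p (x + 1) ∧ pt p (x - 1) = 1) := by
  rw [sq_sub_one (by omega), pt_mul p (by omega) (by omega)]
  by_cases h : p ∣ x - 1
  · have h1 : ¬ p ∣ x + 1 := by
      intro h'
      have h2 : p ∣ (x + 1) - (x - 1) := Nat.dvd_sub h' h
      rw [show (x + 1) - (x - 1) = 2 by omega] at h2
      exact hp2 ((Nat.prime_dvd_prime_iff_eq hp Nat.prime_two).1 h2)
    left
    rw [pt_of_not_dvd h1]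
    simp
  · right
    rw [pt_of_not_dvd h]
    simp

theorem pt_sq_le {p x : ℕ} (hp : p.Prime) (hp2 : p ≠ 2) (hx : 2 ≤ x) : pt p (x ^ 2 - 1) ≤ x + 1 := by
  rcases pt_sq_cases hp hp2 hx with ⟨h, -⟩ | ⟨h, -⟩
  · rw [h]; exact (pt_le p (by omega)).trans (by omega)
  · rw [h]; exact pt_le p (by omega)

/-- `p` odd: the `p`-part of `q ^ (2 i) - 1` is at most `q ^ i + 1`. -/
theorem pt_even_le {p q i : ℕ} (hp : p.Prime) (hp2 : p ≠ 2) (hq : 2 ≤ q) (hi : i ≠ 0) :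
    pt p (q ^ (2 * i) - 1) ≤ q ^ i + 1 := by
  rw [mul_comm 2 i, pow_mul]
  exact pt_sq_le hp hp2 (le_trans hq (Nat.le_self_pow hi q))

/-- `p = 2`, `q` odd -/
theorem pt_two_even {q i : ℕ} (hq : 2 ≤ q) (hodd : Odd q) (hi : i ≠ 0) :
    pt 2 (q ^ (2 * i) - 1) = pt 2 (q ^ 2 - 1) * pt 2 i := by
  have hq2 : ¬ 2 ∣ q := by
    intro h
    exact (Nat.not_even_iff_odd.2 hodd) (even_iff_two_dvd.2 h)
  have h1 := padicValNat.pow_two_sub_one (x := q) (n := 2 * i) (by omega) hq2 (by omega) (by simp)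
  have h2 : padicValNat 2 (2 * i) = 1 + padicValNat 2 i := by
    rw [padicValNat.mul (by norm_num) hi, padicValNat_self]
  have h3 : padicValNat 2 (q ^ 2 - 1) = padicValNat 2 (q + 1) + padicValNat 2 (q - 1) := by
    rw [sq_sub_one (by omega), padicValNat.mul (by omega) (by omega)]; ring
  rw [pt_eq_padic Nat.prime_two, pt_eq_padic Nat.prime_two, pt_eq_padic Nat.prime_two, ← pow_add]
  congr 1
  omega

theorem pow_odd_sub {q i : ℕ} (hq : 1 ≤ q) :
    q ^ i - 1 = (q - 1) * ∑ j ∈ Finset.range i, q ^ j := by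
  have := Nat.geomSum_eq (m := q)
  have h := geom_sum_mul_add (q - 1) i
  rw [Nat.sub_add_cancel hq] at h
  rw [← h]
  simp [mul_comm]

theorem odd_geom {q i : ℕ} (hodd : Odd q) (hi : Odd i) : Odd (∑ j ∈ Finset.range i, q ^ j) := by
  rw [Finset.odd_sum_iff_odd_card_odd]
  have : (Finset.range i).filter (fun j => Odd (q ^ j)) = Finset.range i := by
    rw [Finset.filter_true_of_mem]
    intro j _
    exact hodd.pow
  rw [this, Finset.card_range]
  exact hi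

/-- `p = 2`, `q` odd, `i` odd -/
theorem pt_two_odd_sub {q i : ℕ} (hq : 2 ≤ q) (hodd : Odd q) (hi : Odd i) :
    pt 2 (q ^ i - 1) = pt 2 (q - 1) := by
  have hs := odd_geom hodd hi
  rw [pow_odd_sub (by omega), mul_comm, pt_mul_of_not_dvd hs.pos.ne' (by omega)]
  intro h
  exact (Nat.not_even_iff_odd.2 hs) (even_iff_two_dvd.2 h)

theorem pow_odd_add {q i : ℕ} (hi : Odd i) : ∃ s : ℕ, q ^ i + 1 = (q + 1) * s ∧ (s : ℤ) = ∑ j ∈ Finset.range i, (-(q : ℤ)) ^ j := by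
  have h : (∑ j ∈ Finset.range i, (-(q : ℤ)) ^ j) * (-(q : ℤ) - 1) = (-(q : ℤ)) ^ i - 1 := geom_sum_mul _ _
  rw [hi.neg_pow] at h
  have h2 : ((q + 1 : ℕ) : ℤ) * (∑ j ∈ Finset.range i, (-(q : ℤ)) ^ j) = ((q ^ i + 1 : ℕ) : ℤ) := by
    push_cast
    linarith
  have h3 : 0 ≤ ∑ j ∈ Finset.range i, (-(q : ℤ)) ^ j := by
    by_contra hneg
    push Not at hneg
    have h4 : (0 : ℤ) < ((q + 1 : ℕ) : ℤ) := by positivity
    have h5 : (0 : ℤ) < ((q ^ i + 1 : ℕ) : ℤ) := by positivity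
    nlinarith
  obtain ⟨s, hs⟩ := Int.eq_ofNat_of_zero_le h3
  refine ⟨s, ?_, hs.symm⟩
  rw [hs] at h2
  exact_mod_cast h2.symm

/-- `p = 2`, `q` odd, `i` odd -/
theorem pt_two_odd_add {q i : ℕ} (hodd : Odd q) (hi : Odd i) :
    pt 2 (q ^ i + 1) = pt 2 (q + 1) := by
  obtain ⟨s, h1, h2⟩ := pow_odd_add (q := q) hi
  have hs : Odd s := by
    have h3 := congrArg (fun z : ℤ => (z : ZMod 2)) h2
    have hq1 : (q : ZMod 2) = 1 := by
      obtain ⟨c, rfl⟩ := hodd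
      push_cast
      have : (2 : ZMod 2) = 0 := rfl
      rw [this]; simp
    have hi1 : (i : ZMod 2) = 1 := by
      obtain ⟨c, rfl⟩ := hi
      push_cast
      have : (2 : ZMod 2) = 0 := rfl
      rw [this]; simp
    have hm1 : (-1 : ZMod 2) = 1 := rfl
    simp only [Int.cast_natCast, Int.cast_sum, Int.cast_pow, Int.cast_neg, hq1, hm1, one_pow,
      Finset.sum_const, Finset.card_range, nsmul_eq_mul, mul_one, hi1] at h3
    by_contra hne
    rw [Nat.not_odd_iff_even] at hne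
    have h4 : (s : ZMod 2) = 0 := (ZMod.natCast_eq_zero_iff s 2).2 hne.two_dvd
    rw [h4] at h3
    exact absurd h3 (by decide)
  have hs0 : s ≠ 0 := hs.pos.ne'
  rw [h1, mul_comm, pt_mul_of_not_dvd hs0 (by omega)]
  intro h
  exact (Nat.not_even_iff_odd.2 hs) (even_iff_two_dvd.2 h)

/-- `p = 2`, `q` odd, `i` even: `q ^ i + 1` is twice an odd number. -/
theorem pt_two_even_add {q i : ℕ} (hodd : Odd q) (hi : Even i) : pt 2 (q ^ i + 1) = 2 := by
  obtain ⟨k, rfl⟩ := hi.exists_two_nsmul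
  have h1 : (q ^ (2 • k)) % 4 = 1 := by
    rw [smul_eq_mul, pow_mul, Nat.pow_mod]
    have : q ^ 2 % 4 = 1 := by
      obtain ⟨c, rfl⟩ := hodd
      ring_nf
      omega
    rw [this]
    simp
  obtain ⟨c, hc⟩ : ∃ c, q ^ (2 • k) + 1 = 2 * (2 * c + 1) := ⟨(q ^ (2 • k)) / 4, by omega⟩
  rw [hc, mul_comm, pt_mul_of_not_dvd (by omega) (by norm_num) (by omega)]
  exact pt_self_pow (k := 1) Nat.prime_two

/-- one of the 2-parts of `q - 1`, `q + 1` is 2 -/
theorem two_cases {q : ℕ} (hq : 2 ≤ q) (hodd : Odd q) :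
    (pt 2 (q - 1) = 2 ∧ q % 4 = 3) ∨ (pt 2 (q + 1) = 2 ∧ q % 4 = 1) := by
  obtain ⟨c, rfl⟩ := hodd
  rcases Nat.even_or_odd c with ⟨d, hd⟩ | ⟨d, hd⟩
  · right
    refine ⟨?_, by omega⟩
    rw [show 2 * c + 1 + 1 = (2 * d + 1) * 2 by omega, pt_mul_of_not_dvd (by omega) (by norm_num) (by omega)]
    exact pt_self_pow (k := 1) Nat.prime_two
  · left
    refine ⟨?_, by omega⟩
    rw [show 2 * c + 1 - 1 = (2 * d + 1) * 2 by omega, pt_mul_of_not_dvd (by omega) (by norm_num) (by omega)]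
    exact pt_self_pow (k := 1) Nat.prime_two

theorem pt_two_sq {q : ℕ} (hq : 2 ≤ q) : pt 2 (q ^ 2 - 1) = pt 2 (q - 1) * pt 2 (q + 1) := by
  rw [sq_sub_one (by omega), pt_mul 2 (by omega) (by omega)]

/-- the 2-part of `q ^ 2 - 1` is at most `2 (q + 1)` -/
theorem pt_two_sq_le {q : ℕ} (hq : 2 ≤ q) (hodd : Odd q) : pt 2 (q ^ 2 - 1) ≤ 2 * (q + 1) := by
  rw [pt_two_sq hq]
  rcases two_cases hq hodd with ⟨h, -⟩ | ⟨h, -⟩
  · rw [h]; exact Nat.mul_le_mul_left _ (pt_le 2 (by omega))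
  · rw [h, mul_comm]; exact Nat.mul_le_mul_left _ ((pt_le 2 (by omega)).trans (by omega))

/-- `q ^ i - (-1) ^ i` -/
def emn (q i : ℕ) : ℕ := if Even i then q ^ i - 1 else q ^ i + 1

theorem em_ne {q i : ℕ} (hq : 2 ≤ q) (hi : i ≠ 0) : emn q i ≠ 0 := by
  unfold emn
  split_ifs
  · exact sub_one_ne hq hi
  · omega

/-- `p` odd, `p ∣ q + 1` -/
theorem pt_em {p q i : ℕ} (hp : p.Prime) (hp2 : p ≠ 2) (hq : 2 ≤ q) (h : p ∣ q + 1) (hi : i ≠ 0) :
    pt p (emn q i) = pt p (q + 1) * pt p i := by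
  have := Fact.mk hp
  have hpq : ¬ p ∣ q := fun h' => hp.one_lt.ne' (Nat.dvd_one.1 ((Nat.dvd_add_right h').1 h))
  unfold emn
  split_ifs with he
  · obtain ⟨k, rfl⟩ := he.exists_two_nsmul
    have hk : k ≠ 0 := by rintro rfl; simp at hi
    rw [smul_eq_mul, pt_sub_two hp hp2 hq (by rw [sq_sub_one (by omega)]; exact Dvd.dvd.mul_left h _) hk,
      pt_mul p (by norm_num) hk, pt_of_not_dvd (p := p) (n := 2)
        (fun h2 => hp2 ((Nat.prime_dvd_prime_iff_eq hp Nat.prime_two).1 h2)), one_mul]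
    congr 1
    rcases pt_sq_cases hp hp2 hq with ⟨-, h2⟩ | ⟨h1, -⟩
    · exfalso
      have h3 : p ∣ pt p (q + 1) := by
        rw [pt]
        apply dvd_pow_self
        have := (hp.dvd_iff_one_le_factorization (by omega)).1 h
        omega
      rw [h2] at h3
      exact hp.one_lt.ne' (Nat.dvd_one.1 h3)
    · exact h1
  · have h1 := padicValNat.pow_add_pow (p := p) (hp.odd_of_ne_two hp2) (y := 1) h hpq (Nat.not_even_iff_odd.1 he)
    rw [one_pow] at h1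
    rw [pt_eq_padic hp, pt_eq_padic hp, pt_eq_padic hp, h1, pow_add]

/-- two consecutive `q ^ i - 1` -/
theorem not_both_sub {p q i : ℕ} (hp : p.Prime) (hq : 2 ≤ q) (h : ¬ p ∣ q - 1) (h1 : p ∣ q ^ i - 1) :
    ¬ p ∣ q ^ (i + 1) - 1 := by
  intro h2
  have h3 : p ∣ (q ^ (i + 1) - 1) - (q ^ i - 1) := Nat.dvd_sub h2 h1
  have h4 : 1 ≤ q ^ i := Nat.one_le_pow _ _ (by omega)
  have h5 : (q ^ (i + 1) - 1) - (q ^ i - 1) = q ^ i * (q - 1) := by
    rw [pow_succ, Nat.mul_sub, mul_one]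
    omega
  rw [h5] at h3
  rcases hp.dvd_mul.1 h3 with h6 | h6
  · exact not_dvd_of_dvd_sub hp h4 h1 h6
  · exact h h6

/-- two consecutive `q ^ i - (-1) ^ i` -/
theorem not_both_em {p q i : ℕ} (hp : p.Prime) (hq : 2 ≤ q) (h : ¬ p ∣ q + 1) (h1 : p ∣ emn q i) :
    ¬ p ∣ emn q (i + 1) := by
  intro h2
  unfold emn at h1 h2
  have h4 : 1 ≤ q ^ i := Nat.one_le_pow _ _ (by omega)
  have hadd : p ∣ q ^ i * (q + 1) := by
    by_cases he : Even i
    · rw [if_pos he] at h1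
      rw [if_neg (Nat.not_even_iff_odd.2 he.add_one)] at h2
      have := Nat.dvd_add h2 h1
      have h5 : q ^ (i + 1) + 1 + (q ^ i - 1) = q ^ i * (q + 1) := by
        rw [pow_succ, mul_add, mul_one]; omega
      rwa [h5] at this
    · rw [if_neg he] at h1
      rw [if_pos (Nat.not_even_iff_odd.1 he).add_one] at h2
      have := Nat.dvd_add h2 h1
      have h6 : 1 ≤ q ^ (i + 1) := Nat.one_le_pow _ _ (by omega)
      have h5 : q ^ (i + 1) - 1 + (q ^ i + 1) = q ^ i * (q + 1) := by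
        rw [show q ^ (i + 1) = q ^ i * q by ring] at *
        rw [mul_add, mul_one]; omega
      rwa [h5] at this
  rcases hp.dvd_mul.1 hadd with h6 | h6
  · have hq' : p ∣ q := hp.dvd_of_dvd_pow h6
    have hi : i ≠ 0 := by
      rintro rfl
      rw [pow_zero] at h6
      exact hp.one_lt.ne' (Nat.dvd_one.1 h6)
    have h7 : p ∣ q ^ i := dvd_pow hq' hi
    split_ifs at h1
    · exact not_dvd_of_dvd_sub hp h4 h1 h7
    · exact hp.one_lt.ne' (Nat.dvd_one.1 ((Nat.dvd_add_right h7).1 h1))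
  · exact h h6

end Cfsg.Agent.H365.PPart
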