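import Mathlib
import Cfsg.Agent.H160.QFinal
import Cfsg.Agent.Lib.Zsigmondy
import Cfsg.Agent.H159.SpBuild

/-!
# `Ω_{2m+3}(q)`, `q` odd, has no element of order `p (q^m + 1)`, `m ≥ 2`
-/

set_option autoImplicit false

namespace Cfsg.Agent.H365.SepOdd

open QuadraticMap Module
open Cfsg.Agent.LieClassical.OrthCore Cfsg.Agent.H160.QSpin Cfsg.Agent.H160.QDisc Cfsg.Agent.H160.QSplit
  Cfsg.Agent.H160.QSemi Cfsg.Agent.H160.QUpper

section Basic

variable {F : Type*} [Field F] [Fintype F] {U : Type*} [AddCommGroup U] [Module F U] [FiniteDimensional F U]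
  [Finite U]

theorem pow_apply_fix {y : U ≃ₗ[F] U} {v : U} (h : y v = v) (i : ℕ) : (y ^ i) v = v := by
  induction i with
  | zero => rfl
  | succ i ih =>
    rw [pow_succ]
    show (y ^ i) (y v) = v
    rw [h, ih]

/-- an automorphism of prime order `r` without fixed vectors: the order of `q` modulo `r` divides the dimension -/
theorem dvd_dim {r : ℕ} (hr : r.Prime) {y : U ≃ₗ[F] U} (hy : y ^ r = 1) (hfix : ∀ v, y v = v → v = 0) :
    orderOf ((Fintype.card F : ℕ) : ZMod r) ∣ finrank F U := by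
  classical
  have := Fintype.ofFinite U
  have := Fact.mk hr
  let f : Function.End U := fun v => y v
  have hf : f ^ r ^ 1 = 1 := by
    rw [pow_one]
    have key : ∀ n : ℕ, ∀ v, (f ^ n) v = (y ^ n) v := by
      intro n
      induction n with
      | zero => intro v; rfl
      | succ n ih =>
        intro v
        rw [pow_succ, pow_succ]
        exact ih (y v)
    funext v
    rw [key, hy]; rfl
  have h1 := Equiv.Perm.card_fixedPoints_modEq hf
  have h2 : Fintype.card (Function.fixedPoints f) = 1 := by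
    rw [Fintype.card_eq_one_iff]
    refine ⟨⟨0, map_zero y⟩, fun v => Subtype.ext (hfix _ v.2)⟩
  rw [h2, Module.card_eq_pow_finrank (K := F)] at h1
  apply orderOf_dvd_of_pow_eq_one
  have h3 := (ZMod.natCast_eq_natCast_iff _ _ _).2 h1
  push_cast at h3
  exact h3

/-- an automorphism fixing a nonzero vector and commuting with an irreducible one is trivial -/
theorem fix_all {r : ℕ} {y z : U ≃ₗ[F] U} (hc : Commute y z) (hr : r.Prime) (hy : y ^ r = 1)
    (hfix : ∀ v, y v = v → v = 0) {v : U} (hv : v ≠ 0) (hz : z v = v)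
    (hdim : finrank F U < 2 * orderOf ((Fintype.card F : ℕ) : ZMod r)) : z = 1 := by
  let K : Submodule F U := LinearMap.ker ((z : U →ₗ[F] U) - LinearMap.id)
  have hK : ∀ w, w ∈ K ↔ z w = w := fun w => by
    rw [LinearMap.mem_ker, LinearMap.sub_apply, sub_eq_zero]; rfl
  have hinv : ∀ w ∈ K, (y : U →ₗ[F] U) w ∈ K := by
    intro w hw
    rw [hK] at hw ⊢
    show (z * y) w = y w
    rw [← hc.eq]
    show y (z w) = y w
    rw [hw]
  let f : K →ₗ[F] K := (y : U →ₗ[F] U).restrict hinv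
  have hf : Function.Injective f := fun a b hab => Subtype.ext (y.injective (congrArg Subtype.val hab))
  let t := LinearEquiv.ofInjectiveEndo f hf
  have ht : ∀ w : K, (t w : U) = y w := fun w => rfl
  have htp : ∀ (j : ℕ) (w : K), (((t ^ j) w : K) : U) = (y ^ j) w := by
    intro j
    induction j with
    | zero => intro w; rfl
    | succ j ih =>
      intro w
      rw [pow_succ, pow_succ]
      show (((t ^ j) (t w) : K) : U) = (y ^ j) (y w)
      rw [ih, ht]
  have h1 := dvd_dim (y := t) hr (LinearEquiv.ext fun w => Subtype.ext (by rw [htp, hy]; rfl))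
    (fun w hw => Subtype.ext (hfix _ (by rw [← ht, hw])))
  have hKpos : finrank F K ≠ 0 := by
    intro h
    have : Subsingleton K := Module.finrank_zero_iff.1 h
    have h3 : (⟨v, (hK v).2 hz⟩ : K) = 0 := Subsingleton.elim _ _
    exact hv (congrArg Subtype.val h3)
  have h2 := dvd_dim hr hy hfix
  have h3 : finrank F K ≤ finrank F U := Submodule.finrank_le K
  have h4 : finrank F K = finrank F U := by
    obtain ⟨a, ha⟩ := h1
    obtain ⟨b, hb⟩ := h2
    set o := orderOf ((Fintype.card F : ℕ) : ZMod r)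
    have hb1 : b < 2 := by
      by_contra hcon
      have := Nat.mul_le_mul_left o (show 2 ≤ b by omega)
      omega
    have ha0 : a ≠ 0 := by rintro rfl; exact hKpos (by rw [ha, mul_zero])
    have hb0 : b ≠ 0 := by
      rintro rfl
      rw [mul_zero] at hb
      omega
    have hb2 : b = 1 := by omega
    have : o * 1 ≤ o * a := Nat.mul_le_mul_left o (by omega)
    rw [hb2] at hb
    omega
  have h5 : K = ⊤ := Submodule.eq_top_of_finrank_eq h4
  ext w
  exact (hK w).1 (by rw [h5]; exact Submodule.mem_top)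

/-- semiregular action on a set of vectors -/
theorem orderOf_dvd_card {y : U ≃ₗ[F] U} (hn : 0 < orderOf y) (P : U → Prop) (hP : ∀ v, P (y v) ↔ P v)
    (hfree : ∀ v, P v → ∀ i : ℕ, (y ^ i) v = v → y ^ i = 1) : orderOf y ∣ Nat.card {v // P v} := by
  let π : Equiv.Perm {v // P v} :=
    { toFun := fun v => ⟨y v, (hP _).2 v.2⟩
      invFun := fun v => ⟨y.symm v, by rw [← hP, y.apply_symm_apply]; exact v.2⟩
      left_inv := fun v => Subtype.ext (y.symm_apply_apply _)
      right_inv := fun v => Subtype.ext (y.apply_symm_apply _) }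
  have hπ : ∀ (i : ℕ) (v : {v // P v}), ((π ^ i) v).1 = (y ^ i) v := by
    intro i
    induction i with
    | zero => intro v; rfl
    | succ i ih =>
      intro v
      rw [pow_succ, Equiv.Perm.mul_apply, ih, pow_succ]
      rfl
  have hst : ∀ b : {v // P v}, MulAction.stabilizer ↥(Subgroup.zpowers π) b = ⊥ := by
    intro b
    rw [eq_bot_iff]
    rintro ⟨g, i, rfl⟩ hg
    rw [Subgroup.mem_bot]
    apply Subtype.ext
    show π ^ i = 1
    have hg' : (π ^ i) b = b := hg
    have hpos : 0 < orderOf π := orderOf_pos π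
    have h3 : π ^ i = π ^ (i % orderOf π).toNat := by
      have h4 : π ^ i = π ^ (i % orderOf π) := (zpow_mod_orderOf π i).symm
      rw [h4, ← zpow_natCast, Int.toNat_of_nonneg (Int.emod_nonneg _ (by omega))]
    rw [h3] at hg' ⊢
    have h5 : y ^ (i % orderOf π).toNat = 1 := hfree b.1 b.2 _ (by rw [← hπ, hg'])
    ext v
    rw [hπ, h5]; rfl
  by_cases hne : Nonempty {v // P v}
  · obtain ⟨⟨v0, hv0⟩⟩ := hne
    have ho : orderOf π = orderOf y := by
      refine Nat.dvd_antisymm (orderOf_dvd_of_pow_eq_one ?_) (orderOf_dvd_of_pow_eq_one ?_)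
      · ext v
        rw [hπ, pow_orderOf_eq_one]; rfl
      · refine hfree v0 hv0 _ ?_
        have := hπ (orderOf π) ⟨v0, hv0⟩
        rw [pow_orderOf_eq_one] at this
        exact this.symm
    have h3 := Nat.card_congr (MulAction.selfEquivOrbitsQuotientProd (G := ↥(Subgroup.zpowers π)) (X := {v // P v}) hst)
    rw [Nat.card_prod, Nat.card_zpowers, ho] at h3
    exact ⟨_, by rw [h3, mul_comm]⟩
  · rw [not_nonempty_iff] at hne
    rw [Nat.card_of_isEmpty]; exact dvd_zero _

end Basic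

section Count

variable {F : Type*} [Field F] [Fintype F] [DecidableEq F] {V : Type*} [AddCommGroup V] [Module F V]
  [FiniteDimensional F V] [Finite V]

/-- the number of solutions of `Q = 1` in dimension `2 (k + 1)` -/
theorem card_level (h2 : (2 : F) ≠ 0) {Q : QuadraticForm F V} (hQ : Nondeg Q) {k : ℕ} (hV : finrank F V = 2 * (k + 1)) :
    ∃ t : ℕ, t ≤ Fintype.card F ^ 2 ∧ Nat.card {x : V // Q x = 1} + Fintype.card F ^ (k + 1) =
      Fintype.card F ^ (2 * k + 1) + Fintype.card F ^ k * t := by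
  classical
  have hsg : (quadraticChar F (-1) : ℤ) ^ k = 1 ∨ (quadraticChar F (-1) : ℤ) ^ k = -1 := by
    have h1 : (quadraticChar F (-1) : ℤ) = 1 ∨ (quadraticChar F (-1) : ℤ) = -1 :=
      quadraticChar_dichotomy (neg_ne_zero.2 one_ne_zero)
    rcases h1 with h1 | h1 <;> rw [h1]
    · left; exact one_pow k
    · exact neg_one_pow_eq_or ℤ k
  have hd : (quadraticChar F (-1) : ℤ) ^ k * dc Q = 1 ∨ (quadraticChar F (-1) : ℤ) ^ k * dc Q = -1 := by
    rcases hsg with h1 | h1 <;> rcases dc_cases hQ with h3 | h3 <;> rw [h1, h3] <;> norm_num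
  obtain ⟨f, hf, hfd⟩ := exists_form (F := F) h2 hd 1
  obtain ⟨e, he⟩ := exists_iso h2 hQ (nondeg_prod (nondeg_hyp k) hf) (by rw [hV]; simp; ring) (by
    rw [dc_prod, dc_hyp, hfd, ← mul_assoc]
    rcases hsg with h1 | h1 <;> rw [h1] <;> norm_num)
  have h := ClassicalGeometry.NegOneOmega.card_hyperbolic (F := F) (S := Fin 2 → F) (fun s => f s) k 1
  have hcard : Nat.card {x : V // Q x = 1} =
      Fintype.card {p : (Fin k → F) × ((Fin k → F) × (Fin 2 → F)) // ∑ i, p.1 i * p.2.1 i + f p.2.2 = (1 : F)} := by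
    rw [← Nat.card_eq_fintype_card]
    refine Nat.card_congr ⟨fun x => ⟨((e x.1).1.1, ((e x.1).1.2, (e x.1).2)), ?_⟩,
      fun p => ⟨e.symm ((p.1.1, p.1.2.1), p.1.2.2), ?_⟩, fun x => ?_, fun p => ?_⟩
    · have h3 := he x.1
      rw [Qpr_apply, hyp_apply, x.2] at h3
      exact h3
    · rw [he.symm, Qpr_apply, hyp_apply]
      exact p.2
    · apply Subtype.ext
      exact e.symm_apply_apply x.1
    · apply Subtype.ext
      show (((e (e.symm ((p.1.1, p.1.2.1), p.1.2.2))).1.1, ((e (e.symm ((p.1.1, p.1.2.1), p.1.2.2))).1.2,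
        (e (e.symm ((p.1.1, p.1.2.1), p.1.2.2))).2)) : (Fin k → F) × ((Fin k → F) × (Fin 2 → F))) = p.1
      rw [e.apply_symm_apply]
  rw [← hcard] at h
  refine ⟨Fintype.card {s : Fin 2 → F // f s = 1}, ?_, ?_⟩
  · refine (Fintype.card_subtype_le _).trans ?_
    rw [Fintype.card_fun, Fintype.card_fin]
  · have hS : Fintype.card (Fin 2 → F) = Fintype.card F ^ 2 := by rw [Fintype.card_fun, Fintype.card_fin]
    rw [hS] at h
    have hq : 0 < Fintype.card F := Fintype.card_pos
    apply Nat.eq_of_mul_eq_mul_left hq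
    rw [mul_add, mul_add]
    calc Fintype.card F * Nat.card {x : V // Q x = 1} + Fintype.card F * Fintype.card F ^ (k + 1)
        = Fintype.card F * Nat.card {x : V // Q x = 1} + Fintype.card F ^ k * Fintype.card F ^ 2 := by ring
      _ = Fintype.card F ^ (2 * k) * Fintype.card F ^ 2 +
        Fintype.card F ^ (k + 1) * Fintype.card {s : Fin 2 → F // f s = 1} := h
      _ = _ := by ring

end Count

section Main

variable {F : Type*} [Field F] [Fintype F] [DecidableEq F] {p : ℕ} [hp : Fact p.Prime] [CharP F p]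

/-- a unipotent isometry in dimension at most two is trivial -/
theorem unip_small {V : Type*} [AddCommGroup V] [Module F V] [FiniteDimensional F V] (h2 : (2 : F) ≠ 0)
    {Q : QuadraticForm F V} (hQ : Nondeg Q) {u : V ≃ₗ[F] V} (hu : u ∈ O Q) (hV : finrank F V ≤ 2) {n : ℕ}
    (hnil : (en u - 1) ^ n = 0) : u = 1 := by
  have h3 : (en u - 1) ^ finrank F V = 0 := by
    have h5 : IsNilpotent (en u - 1) := ⟨n, hnil⟩
    have h6 := Module.End.ker_pow_eq_ker_pow_finrank_of_le (f := en u - 1) (m := max n (finrank F V)) (le_max_right _ _)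
    have h7 : (en u - 1) ^ max n (finrank F V) = 0 := pow_eq_zero_of_le (le_max_left _ _) hnil
    rw [h7, LinearMap.ker_zero] at h6
    exact LinearMap.ker_eq_top.1 h6.symm
  have h4 : (en u - 1) ^ 1 = 0 := by
    rcases (by omega : finrank F V = 0 ∨ finrank F V = 1 ∨ finrank F V = 2) with h | h | h
    · have : Subsingleton V := Module.finrank_zero_iff.1 h
      exact LinearMap.ext fun v => Subsingleton.elim _ _
    · rwa [h] at h3
    · exact unip_even h2 hQ hu (n := 1) h (by decide) (by rwa [h] at h3)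
  rw [pow_one, sub_eq_zero] at h4
  exact en_inj h4

/-- in dimension at most two the orders of isometries are prime to the characteristic -/
theorem not_dvd_small {V : Type*} [AddCommGroup V] [Module F V] [FiniteDimensional F V] (h2 : (2 : F) ≠ 0)
    {Q : QuadraticForm F V} (hQ : Nondeg Q) {u : V ≃ₗ[F] V} (hu : u ∈ O Q) (hV : finrank F V ≤ 2)
    (ho : orderOf u ≠ 0) : ¬ p ∣ orderOf u := by
  intro hd
  have h1 : orderOf (u ^ (orderOf u / p)) = p := orderOf_pow_orderOf_div ho hd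
  have h3 : (u ^ (orderOf u / p)) ^ (p ^ 1) = 1 := by
    have := pow_orderOf_eq_one (u ^ (orderOf u / p))
    rw [h1] at this
    rwa [pow_one]
  have h4 : (en (u ^ (orderOf u / p)) - 1) ^ (p ^ 1) = 0 := by
    rw [sub_one_pow_char, sub_eq_zero, ← en_pow, h3]
    rfl
  have h5 := unip_small h2 hQ ((O Q).pow_mem hu _) hV h4
  rw [h5, orderOf_one] at h1
  exact hp.out.one_lt.ne h1

theorem det_en {V : Type*} [AddCommGroup V] [Module F V] (g : V ≃ₗ[F] V) :
    ((LinearEquiv.det g : Fˣ) : F) = LinearMap.det (en g) := LinearEquiv.coe_det g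

/-- an isometry of determinant one in dimension three whose order is divisible by `p` has order `p` -/
theorem dim_three {V : Type*} [AddCommGroup V] [Module F V] [FiniteDimensional F V] [Finite V] (h2 : (2 : F) ≠ 0)
    {Q : QuadraticForm F V} (hQ : Nondeg Q) (hV : finrank F V = 3) {u : V ≃ₗ[F] V} (hu : u ∈ O Q)
    (hdet : LinearEquiv.det u = 1) (hd : p ∣ orderOf u) : u ^ p = 1 := by
  have hp3 : 3 ≤ p := by
    have := hp.out.two_le
    by_contra hcon
    have h3 : p = 2 := by omega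
    apply h2
    have := CharP.cast_eq_zero F p
    rw [h3] at this
    exact_mod_cast this
  obtain ⟨n₁, n₂, Q₁, Q₂, g₁, g₂, e, he, hg, hno, hnil⟩ := split hu
  obtain ⟨hQ₁, hQ₂⟩ := nondeg_of_prod (he.symm.nondeg hQ)
  have hprO : pr g₁ g₂ ∈ O (Q₁.prod Q₂) := by
    have h3 : cj e.symm u = pr g₁ g₂ := by
      rw [hg]
      ext1 x
      simp [cj]
    rw [← h3]
    exact cj_mem_O he.symm hu
  obtain ⟨hg₁, hg₂⟩ := pr_mem_O_iff.1 hprO
  have hdim : n₁ + n₂ = 3 := by
    have := e.finrank_eq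
    rw [hV] at this
    simpa using this
  have hfin : Finite (V ≃ₗ[F] V) := Finite.of_injective (fun g : V ≃ₗ[F] V => (g : V → V)) DFunLike.coe_injective
  have hord : orderOf u = (orderOf g₁).lcm (orderOf g₂) := by
    rw [hg, orderOf_cj, orderOf_pr]
  have hu0 : orderOf u ≠ 0 := (orderOf_pos u).ne'
  have h10 : orderOf g₁ ≠ 0 := fun h => hu0 (by rw [hord, h, Nat.lcm_zero_left])
  have hdet' : LinearEquiv.det g₁ * LinearEquiv.det g₂ = 1 := by
    rw [← det_pr, ← det_cj e, ← hg, hdet]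
  have hdet2 : LinearMap.det (en g₂) = 1 := by
    have h3 : IsNilpotent (en g₂ - 1) := ⟨n₂, hnil⟩
    have h4 : LinearMap.det (en g₂) ^ (p ^ (Nat.clog p n₂)) = 1 := by
      have h5 := unip_pow (p := p) hnil (Nat.le_pow_clog hp.out.one_lt n₂)
      rw [← map_pow, ← en_pow, h5]
      exact LinearMap.det_id
    have h5 : (iterateFrobenius F p (Nat.clog p n₂)) (LinearMap.det (en g₂)) =
        (iterateFrobenius F p (Nat.clog p n₂)) 1 := by
      rw [iterateFrobenius_def, iterateFrobenius_def, h4, one_pow]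
    exact (iterateFrobenius F p (Nat.clog p n₂)).injective h5
  have hdet1 : LinearMap.det (en g₁) = 1 := by
    have h3 := congrArg Units.val hdet'
    rw [Units.val_mul, det_en, det_en, hdet2, mul_one] at h3
    exact h3
  have h3 := det_of_no_one hQ₁ hg₁ hno
  simp only [finrank_fintype_fun_eq_card, Fintype.card_fin] at h3
  rw [hdet1] at h3
  have hm1F : (-1 : F) ≠ 1 := by
    intro h3
    apply h2
    have : (2 : F) = 1 - (-1) := by norm_num
    rw [this, h3, sub_self]
  have heven : Even n₁ := by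
    by_contra hodd
    rw [Nat.not_even_iff_odd] at hodd
    rw [hodd.neg_one_pow] at h3
    exact hm1F h3.symm
  have hn1 : n₁ = 0 ∨ n₁ = 2 := by
    obtain ⟨t, ht⟩ := heven
    omega
  rcases hn1 with hn | hn
  · -- unipotent
    have hg1 : g₁ = 1 := by
      subst hn
      ext x i
      exact i.elim0
    have h5 := unip_pow (p := p) (c := 1) hnil (by rw [pow_one]; omega)
    rw [pow_one] at h5
    rw [hg, ← cj_pow, pr_pow, hg1, one_pow, h5, pr_one, cj_one]
  · exfalso
    have h5 := unip_small h2 hQ₂ hg₂ (by simp; omega) hnil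
    rw [hord, h5, orderOf_one, Nat.lcm_one_right] at hd
    exact not_dvd_small (p := p) h2 hQ₁ hg₁ (by simp; omega) h10 hd

omit [Fintype F] [DecidableEq F] hp [CharP F p] in
theorem coe_pow_sub {V : Type*} [AddCommGroup V] [Module F V] {W : Submodule F V} {g : V ≃ₗ[F] V} {g₁ : W ≃ₗ[F] W}
    (h : ∀ x, (g₁ x : V) = g x) (k : ℕ) (x : W) : (((g₁ ^ k) x : W) : V) = (g ^ k) x := by
  induction k generalizing x with
  | zero => rfl
  | succ k ih =>
    rw [pow_succ, pow_succ]
    show (((g₁ ^ k) (g₁ x) : W) : V) = (g ^ k) (g x)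
    rw [ih, h]

/-- **Main lemma.** -/
theorem main {V : Type*} [AddCommGroup V] [Module F V] [FiniteDimensional F V] [Finite V] (h2 : (2 : F) ≠ 0)
    {Q : QuadraticForm F V} (hQ : Nondeg Q) {m : ℕ} (hm : 2 ≤ m) (hV : finrank F V = 2 * m + 3) {g : V ≃ₗ[F] V}
    (hg : El Q 1 g) (hord : orderOf g = p * (Fintype.card F ^ m + 1)) : False := by
  classical
  obtain ⟨hgO, hdet, hsp⟩ := hg
  obtain ⟨q, hq⟩ : ∃ q, q = Fintype.card F := ⟨_, rfl⟩
  obtain ⟨e', he'⟩ := card_odd_eq (F := F) h2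
  rw [← hq] at hord he'
  have hq3 : 3 ≤ q := by
    have := Fintype.one_lt_card (α := F)
    omega
  obtain ⟨f, hf, hqf⟩ := FiniteField.card F p
  rw [← hq] at hqf
  have hpq : p ∣ q := by rw [hqf]; exact dvd_pow_self p f.pos.ne'
  have hq1 : 1 ≤ q ^ m := Nat.one_le_pow _ _ (by omega)
  -- the prime `r`
  obtain ⟨r, hr, hro⟩ := Cfsg.Agent.Lib.Zsigmondy.exists_prime_orderOf (a := q) (n := 2 * m) (by omega) (by omega)
    (fun h => by omega) (fun h => by omega)
  have hdvd : ∀ n : ℕ, r ∣ q ^ n - 1 ↔ 2 * m ∣ n := fun n => by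
    rw [← hro]; exact Cfsg.Agent.Lib.Zsigmondy.dvd_pow_sub_one_iff (by omega) n
  have hrq : r ∣ q ^ m + 1 := by
    have h1 := (hdvd (2 * m)).2 dvd_rfl
    have h4 : q ^ (2 * m) - 1 = (q ^ m - 1) * (q ^ m + 1) := by
      have h3 : 1 ≤ q ^ (2 * m) := Nat.one_le_pow _ _ (by omega)
      zify [hq1, h3]; ring
    rw [h4, hr.dvd_mul] at h1
    rcases h1 with h1 | h1
    · have := Nat.le_of_dvd (by omega) ((hdvd m).1 h1)
      omega
    · exact h1
  have hrp : r ≠ p := by
    rintro rfl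
    have h3 : r ∣ q ^ m := dvd_pow hpq (by omega)
    exact hr.one_lt.ne' (Nat.dvd_one.1 ((Nat.dvd_add_right h3).1 hrq))
  -- the element `x` of order `r`
  have hg0 : orderOf g ≠ 0 := by rw [hord]; exact Nat.mul_ne_zero hp.out.ne_zero (by omega)
  have hrg : r ∣ orderOf g := by rw [hord]; exact hrq.mul_left _
  obtain ⟨k, hk⟩ : ∃ k, k = orderOf g / r := ⟨_, rfl⟩
  have hxo : orderOf (g ^ k) = r := by rw [hk]; exact orderOf_pow_orderOf_div hg0 hrg
  obtain ⟨x, hx⟩ : ∃ x, x = g ^ k := ⟨_, rfl⟩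
  have hxr : x ^ r = 1 := by rw [← hxo, ← hx]; exact pow_orderOf_eq_one x
  have hxO : x ∈ O Q := by rw [hx]; exact (O Q).pow_mem hgO k
  set n := finrank F V with hn
  have hcompl := fitting (en x - 1)
  rw [← hn] at hcompl
  obtain ⟨W₁, hW₁⟩ : ∃ W, W = LinearMap.range ((en x - 1) ^ n) := ⟨_, rfl⟩
  obtain ⟨W₂, hW₂⟩ : ∃ W, W = LinearMap.ker ((en x - 1) ^ n) := ⟨_, rfl⟩
  rw [← hW₁, ← hW₂] at hcompl
  have hgx : Commute (en g) (en x) := by
    show en g * en x = en x * en g
    rw [← en_mul, ← en_mul, hx, ← pow_succ', pow_succ]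
  have hcomm : Commute (en g) ((en x - 1) ^ n) := (hgx.sub_right (Commute.one_right _)).pow_right n
  have hcap : ∀ v, g (((en x - 1) ^ n) v) = ((en x - 1) ^ n) (g v) := fun v => LinearMap.congr_fun hcomm v
  obtain ⟨g₁, g₂, e, he, hge, hg₁, hg₂⟩ := split_of_compl (Q := Q) (g := g) hcompl (by
      rw [hW₁, hW₂]
      rintro _ ⟨v, rfl⟩ y hy
      rw [polar_sub_one_pow hxO, inv_sub_one_pow, Module.End.mul_apply, LinearMap.mem_ker.1 hy, map_zero,
        polar_zero_right]) (by
      rw [hW₁]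
      rintro _ ⟨v, rfl⟩
      exact ⟨g v, (hcap v).symm⟩) (by
      rw [hW₂]
      intro v hv
      rw [LinearMap.mem_ker] at hv ⊢
      rw [← hcap, hv, map_zero])
  have hx₁ : ∀ v : W₁, (((g₁ ^ k) v : W₁) : V) = x v := fun v => by rw [coe_pow_sub hg₁, hx]
  have hx₂ : ∀ v : W₂, (((g₂ ^ k) v : W₂) : V) = x v := fun v => by rw [coe_pow_sub hg₂, hx]
  have hno : ∀ v : W₁, (g₁ ^ k) v = v → v = 0 := by
    intro v hv
    have hx2 : (en x - 1) (v : V) = 0 := by
      rw [LinearMap.sub_apply, Module.End.one_apply, sub_eq_zero]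
      have := congrArg Subtype.val hv
      rwa [hx₁] at this
    have hx3 : (v : V) ∈ W₂ := by
      rw [hW₂, LinearMap.mem_ker]
      obtain ⟨j, hj⟩ := Nat.exists_eq_succ_of_ne_zero (show n ≠ 0 by omega)
      rw [hj, pow_succ, Module.End.mul_apply, hx2, map_zero]
    exact Subtype.ext ((Submodule.disjoint_def.1 hcompl.disjoint) _ v.2 hx3)
  have hx1r : (g₁ ^ k) ^ r = 1 := by
    ext v
    rw [← pow_mul, coe_pow_sub hg₁, pow_mul, ← hx, hxr]; rfl
  -- `x` is trivial on `W₂`
  have hx2one : g₂ ^ k = 1 := by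
    have key : ∀ (j : ℕ) (v : W₂), ((((en (g₂ ^ k) - 1) ^ j : Module.End F W₂) v : W₂) : V) =
        ((en x - 1) ^ j : Module.End F V) (v : V) := by
      intro j
      induction j with
      | zero => intro v; rfl
      | succ j ih =>
        intro v
        rw [pow_succ', Module.End.mul_apply, pow_succ', Module.End.mul_apply, ← ih]
        show (((g₂ ^ k) (((en (g₂ ^ k) - 1) ^ j) v) - ((en (g₂ ^ k) - 1) ^ j) v : W₂) : V) = _
        rw [Submodule.coe_sub, hx₂]
        rfl
    have hnil : (en (g₂ ^ k) - 1) ^ n = 0 := by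
      apply LinearMap.ext
      intro v
      apply Subtype.ext
      rw [key]
      have hW₂' : ∀ y ∈ W₂, ((en x - 1) ^ n) y = 0 := by
        intro y hy
        rw [hW₂] at hy
        exact hy
      exact hW₂' _ v.2
    have h3 := unip_pow (p := p) hnil (Nat.le_pow_clog hp.out.one_lt n)
    have h4 : (g₂ ^ k) ^ r = 1 := by
      ext v
      rw [← pow_mul, coe_pow_sub hg₂, pow_mul, ← hx, hxr]; rfl
    have h5 := orderOf_dvd_of_pow_eq_one h3
    have h6 := orderOf_dvd_of_pow_eq_one h4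
    have h7 : Nat.Coprime r (p ^ Nat.clog p n) := Nat.Coprime.pow_right _ ((Nat.coprime_primes hr hp.out).2 hrp)
    rw [← orderOf_eq_one_iff]
    exact Nat.dvd_one.1 (h7 ▸ Nat.dvd_gcd h6 h5)
  have hfin₁ : Finite (W₁ ≃ₗ[F] W₁) :=
    Finite.of_injective (fun g : W₁ ≃ₗ[F] W₁ => (g : W₁ → W₁)) DFunLike.coe_injective
  have hfin₂ : Finite (W₂ ≃ₗ[F] W₂) :=
    Finite.of_injective (fun g : W₂ ≃ₗ[F] W₂ => (g : W₂ → W₂)) DFunLike.coe_injective
  have hordl : orderOf g = (orderOf g₁).lcm (orderOf g₂) := by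
    conv_lhs => rw [hge, orderOf_cj, orderOf_pr]
  have hne1 : g₁ ^ k ≠ 1 := by
    intro h
    have h3 : g ^ k = 1 := by
      rw [hge, ← cj_pow, pr_pow, h, hx2one, pr_one, cj_one]
    rw [h3, orderOf_one] at hxo
    exact hr.one_lt.ne hxo
  have hsum : finrank F W₁ + finrank F W₂ = 2 * m + 3 := by
    rw [Submodule.finrank_add_eq_of_isCompl hcompl]
    exact hV
  have hd1 := dvd_dim hr hx1r hno
  rw [← hq, hro] at hd1
  have hpos1 : finrank F W₁ ≠ 0 := by
    intro h
    have : Subsingleton W₁ := Module.finrank_zero_iff.1 h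
    exact hne1 (LinearEquiv.ext fun v => Subsingleton.elim _ _)
  have hdim1 : finrank F W₁ = 2 * m := by
    obtain ⟨c, hc⟩ := hd1
    rcases (by omega : c = 0 ∨ c = 1 ∨ 2 ≤ c) with h | h | h
    · rw [h, mul_zero] at hc; exact absurd hc hpos1
    · rw [h, mul_one] at hc; exact hc
    · have := Nat.mul_le_mul_left (2 * m) h
      omega
  have hdim2 : finrank F W₂ = 3 := by omega
  -- semiregularity
  have hsemi : ∀ (i : ℕ) (v : W₁), v ≠ 0 → (g₁ ^ i) v = v → g₁ ^ i = 1 := by
    intro i v hv hgv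
    refine fix_all (y := g₁ ^ k) ((Commute.refl g₁).pow_pow k i) hr hx1r hno hv hgv ?_
    rw [← hq, hro, hdim1]
    omega
  have hN1d : orderOf g₁ ∣ q ^ (2 * m) - 1 := by
    have h3 := orderOf_dvd_card (y := g₁) (orderOf_pos g₁) (fun v => v ≠ 0)
      (fun v => not_congr g₁.map_eq_zero_iff) (fun v hv i hi => hsemi i v hv hi)
    have := Fintype.ofFinite W₁
    have h4 : Nat.card {v : W₁ // v ≠ 0} = q ^ (2 * m) - 1 := by
      rw [Nat.card_eq_fintype_card, Fintype.card_subtype_compl, Fintype.card_subtype_eq,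
        Module.card_eq_pow_finrank (K := F), hdim1, hq]
    rwa [h4] at h3
  have hq2m : 1 ≤ q ^ (2 * m) := Nat.one_le_pow _ _ (by omega)
  have hcopN1 : Nat.Coprime p (orderOf g₁) := by
    rw [hp.out.coprime_iff_not_dvd]
    intro h3
    have h4 : p ∣ q ^ (2 * m) - 1 := h3.trans hN1d
    have h5 : p ∣ q ^ (2 * m) := dvd_pow hpq (by omega)
    have h6 := (Nat.dvd_sub h5 h4)
    rw [Nat.sub_sub_self hq2m] at h6
    exact hp.out.one_lt.ne' (Nat.dvd_one.1 h6)
  have hpN2 : p ∣ orderOf g₂ := by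
    have h3 : p ∣ (orderOf g₁).lcm (orderOf g₂) := by rw [← hordl, hord]; exact dvd_mul_right _ _
    have h4 : p ∣ orderOf g₁ * orderOf g₂ := h3.trans (Nat.lcm_dvd_mul _ _)
    exact hcopN1.dvd_of_dvd_mul_left h4
  obtain ⟨hQ₁, hQ₂⟩ := nondeg_of_prod (he.symm.nondeg hQ)
  have hprO : pr g₁ g₂ ∈ O ((Q.comp W₁.subtype).prod (Q.comp W₂.subtype)) := by
    have h3 : cj e.symm g = pr g₁ g₂ := by
      conv_lhs => rw [hge]
      ext1 v
      simp [cj]
    rw [← h3]
    exact cj_mem_O he.symm hgO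
  obtain ⟨hgO₁, hgO₂⟩ := pr_mem_O_iff.1 hprO
  have hno1 : ∀ v, g₁ v = v → v = 0 := fun v hv => hno v (pow_apply_fix hv k)
  have hdet1 : LinearEquiv.det g₁ = 1 := by
    apply Units.ext
    rw [det_en, det_of_no_one hQ₁ hgO₁ hno1, hdim1, pow_mul, neg_one_sq, one_pow]
    rfl
  have hdet2 : LinearEquiv.det g₂ = 1 := by
    have h3 : LinearEquiv.det g₁ * LinearEquiv.det g₂ = 1 := by
      rw [← det_pr, ← det_cj e, ← hge, hdet]
    rwa [hdet1, one_mul] at h3
  have hg2p := dim_three (p := p) h2 hQ₂ hdim2 hgO₂ hdet2 hpN2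
  have hN2 : orderOf g₂ = p := Nat.dvd_antisymm (orderOf_dvd_of_pow_eq_one hg2p) hpN2
  have hN1 : orderOf g₁ = q ^ m + 1 := by
    rw [hN2, Nat.Coprime.lcm_eq_mul hcopN1.symm, hord, mul_comm] at hordl
    exact (Nat.eq_of_mul_eq_mul_right hp.out.pos hordl).symm
  have hpodd : Odd p := by
    rcases hp.out.eq_two_or_odd' with h | h
    · exfalso
      rw [h] at hpq
      omega
    · exact h
  have hsp2 : spin (Q.comp W₂.subtype) ⟨g₂, hgO₂⟩ = 1 := by
    obtain ⟨_, _, h3⟩ := El.of_odd hQ₂ hgO₂ (by rw [hN2]; exact hpodd)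
    exact h3
  have hsp1 : spin (Q.comp W₁.subtype) ⟨g₁, hgO₁⟩ = 1 := by
    have h3 := spin_pr h2 hQ₁ hQ₂ hgO₁ hgO₂
    have h4 := spin_cj he hprO
    have h5 : (⟨cj e (pr g₁ g₂), cj_mem_O he hprO⟩ : O Q) = ⟨g, hgO⟩ := Subtype.ext hge.symm
    rw [h5, hsp] at h4
    rw [hsp2, mul_one] at h3
    rw [← h3, h4]
  have hQpos : 1 ≤ q ^ (m - 1) := Nat.one_le_pow _ _ (by omega)
  -- counting
  obtain ⟨t, ht, hA⟩ := card_level h2 hQ₁ (k := m - 1) (by rw [hdim1]; congr 1; omega)
  rw [← hq] at ht hA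
  have hAd : q ^ m + 1 ∣ Nat.card {v : W₁ // (Q.comp W₁.subtype) v = 1} := by
    rw [← hN1]
    refine orderOf_dvd_card (orderOf_pos g₁) (fun v => (Q.comp W₁.subtype) v = 1) (fun v => ?_) (fun v hv i hi => ?_)
    · show (Q.comp W₁.subtype) (g₁ v) = 1 ↔ _
      rw [hgO₁ v]
    · refine hsemi i v ?_ hi
      rintro rfl
      rw [QuadraticMap.map_zero] at hv
      exact zero_ne_one hv
  obtain ⟨A, hAdef⟩ : ∃ A, A = Nat.card {v : W₁ // (Q.comp W₁.subtype) v = 1} := ⟨_, rfl⟩
  rw [← hAdef] at hAd hA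
  have hA2 : A = q ^ (m - 1) * (q ^ m + 1) := by
    obtain ⟨j, rfl⟩ : ∃ j, m = j + 1 := ⟨m - 1, by omega⟩
    simp only [Nat.add_sub_cancel] at hA ⊢
    have hcop : Nat.Coprime (q ^ (j + 1) + 1) (q ^ j) := by
      apply Nat.Coprime.pow_right
      have h3 : Nat.Coprime (q ^ (j + 1) + 1) (q ^ (j + 1)) :=
        (Nat.coprime_self_add_right.2 (Nat.coprime_one_right _)).symm
      exact (Nat.coprime_pow_right_iff (by omega) _ _).1 h3
    have h4 : ((q : ℤ) ^ (j + 1) + 1) ∣ (t : ℤ) - q - 1 := by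
      have h5 : ((q : ℤ) ^ (j + 1) + 1) ∣ (q : ℤ) ^ j * ((t : ℤ) - q - 1) := by
        have h6 : (A : ℤ) = (q : ℤ) ^ j * ((q : ℤ) ^ (j + 1) + 1) + (q : ℤ) ^ j * ((t : ℤ) - q - 1) := by
          have h7 : (A : ℤ) + (q : ℤ) ^ (j + 1) = (q : ℤ) ^ (2 * j + 1) + (q : ℤ) ^ j * t := by exact_mod_cast hA
          have h8 : (A : ℤ) = (q : ℤ) ^ (2 * j + 1) + (q : ℤ) ^ j * t - (q : ℤ) ^ (j + 1) := by linarith
          rw [h8]; ring
        have h9 : ((q : ℤ) ^ (j + 1) + 1) ∣ (A : ℤ) := by exact_mod_cast hAd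
        rw [h6] at h9
        exact (Int.dvd_add_right (Dvd.intro_left _ rfl)).1 h9
      have h10 : IsCoprime ((q : ℤ) ^ (j + 1) + 1) ((q : ℤ) ^ j) := by
        have := Nat.isCoprime_iff_coprime.2 hcop
        push_cast at this
        exact this
      exact h10.dvd_of_dvd_mul_left h5
    have h5 : (t : ℤ) - q - 1 = 0 := by
      apply Int.eq_zero_of_abs_lt_dvd h4
      rw [abs_lt]
      have h6 : (q : ℤ) ^ 2 ≤ (q : ℤ) ^ (j + 1) := pow_le_pow_right₀ (by omega) (by omega)
      have h7 : (t : ℤ) ≤ (q : ℤ) ^ 2 := by exact_mod_cast ht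
      have h8 : (3 : ℤ) ≤ q := by exact_mod_cast hq3
      constructor <;> nlinarith
    have h6 : t = q + 1 := by omega
    rw [h6] at hA
    have h7 : A + q ^ (j + 1) = q ^ j * (q ^ (j + 1) + 1) + q ^ (j + 1) := by rw [hA]; ring
    omega
  let _ := Fintype.ofFinite {x : W₁ // (Q.comp W₁.subtype) x = 1}
  rw [spin_apply] at hsp1
  have hpow : ∀ (i : ℕ) (x : {x : W₁ // (Q.comp W₁.subtype) x = 1}),
      (((qperm (Q.comp W₁.subtype) ⟨g₁, hgO₁⟩ ^ i) x : {x : W₁ // (Q.comp W₁.subtype) x = 1}) : W₁) = (g₁ ^ i) x := by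
    intro i x
    rw [← map_pow]
    rfl
  have hfin := sign_semireg (qperm (Q.comp W₁.subtype) ⟨g₁, hgO₁⟩) (n := q ^ m + 1) (by omega) (by
      ext x
      rw [hpow, ← hN1, pow_orderOf_eq_one]
      rfl) (by
      intro i hi hin x hx
      have h3 := congrArg Subtype.val hx
      rw [hpow] at h3
      refine pow_ne_one_of_lt_orderOf hi.ne' (by rw [hN1]; exact hin) (hsemi i x ?_ h3)
      intro h0
      have := x.2
      rw [h0, QuadraticMap.map_zero] at this
      exact zero_ne_one this) hsp1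
  rw [← Nat.card_eq_fintype_card, ← hAdef, hA2] at hfin
  have hqodd : Odd q := ⟨e', he'⟩
  rcases hfin with h | h
  · have h3 : Odd (q ^ m) := hqodd.pow
    rw [Nat.odd_add_one] at h
    exact h h3
  · have h3 := Nat.dvd_of_mul_dvd_mul_right (by omega) h
    have h4 : Odd (q ^ (m - 1)) := hqodd.pow
    rw [Nat.odd_iff] at h4
    omega

end Main

section Sp

open LinearMap Cfsg.Agent.H159

variable {F : Type*} [Field F] [Fintype F]

/-- `PSp_{2m+2}(q)` has an element whose order is divisible by `p (q^m + 1)` -/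
theorem psp_elt (p m : ℕ) [Fact p.Prime] [CharP F p] (h2 : (2 : F) ≠ 0) (hodd : Odd (Fintype.card F)) (hm : 1 ≤ m) :
    ∃ x : Cfsg.PSp (m + 1) F, p * (Fintype.card F ^ m + 1) ∣ orderOf x := by
  have hp : p.Prime := Fact.out
  obtain ⟨V, _, _, B, g, hg, hk⟩ := exists_nonsplit_torus p m (Fintype.card F ^ m + 1) h2 hm dvd_rfl
  obtain ⟨g', hg', hg'1, hk'⟩ := exists_unip_sp (F := F) p 1 hodd le_rfl
  obtain ⟨x, hx⟩ := (hg.prod hg').exists_psp
  refine ⟨x, ?_⟩
  obtain ⟨c, hc⟩ := (hx _).1 (pow_orderOf_eq_one x)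
  rw [prodMap_pow'] at hc
  have hfd := hg.fin
  have hnt : Nontrivial V := by
    rw [← Module.finrank_pos_iff (R := F), hg.dim]; omega
  have hnt' : Nontrivial (Fin 1 ⊕ Fin 1 → F) := by
    rw [← Module.finrank_pos_iff (R := F), hg'.dim]; omega
  have hc1 : g ^ orderOf x = algebraMap F _ c := by
    ext v
    have := congrArg (fun f => (f (v, 0)).1) hc
    simpa using this
  have hc2 : g' ^ orderOf x = algebraMap F _ c := by
    refine LinearMap.ext fun v => ?_
    have := congrArg (fun f => (f (0, v)).2) hc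
    simpa using this
  have h3 : p ^ Nat.clog p (2 * 1) ∣ orderOf x := hk' _ ⟨c, hc2⟩
  have hc3 : c = 1 := by
    obtain ⟨j, hj⟩ := h3
    rw [hj, pow_mul, hg'1, one_pow] at hc2
    exact ((algebraMap F (End F (Fin 1 ⊕ Fin 1 → F))).injective (by rw [map_one, hc2])).symm
  rw [hc3, map_one] at hc1
  have h4 : Fintype.card F ^ m + 1 ∣ orderOf x := (hk _).1 hc1
  have h5 : p ∣ p ^ Nat.clog p (2 * 1) := by
    apply dvd_pow_self
    have := Nat.clog_pos hp.one_lt (n := 2 * 1) (by norm_num)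
    omega
  have hcop : Nat.Coprime (Fintype.card F ^ m + 1) p := coprime_of_dvd p m _ hm (Or.inr dvd_rfl)
  exact hcop.symm.mul_dvd_of_dvd_of_dvd (h5.trans h3) h4

/-- `PΩ_{2m+3}(q)` has no such element -/
theorem omega_no (p m : ℕ) [hp : Fact p.Prime] [CharP F p] (h2 : (2 : F) ≠ 0) (hm : 2 ≤ m) :
    p * (Fintype.card F ^ m + 1) ∉ Set.range (orderOf : Cfsg.POmega F (Cfsg.quadFormOdd (m + 1) F) → ℕ) := by
  classical
  rw [← Cfsg.Agent.LieClassical.OrthForms.coe_oddForm, Cfsg.Agent.H160.QFinal.range_POmega h2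
    (Cfsg.Agent.LieClassical.OrthForms.nondeg_oddForm (m + 1) F h2)
    (by simp only [Fintype.card_sum, Fintype.card_fin, Fintype.card_unit]; omega)
    (by simp only [Fintype.card_sum, Fintype.card_fin, Fintype.card_unit]; exact ⟨m + 1, by ring⟩)]
  rintro ⟨g, hg, ho⟩
  refine main (p := p) h2 (Cfsg.Agent.LieClassical.OrthForms.nondeg_oddForm (m + 1) F h2) hm ?_ hg ho
  rw [finrank_fintype_fun_eq_card]
  simp only [Fintype.card_sum, Fintype.card_fin, Fintype.card_unit]
  ring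

/-- **Separation** of the spectra of `PSp_{2n}(q)` and `PΩ_{2n+1}(q)`, `q` odd, `n ≥ 3`. -/
theorem range_ne (hodd : Odd (Fintype.card F)) {n : ℕ} (hn : 3 ≤ n) :
    Set.range (orderOf : Cfsg.PSp n F → ℕ) ≠ Set.range (orderOf : Cfsg.POmega F (Cfsg.quadFormOdd n F) → ℕ) := by
  classical
  intro hEq
  obtain ⟨p, hchar⟩ := CharP.exists F
  have hp0 : p.Prime := CharP.char_is_prime F p
  have hpf : Fact p.Prime := ⟨hp0⟩
  have h2 : (2 : F) ≠ 0 := by
    intro h
    have h3 : p = 2 := by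
      have h4 : ((2 : ℕ) : F) = 0 := by exact_mod_cast h
      exact (Nat.prime_dvd_prime_iff_eq hp0 Nat.prime_two).1 ((CharP.cast_eq_zero_iff F p 2).1 h4)
    subst h3
    obtain ⟨n, -, hn⟩ := FiniteField.card F 2
    rw [hn] at hodd
    exact absurd hodd (by simp [Nat.odd_pow_iff n.ne_zero])
  obtain ⟨m, rfl⟩ : ∃ m, n = m + 1 := ⟨n - 1, by omega⟩
  obtain ⟨x, hx⟩ := psp_elt (F := F) p m h2 hodd (by omega)
  apply omega_no (F := F) p m h2 (by omega)
  rw [← hEq]
  exact Cfsg.Agent.H160.QFinal.dvd_mem ⟨x, rfl⟩ hx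

end Sp

end Cfsg.Agent.H365.SepOdd
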