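import Cfsg.Agent.H365.SporEngine
import Cfsg.Agent.H364.OutLie
import Cfsg.Agent.H489.OutSpor
import Cfsg.Agent.H403.SporOrd

/-!
# The numerical check for groups of sporadic order
-/

set_option autoImplicit false
set_option maxRecDepth 100000

namespace Cfsg.Agent.H365.SporCheck

open Subgroup Cfsg Cfsg.Agent.OrdDiv Cfsg.Agent.H364
open Cfsg.Agent.H902 Cfsg.Agent.H902.Names

universe u

/-- the exponent of `t` in `m` -/
def vt (t : ℕ) : ℕ → ℕ → ℕ
  | 0, _ => 0
  | k + 1, m => if m % t = 0 then vt t k (m / t) + 1 else 0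

theorem vt_eq {t : ℕ} (ht : t.Prime) : ∀ (k m : ℕ), m ≠ 0 → m < 2 ^ k → m.factorization t = vt t k m
  | 0, m, h0, h => by
    rw [pow_zero] at h
    omega
  | k + 1, m, h0, h => by
    rw [vt]
    split_ifs with hd
    · obtain ⟨c, rfl⟩ := Nat.dvd_of_mod_eq_zero hd
      have hc : c ≠ 0 := by rintro rfl; exact h0 (mul_zero t)
      rw [Nat.mul_div_cancel_left _ ht.pos, Nat.factorization_mul ht.ne_zero hc, Finsupp.add_apply,
        ht.factorization_self, add_comm, vt_eq ht k c hc]
      have h2 : 2 * c ≤ t * c := Nat.mul_le_mul_right _ ht.two_le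
      rw [pow_succ] at h
      omega
    · exact Nat.factorization_eq_zero_of_not_dvd fun hd' => hd (Nat.mod_eq_zero_of_dvd hd')

/-- the prime and the exponent of a prime power -/
def pfOf (q : ℕ) : ℕ × ℕ :=
  match [2, 3, 5, 7, 11, 13, 17, 19, 23, 29, 31, 37, 41, 43, 47, 59, 67, 71].find? (fun p => q % p == 0) with
  | some p => (p, vt p 64 q)
  | none => (0, 0)

theorem prime_of_mem : ∀ p ∈ [2, 3, 5, 7, 11, 13, 17, 19, 23, 29, 31, 37, 41, 43, 47, 59, 67, 71], Nat.Prime p := by
  decide +kernel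

theorem pfOf_prime {q : ℕ} (h1 : 1 ≤ (pfOf q).2) : (pfOf q).1.Prime := by
  unfold pfOf at h1 ⊢
  cases hf : [2, 3, 5, 7, 11, 13, 17, 19, 23, 29, 31, 37, 41, 43, 47, 59, 67, 71].find? (fun p => q % p == 0) with
  | some p => exact prime_of_mem p (List.mem_of_find?_eq_some hf)
  | none =>
    rw [hf] at h1
    simp at h1

/-- good prime powers -/
def okQ (q : ℕ) : Bool := (pfOf q).1 ^ (pfOf q).2 == q && Nat.blt 0 (pfOf q).2

theorem okQ_spec {q : ℕ} (h : okQ q = true) : ∃ p f, p.Prime ∧ 1 ≤ f ∧ q = p ^ f ∧ (pfOf q).2 = f := by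
  rw [okQ, Bool.and_eq_true, beq_iff_eq, Nat.blt_eq] at h
  exact ⟨_, _, pfOf_prime h.2, h.2, h.1.symm, rfl⟩

/-- the admissible names -/
def okC : Grp → Bool
  | .alt n => Nat.blt 6 n
  | .psl n q => okQ q && Nat.blt 1 n && (Nat.blt 2 n || Nat.blt 3 q)
  | .psp n q => okQ q && Nat.blt 1 n && (Nat.blt 2 n || Nat.blt 2 q)
  | .psu n q => okQ q && Nat.blt 2 n && (Nat.blt 3 n || Nat.blt 2 q)
  | .oodd n q => okQ q && Nat.blt 2 n && Nat.beq (q % 2) 1
  | .g2 q => okQ q && Nat.blt 2 q
  | .sz q => okQ q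
  | .tits => true
  | .m11 | .m12 | .m22 | .m23 | .m24 | .j1 | .j2 | .j3 | .j4 | .co1 | .co2 | .co3 | .mcl | .hs | .suz | .he | .ru
  | .on | .ly | .fi22 | .fi23 | .fi24 | .hn | .th | .b | .m => true
  | _ => false

/-- a multiple of the order of the outer automorphism group -/
def outC : Grp → ℕ
  | .psl n q => (if n = 2 then 1 else 2) * Nat.gcd n (q - 1) * (pfOf q).2
  | .psp n q => 24 * Nat.gcd 2 (q - 1) * (pfOf q).2
  | .psu n q => 24 * Nat.gcd n (q + 1) * (pfOf q).2
  | .oodd n q => 24 * Nat.gcd 2 (q - 1) * (pfOf q).2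
  | .g2 q => 24 * (pfOf q).2
  | .sz q => 24 * (pfOf q).2
  | _ => 2

theorem card_out_congr {S T : Type*} [Group S] [Group T] (e : S ≃* T) :
    Nat.card (Cfsg.Out S) = Nat.card (Cfsg.Out T) := H55.OutGen.card_out_congr e

theorem dvd_two {k : ℕ} (h0 : k ≠ 0) (h : k ≤ 2) : k ∣ 2 := by
  have : k = 1 ∨ k = 2 := by omega
  rcases this with rfl | rfl <;> norm_num

theorem isLie_out {S : Type u} [Group S] [Finite S] [IsSimpleGroup S] (hna : ¬ ∀ a b : S, a * b = b * a)
    {g : Grp} {X : Art.Sh} {p f : ℕ} (hg : IsLie g X p f) (h : OrdDiv.Real g S) (hr : Art.Real X p f (Nat.card S)) :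
    Nat.card (Cfsg.Out S) ∣ 24 * Art.dd X (p ^ f) * f := by
  obtain ⟨c, h1, h2, -⟩ := OutLie.card_out hna hg h hr
  rw [h1]
  exact Nat.mul_dvd_mul_right h2 f

theorem out_dvd (T : OrderTable.{u}) {S : Type u} [Group S] [Finite S] [IsSimpleGroup S]
    (hna : ¬ ∀ a b : S, a * b = b * a) (g : Grp) (hok : okC g = true) (h : OrdDiv.Real g S) :
    Nat.card (Cfsg.Out S) ∣ outC g := by
  have hna' : ¬ IsMulCommutative S := fun hc => hna fun a b => hc.is_comm.comm a b
  have h0 : Nat.card (Cfsg.Out S) ≠ 0 := by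
    have : Finite (MulAut S) := Finite.of_injective (fun f : MulAut S => (f : S → S)) DFunLike.coe_injective
    exact Nat.card_pos.ne'
  have hspor : IsSporadicGroup S → Nat.card (Cfsg.Out S) ∣ 2 := fun hs =>
    dvd_two h0 (H489.card_out_sporadic hs)
  cases g with
  | alt n =>
    obtain ⟨e⟩ := h
    rw [okC, Nat.blt_eq] at hok
    rw [card_out_congr e, H489.card_out_alt (by omega) (by omega)]
    exact dvd_refl 2
  | psl n q =>
    simp only [okC, Bool.and_eq_true, Bool.or_eq_true, Nat.blt_eq] at hok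
    obtain ⟨⟨h1, h2⟩, h3⟩ := hok
    obtain ⟨p, f, hp, hf, rfl, hpf⟩ := okQ_spec h1
    have hpF := Fact.mk hp
    obtain ⟨F, _, _, hF, ⟨e⟩⟩ := h
    have h4 := Cfsg.Agent.S0813.result p f hf hF n (by omega) (fun h => by omega)
    rw [OutLie.card_pgl (by omega), hF] at h4
    have h5 : Nat.card (MulAut S) = ((if n = 2 then 1 else 2) * Nat.gcd n (p ^ f - 1) * f) * Nat.card S := by
      rw [OutLie.mulaut_congr e, h4, Nat.card_congr e.toEquiv]; ring
    have h6 := H934.OutB.card_out_of_aut hna' h5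
    show _ ∣ (if n = 2 then 1 else 2) * Nat.gcd n (p ^ f - 1) * (pfOf (p ^ f)).2
    rw [hpf, ← h6]
  | psp n q =>
    simp only [okC, Bool.and_eq_true, Bool.or_eq_true, Nat.blt_eq] at hok
    obtain ⟨⟨h1, h2⟩, h3⟩ := hok
    obtain ⟨p, f, hp, hf, rfl, hpf⟩ := okQ_spec h1
    have h' := h
    obtain ⟨F, _, _, hF, ⟨e⟩⟩ := h'
    have h4 := isLie_out hna (IsLie.psp n p f) h (by
      rw [Nat.card_congr e.toEquiv]; exact psp_real hp hf hF (by omega) (fun h => by omega))
    show _ ∣ 24 * Nat.gcd 2 (p ^ f - 1) * (pfOf (p ^ f)).2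
    rw [hpf]; exact h4
  | psu n q =>
    simp only [okC, Bool.and_eq_true, Bool.or_eq_true, Nat.blt_eq] at hok
    obtain ⟨⟨h1, h2⟩, h3⟩ := hok
    obtain ⟨p, f, hp, hf, rfl, hpf⟩ := okQ_spec h1
    have h' := h
    obtain ⟨F, _, _, hF, ⟨e⟩⟩ := h'
    have h4 := isLie_out hna (IsLie.psu n p f) h (by
      rw [Nat.card_congr e.toEquiv]; exact psu_real hp hf hF (by omega) (fun h => by omega))
    show _ ∣ 24 * Nat.gcd n (p ^ f + 1) * (pfOf (p ^ f)).2
    rw [hpf]; exact h4
  | oodd n q =>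
    simp only [okC, Bool.and_eq_true, Nat.blt_eq, Nat.beq_eq] at hok
    obtain ⟨⟨h1, h2⟩, h3⟩ := hok
    obtain ⟨p, f, hp, hf, rfl, hpf⟩ := okQ_spec h1
    have h' := h
    obtain ⟨F, _, _, hF, ⟨e⟩⟩ := h'
    have ho : Odd (p ^ f) := Nat.odd_iff.2 h3
    have h4 := isLie_out hna (IsLie.oodd n p f (by omega) ho) h (by
      rw [Nat.card_congr e.toEquiv]; exact oodd_real hp hf hF (by omega) ho)
    show _ ∣ 24 * Nat.gcd 2 (p ^ f - 1) * (pfOf (p ^ f)).2
    rw [hpf]; exact h4
  | g2 q =>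
    simp only [okC, Bool.and_eq_true, Nat.blt_eq] at hok
    obtain ⟨h1, h2⟩ := hok
    obtain ⟨p, f, hp, hf, rfl, hpf⟩ := okQ_spec h1
    have h' := h
    obtain ⟨F, _, _, hF, ⟨e⟩⟩ := h'
    have h4 := isLie_out hna (IsLie.g2 p f) h (by
      refine ⟨hp, hf, ?_, ?_⟩
      · show 3 ≤ p ^ f
        omega
      have h5 := T.g2 F
      rw [← Nat.card_congr e.toEquiv, hF] at h5
      show 1 * _ = _
      rw [h5, one_mul]
      show _ = (p ^ f) ^ 6 * (((p ^ f) ^ 2 - 1) * ((p ^ f) ^ 6 - 1))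
      ring)
    show _ ∣ 24 * (pfOf (p ^ f)).2
    rw [hpf]
    have h6 : Art.dd .G2 (p ^ f) = 1 := rfl
    rwa [h6, mul_one] at h4
  | sz q =>
    simp only [okC] at hok
    have h' := h
    obtain ⟨F, _, _, m, hm, hF, hq, ⟨e⟩⟩ := h'
    subst hq
    obtain ⟨p, f, hp, hf, hpq, hpf⟩ := okQ_spec hok
    have hp2 : 2 = p := by
      have h1 : p ∣ 2 ^ (2 * m + 1) := by rw [hpq]; exact dvd_pow_self p (by omega)
      exact ((Nat.prime_dvd_prime_iff_eq hp Nat.prime_two).1 (hp.dvd_of_dvd_pow h1)).symm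
    subst hp2
    have hfm : f = 2 * m + 1 := (Nat.pow_right_injective le_rfl hpq).symm
    subst hfm
    have h4 := isLie_out hna (IsLie.sz 2 (2 * m + 1)) h (by
      have h5 := T.sz F m hm hF
      refine ⟨hp, hf, ?_, ?_⟩
      · exact ⟨rfl, ⟨m, rfl⟩, by omega⟩
      · rw [Nat.card_congr e.toEquiv]
        show 1 * _ = _
        rw [h5, one_mul]
        show _ = (2 ^ (2 * m + 1)) ^ 2 * ((2 ^ (2 * m + 1) - 1) * ((2 ^ (2 * m + 1)) ^ 2 + 1))
        ring)
    show _ ∣ 24 * (pfOf (2 ^ (2 * m + 1))).2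
    rw [hpf]
    have h6 : Art.dd .Sz (2 ^ (2 * m + 1)) = 1 := rfl
    rwa [h6, mul_one] at h4
  | tits => exact dvd_two h0 (H489.card_out_tits h)
  | m11 => exact hspor (by unfold IsSporadicGroup; tauto)
  | m12 => exact hspor (by unfold IsSporadicGroup; tauto)
  | m22 => exact hspor (by unfold IsSporadicGroup; tauto)
  | m23 => exact hspor (by unfold IsSporadicGroup; tauto)
  | m24 => exact hspor (by unfold IsSporadicGroup; tauto)
  | j1 => exact hspor (by unfold IsSporadicGroup; tauto)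
  | j2 => exact hspor (by unfold IsSporadicGroup; tauto)
  | j3 => exact hspor (by unfold IsSporadicGroup; tauto)
  | j4 => exact hspor (by unfold IsSporadicGroup; tauto)
  | co1 => exact hspor (by unfold IsSporadicGroup; tauto)
  | co2 => exact hspor (by unfold IsSporadicGroup; tauto)
  | co3 => exact hspor (by unfold IsSporadicGroup; tauto)
  | mcl => exact hspor (by unfold IsSporadicGroup; tauto)
  | hs => exact hspor (by unfold IsSporadicGroup; tauto)
  | suz => exact hspor (by unfold IsSporadicGroup; tauto)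
  | he => exact hspor (by unfold IsSporadicGroup; tauto)
  | ru => exact hspor (by unfold IsSporadicGroup; tauto)
  | on => exact hspor (by unfold IsSporadicGroup; tauto)
  | ly => exact hspor (by unfold IsSporadicGroup; tauto)
  | fi22 => exact hspor (by unfold IsSporadicGroup; tauto)
  | fi23 => exact hspor (by unfold IsSporadicGroup; tauto)
  | fi24 => exact hspor (by unfold IsSporadicGroup; tauto)
  | hn => exact hspor (by unfold IsSporadicGroup; tauto)
  | th => exact hspor (by unfold IsSporadicGroup; tauto)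
  | b => exact hspor (by unfold IsSporadicGroup; tauto)
  | m => exact hspor (by unfold IsSporadicGroup; tauto)
  | _ => exact absurd hok (by simp [okC])

/-- the check in the cyclic case -/
def cyc (n p t : ℕ) : Bool :=
  (List.range (vt t 200 n + 1)).all fun e => !((p - 1) % t ^ e == 0) || !((t ^ (vt t 200 n - e) - 1) % p == 0)

theorem cyc_spec {n p t : ℕ} (h : cyc n p t = true) {e : ℕ} (he : e ≤ vt t 200 n) (hd : t ^ e ∣ p - 1)
    (hp : p ∣ t ^ (vt t 200 n - e) - 1) : False := by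
  have h1 := List.all_eq_true.1 h e (List.mem_range.2 (by omega))
  rw [Nat.mod_eq_zero_of_dvd hd, Nat.mod_eq_zero_of_dvd hp] at h1
  simp at h1

/-- the check for a simple group of order `o` with outer automorphism group of order dividing `c` -/
def sim (n p t o c : ℕ) : Bool :=
  (List.range (vt t 200 n - vt t 200 o + 1)).all fun e =>
    !(c % t ^ e == 0) || !((t ^ (vt t 200 n - vt t 200 o - e) - 1) % p == 0)

theorem sim_spec {n p t o c : ℕ} (h : sim n p t o c = true) {e : ℕ} (he : e ≤ vt t 200 n - vt t 200 o)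
    (hd : t ^ e ∣ c) (hp : p ∣ t ^ (vt t 200 n - vt t 200 o - e) - 1) : False := by
  have h1 := List.all_eq_true.1 h e (List.mem_range.2 (by omega))
  rw [Nat.mod_eq_zero_of_dvd hd, Nat.mod_eq_zero_of_dvd hp] at h1
  simp at h1

/-- the complete check -/
def chk (l : List (ℕ × ℕ)) (n p : ℕ) (ts : List ℕ) : Bool :=
  vt p 200 n == 1 && Nat.blt n (2 ^ 200) && valid l n && (ts.any fun t => cyc n p t) &&
    (cands l n).all fun g => !(ordN g % p == 0) || ordN g == n || (okC g && ts.any fun t => sim n p t (ordN g) (outC g))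

/-- **The main theorem.** -/
theorem main (T : OrderTable.{u}) (hknown : ∀ (S : Type u) [Group S] [Finite S] [IsSimpleGroup S], IsKnownSimple' S)
    {G : Type u} [Group G] [Finite G] {n p : ℕ} {l : List (ℕ × ℕ)} {ts : List ℕ} (hn : Nat.card G = n) (hp : p.Prime)
    (hts : ∀ t ∈ ts, t.Prime ∧ t ≠ p ∧ NoEdge G p t) (h : chk l n p ts = true) :
    IsSimpleGroup G ∧ ¬ ∀ a b : G, a * b = b * a := by
  simp only [chk, Bool.and_eq_true, beq_iff_eq, Nat.blt_eq] at h
  obtain ⟨⟨⟨⟨h1, h2⟩, h3⟩, h4⟩, h5⟩ := h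
  have hn0 : n ≠ 0 := by rw [← hn]; exact Nat.card_pos.ne'
  have hv : ∀ t, t.Prime → n.factorization t = vt t 200 n := fun t ht => vt_eq ht 200 n hn0 h2
  obtain ⟨K, hKn, hpK, H, hHn, hcard, hpH, hcase⟩ := SporEngine.exists_factor (G := G) hp (by rw [hn, hv p hp, h1])
  have hK0 : Nat.card K ≠ 0 := Nat.card_pos.ne'
  have hH0 : Nat.card H ≠ 0 := Nat.card_pos.ne'
  have hI0 : H.index ≠ 0 := Subgroup.index_ne_zero_of_finite
  have hfac : ∀ t, n.factorization t =
      (Nat.card K).factorization t + (H.index.factorization t + (Nat.card H).factorization t) := by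
    intro t
    rw [← hn, ← hcard, Nat.factorization_mul hK0 (Nat.mul_ne_zero hI0 hH0), Finsupp.add_apply,
      Nat.factorization_mul hI0 hH0, Finsupp.add_apply]
  have hcong : ∀ t ∈ ts, p ∣ t ^ (Nat.card K).factorization t - 1 := by
    intro t ht
    obtain ⟨ht1, ht2, ht3⟩ := hts t ht
    have h6 := congr_one K hp ht1 ht2.symm hpK ht3
    rw [hn, hv p hp, h1, pow_one] at h6
    exact h6
  rcases hcase with ⟨C, hC, hCi⟩ | ⟨hHs, hna, hout⟩
  · exfalso
    obtain ⟨t, ht, htc⟩ := List.any_eq_true.1 h4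
    obtain ⟨ht1, ht2, ht3⟩ := hts t ht
    have hQ : NoEdge (G ⧸ K) p t := noEdge_quotient K ht3
    have htC : ¬ t ∣ Nat.card C := fun hd =>
      hQ.symm.false_of_subgroups ht1 hp ht2 hC hd hpH
    have h7 : (H.index.factorization t + (Nat.card H).factorization t) = C.index.factorization t := by
      have h8 : H.index * Nat.card H = C.index * Nat.card C := by
        rw [mul_comm, Subgroup.card_mul_index, mul_comm, Subgroup.card_mul_index]
      have h9 := congrArg (fun m => m.factorization t) h8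
      rw [Nat.factorization_mul hI0 hH0, Finsupp.add_apply,
        Nat.factorization_mul Subgroup.index_ne_zero_of_finite Nat.card_pos.ne', Finsupp.add_apply,
        Nat.factorization_eq_zero_of_not_dvd htC] at h9
      omega
    have h10 : t ^ C.index.factorization t ∣ p - 1 := (Nat.ordProj_dvd _ _).trans hCi
    have h11 := hfac t
    rw [h7, hv t ht1] at h11
    refine cyc_spec htc (e := C.index.factorization t) (by omega) h10 ?_
    have h12 := hcong t ht
    rwa [show (Nat.card K).factorization t = vt t 200 n - C.index.factorization t by omega] at h12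
  · have hdvd : Nat.card H ∣ n := by rw [← hn, ← hcard]; exact (Dvd.intro_left _ rfl).trans (Dvd.intro_left _ rfl)
    have hfin : Nat.card H = n → IsSimpleGroup G ∧ ¬ ∀ a b : G, a * b = b * a := by
      intro h6
      have h7 : Nat.card K * H.index = 1 := by
        have h8 : Nat.card K * H.index * n = 1 * n := by
          rw [one_mul]
          conv_rhs => rw [← hn, ← hcard]
          rw [h6, mul_assoc]
        exact Nat.eq_of_mul_eq_mul_right (Nat.pos_of_ne_zero hn0) h8
      have hK : K = ⊥ := Subgroup.card_eq_one.1 (Nat.eq_one_of_mul_eq_one_right h7)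
      have hH : H = ⊤ := Subgroup.index_eq_one.1 (Nat.eq_one_of_mul_eq_one_left h7)
      subst hK
      subst hH
      let e : G ≃* (⊤ : Subgroup (G ⧸ (⊥ : Subgroup G))) := QuotientGroup.quotientBot.symm.trans Subgroup.topEquiv.symm
      refine ⟨e.isSimpleGroup, fun hab => hna fun x y => ?_⟩
      obtain ⟨a, rfl⟩ := e.surjective x
      obtain ⟨b, rfl⟩ := e.surjective y
      rw [← map_mul, hab, map_mul]
    obtain ⟨g, hg, hr, hc⟩ := exists_good T (hknown H) hna h3 hdvd
    have h6 := List.all_eq_true.1 h5 g hg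
    simp only [Bool.or_eq_true, Bool.and_eq_true, Bool.not_eq_true', beq_eq_false_iff_ne, beq_iff_eq] at h6
    rcases h6 with (h6 | h6) | ⟨h6, h7⟩
    · exact absurd (Nat.mod_eq_zero_of_dvd (hc ▸ hpH)) h6
    · exact hfin (hc.trans h6)
    · exfalso
      obtain ⟨t, ht, htc⟩ := List.any_eq_true.1 h7
      obtain ⟨ht1, ht2, ht3⟩ := hts t ht
      have h8 : t ^ H.index.factorization t ∣ outC g :=
        ((Nat.ordProj_dvd _ _).trans hout).trans (out_dvd T hna g h6 hr)
      have hHlt : Nat.card H < 2 ^ 200 := lt_of_le_of_lt (Nat.le_of_dvd (Nat.pos_of_ne_zero hn0) hdvd) h2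
      have h9 : (Nat.card H).factorization t = vt t 200 (ordN g) := by
        rw [vt_eq ht1 200 _ hH0 hHlt, hc]
      have h10 := hfac t
      rw [h9, hv t ht1] at h10
      refine sim_spec htc (e := H.index.factorization t) (by omega) h8 ?_
      have h12 := hcong t ht
      rwa [show (Nat.card K).factorization t = vt t 200 n - vt t 200 (ordN g) - H.index.factorization t by omega] at h12

end Cfsg.Agent.H365.SporCheck
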