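import Mathlib
import Cfsg.Agent.H364.Reduce
import Cfsg.Agent.OrdDiv.Main

/-!
# Groups whose order is divisible exactly once by a prime not adjacent to some primes

`exists_factor`, `main`: `p` divides `n = |G|` exactly once, `ts` is a list of primes `t` such that `G` has no element of
order `p * t`; a numerical check for all the known simple groups whose order divides `n` shows that `G` is simple.
-/

set_option autoImplicit false

namespace Cfsg.Agent.H365.SporEngine

open Subgroup Cfsg Cfsg.Agent.OrdDiv Cfsg.Agent.H364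

universe u

/-- the factor of order divisible by `p` -/
theorem exists_factor {G : Type u} [Group G] [Finite G] {p : ℕ} (hp : p.Prime) (h1 : (Nat.card G).factorization p = 1) :
    ∃ (K : Subgroup G) (_ : K.Normal), ¬ p ∣ Nat.card K ∧
      ∃ H : Subgroup (G ⧸ K), H.Normal ∧ Nat.card K * (H.index * Nat.card H) = Nat.card G ∧ p ∣ Nat.card H ∧
        ((∃ C : Subgroup (G ⧸ K), (∀ x ∈ C, ∀ y ∈ H, Commute x y) ∧ C.index ∣ p - 1) ∨
        (IsSimpleGroup H ∧ (¬ ∀ x y : H, x * y = y * x) ∧ H.index ∣ Nat.card (Cfsg.Out H))) := by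
  have hpF : Fact p.Prime := ⟨hp⟩
  obtain ⟨K, hKn, hKm, hmax⟩ := exists_core G p
  have hpK : ¬ p ∣ Nat.card K := fun h => by
    have := Nat.dvd_gcd h (dvd_refl p)
    rw [hKm] at this
    exact hp.one_lt.ne' (Nat.dvd_one.1 this)
  have hGK : Nat.card K * Nat.card (G ⧸ K) = Nat.card G := by
    rw [← Subgroup.card_mul_index K, Subgroup.index_eq_card]
  have hfq : (Nat.card (G ⧸ K)).factorization p = 1 := by
    rw [← h1, ← hGK, Nat.factorization_mul Nat.card_pos.ne' Nat.card_pos.ne', Finsupp.add_apply,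
      Nat.factorization_eq_zero_of_not_dvd hpK, zero_add]
  have hnt : Nontrivial (G ⧸ K) := by
    rw [← Finite.one_lt_card_iff_nontrivial]
    by_contra hcon
    have h1 : Nat.card (G ⧸ K) = 1 := by
      have : 0 < Nat.card (G ⧸ K) := Nat.card_pos
      omega
    rw [h1] at hfq
    simp at hfq
  obtain ⟨H, hHn, hH1, hHmin⟩ := exists_minimal_normal (G ⧸ K)
  have hcore : ∀ L : Subgroup (G ⧸ K), L.Normal → ¬ p ∣ Nat.card L → L = ⊥ := fun L hL hd =>
    core_quotient hKm hmax L hL ((Nat.Prime.coprime_iff_not_dvd hp).2 hd).symm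
  have hpH : p ∣ Nat.card H := by
    by_contra hd
    exact hH1 (hcore H hHn hd)
  have hfH : (Nat.card H).factorization p = 1 := by
    apply le_antisymm
    · rw [← hfq]
      exact (Nat.factorization_le_iff_dvd Nat.card_pos.ne' Nat.card_pos.ne').2 (Subgroup.card_subgroup_dvd_card H) p
    · exact hp.factorization_pos_of_dvd Nat.card_pos.ne' hpH
  refine ⟨K, hKn, hpK, H, hHn, ?_, hpH, ?_⟩
  · rw [mul_comm H.index, Subgroup.card_mul_index, hGK]
  rcases minimal_normal_cases2 H hH1 hHmin with ⟨t, ht, hpg⟩ | ⟨k, S, hk, hSN, hS, hSna, hSt, hScard, hScomm, hSsup⟩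
  · left
    have := Fact.mk ht
    obtain ⟨a, ha⟩ := IsPGroup.iff_card.1 hpg
    have h2 : p = t := (Nat.prime_dvd_prime_iff_eq hp ht).1 (hp.dvd_of_dvd_pow (ha ▸ hpH))
    subst h2
    have hcp : Nat.card H = p := by
      rw [ha, hp.factorization_pow] at hfH
      simp at hfH
      rw [ha, hfH, pow_one]
    refine ⟨(MulAut.conjNormal : (G ⧸ K) →* MulAut H).ker, ?_, ?_⟩
    · intro x hx y hy
      rw [MonoidHom.mem_ker] at hx
      have h2 : (MulAut.conjNormal x : MulAut H) ⟨y, hy⟩ = ⟨y, hy⟩ := by rw [hx]; rfl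
      have h3 : x * y * x⁻¹ = y := by
        have := congrArg Subtype.val h2
        rwa [MulAut.conjNormal_apply] at this
      exact mul_inv_eq_iff_eq_mul.1 h3
    · rw [Subgroup.index_ker]
      have hcyc : IsCyclic H := isCyclic_of_prime_card hcp
      have h4 : Nat.card (MulAut H) = p - 1 := by
        rw [IsCyclic.card_mulAut, hcp, Nat.totient_prime hp]
      rw [← h4]
      exact Subgroup.card_subgroup_dvd_card _
  · right
    have hk1 : k = 1 := by
      by_contra hne
      have h01 : (⟨0, hk⟩ : Fin k) ≠ ⟨1, by omega⟩ := by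
        intro h; simp at h
      obtain ⟨x, hx⟩ := exists_prime_orderOf_dvd_card' p (hSt p hp hpH ⟨0, hk⟩)
      obtain ⟨y, hy⟩ := exists_prime_orderOf_dvd_card' p (hSt p hp hpH ⟨1, by omega⟩)
      have hxo : orderOf (x : G ⧸ K) = p := by rw [Subgroup.orderOf_coe]; exact hx
      have hyo : orderOf (y : G ⧸ K) = p := by rw [Subgroup.orderOf_coe]; exact hy
      -- the intersection is trivial
      have hdisj : Disjoint (S ⟨0, hk⟩) (S ⟨1, by omega⟩) := by
        have hs := hS ⟨0, hk⟩
        have hc : ((S ⟨0, hk⟩ ⊓ S ⟨1, by omega⟩).subgroupOf (S ⟨0, hk⟩)).Normal := by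
          refine ⟨fun n hn g => ?_⟩
          have h3 : (g : G ⧸ K) * n = n * g := hScomm _ _ h01 g g.2 n (Subgroup.mem_subgroupOf.1 hn).2
          have h4 : g * n * g⁻¹ = n := by
            apply Subtype.ext
            show (g : G ⧸ K) * n * (g : G ⧸ K)⁻¹ = n
            rw [h3, mul_inv_cancel_right]
          rw [h4]; exact hn
        rcases hs.eq_bot_or_eq_top_of_normal _ hc with h5 | h5
        · rw [disjoint_iff, eq_bot_iff]
          intro z hz
          have h6 : (⟨z, hz.1⟩ : S ⟨0, hk⟩) ∈ (S ⟨0, hk⟩ ⊓ S ⟨1, by omega⟩).subgroupOf (S ⟨0, hk⟩) :=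
            Subgroup.mem_subgroupOf.2 hz
          rw [h5, Subgroup.mem_bot] at h6
          exact congrArg Subtype.val h6
        · exfalso
          refine hSna ⟨0, hk⟩ fun a b => ?_
          have h6 : b ∈ (S ⟨0, hk⟩ ⊓ S ⟨1, by omega⟩).subgroupOf (S ⟨0, hk⟩) := by rw [h5]; exact Subgroup.mem_top b
          exact Subtype.ext (hScomm _ _ h01 a a.2 b (Subgroup.mem_subgroupOf.1 h6).2)
      -- the group `⟨x⟩ ⟨y⟩` has order `p ^ 2`
      have hcard : Nat.card (S ⟨0, hk⟩) * Nat.card (S ⟨1, by omega⟩) ∣ Nat.card H := by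
        let f : (S ⟨0, hk⟩) × (S ⟨1, by omega⟩) →* H :=
          { toFun := fun z => ⟨z.1 * z.2, H.mul_mem (hSN _ z.1.2) (hSN _ z.2.2)⟩
            map_one' := Subtype.ext (by simp)
            map_mul' := fun a b => Subtype.ext (by
              show (a.1 * b.1 : G ⧸ K) * (a.2 * b.2 : G ⧸ K) = (a.1 * a.2 : G ⧸ K) * (b.1 * b.2 : G ⧸ K)
              have := hScomm _ _ h01 b.1 b.1.2 a.2 a.2.2
              rw [mul_assoc, mul_assoc, ← mul_assoc (b.1 : G ⧸ K), this.eq, mul_assoc]) }
        have hf : Function.Injective f := by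
          rw [injective_iff_map_eq_one]
          rintro ⟨a, b⟩ hab
          have h7 : (a : G ⧸ K) * b = 1 := congrArg Subtype.val hab
          have h8 : (a : G ⧸ K) ∈ S ⟨1, by omega⟩ := by
            rw [mul_eq_one_iff_eq_inv.1 h7]; exact inv_mem b.2
          have h9 : (a : G ⧸ K) = 1 := by
            have := (disjoint_iff.1 hdisj)
            have h10 : (a : G ⧸ K) ∈ S ⟨0, hk⟩ ⊓ S ⟨1, by omega⟩ := ⟨a.2, h8⟩
            rwa [this, Subgroup.mem_bot] at h10
          have h11 : (b : G ⧸ K) = 1 := by rwa [h9, one_mul] at h7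
          exact Prod.ext (Subtype.ext h9) (Subtype.ext h11)
        rw [← Nat.card_prod, Nat.card_congr (MonoidHom.ofInjective hf).toEquiv]
        exact Subgroup.card_subgroup_dvd_card _
      have h5 : p ^ 2 ∣ Nat.card H := by
        rw [pow_two]
        exact (Nat.mul_dvd_mul (hSt p hp hpH _) (hSt p hp hpH _)).trans hcard
      have h6 := (hp.pow_dvd_iff_le_factorization Nat.card_pos.ne').1 h5
      omega
    subst hk1
    have hNS : S 0 = H := by
      rw [← hSsup]
      exact (iSup_unique (f := S)).symm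
    have hsimple : IsSimpleGroup H := hNS ▸ hS 0
    have hna : ¬ ∀ a b : H, a * b = b * a := hNS ▸ hSna 0
    refine ⟨hsimple, hna, index_dvd_out H hna ?_⟩
    apply hcore _ inferInstance
    intro hd
    -- `p` divides `|H|` and `|C|`
    have hdisj : Disjoint H (centralizer (H : Set (G ⧸ K))) := by
      have hc : ((H ⊓ centralizer (H : Set (G ⧸ K))).subgroupOf H).Normal := by
        have : (H ⊓ centralizer (H : Set (G ⧸ K))).Normal := inferInstance
        exact this.comap _
      rcases hsimple.eq_bot_or_eq_top_of_normal _ hc with h5 | h5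
      · rw [disjoint_iff, eq_bot_iff]
        intro z hz
        have h6 : (⟨z, hz.1⟩ : H) ∈ (H ⊓ centralizer (H : Set (G ⧸ K))).subgroupOf H := Subgroup.mem_subgroupOf.2 hz
        rw [h5, Subgroup.mem_bot] at h6
        exact congrArg Subtype.val h6
      · exfalso
        refine hna fun a b => ?_
        have h6 : b ∈ (H ⊓ centralizer (H : Set (G ⧸ K))).subgroupOf H := by rw [h5]; exact Subgroup.mem_top b
        exact Subtype.ext (Subgroup.mem_centralizer_iff.1 (Subgroup.mem_subgroupOf.1 h6).2 a a.2)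
    have hcard : Nat.card H * Nat.card (centralizer (H : Set (G ⧸ K))) ∣ Nat.card (G ⧸ K) := by
      let f : H × (centralizer (H : Set (G ⧸ K))) →* (G ⧸ K) :=
        { toFun := fun z => z.1 * z.2
          map_one' := by simp
          map_mul' := fun a b => by
            show (a.1 * b.1 : G ⧸ K) * (a.2 * b.2 : G ⧸ K) = (a.1 * a.2 : G ⧸ K) * (b.1 * b.2 : G ⧸ K)
            have := Subgroup.mem_centralizer_iff.1 a.2.2 b.1 b.1.2
            rw [mul_assoc, mul_assoc, ← mul_assoc (b.1 : G ⧸ K), this, mul_assoc] }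
      have hf : Function.Injective f := by
        rw [injective_iff_map_eq_one]
        rintro ⟨a, b⟩ hab
        have h7 : (a : G ⧸ K) * b = 1 := hab
        have h8 : (a : G ⧸ K) ∈ centralizer (H : Set (G ⧸ K)) := by
          rw [mul_eq_one_iff_eq_inv.1 h7]; exact inv_mem b.2
        have h9 : (a : G ⧸ K) = 1 := by
          have := (disjoint_iff.1 hdisj)
          have h10 : (a : G ⧸ K) ∈ H ⊓ centralizer (H : Set (G ⧸ K)) := ⟨a.2, h8⟩
          rwa [this, Subgroup.mem_bot] at h10
        have h11 : (b : G ⧸ K) = 1 := by rwa [h9, one_mul] at h7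
        exact Prod.ext (Subtype.ext h9) (Subtype.ext h11)
      rw [← Nat.card_prod, Nat.card_congr (MonoidHom.ofInjective hf).toEquiv]
      exact Subgroup.card_subgroup_dvd_card _
    have h5 : p ^ 2 ∣ Nat.card (G ⧸ K) := by
      rw [pow_two]
      exact (Nat.mul_dvd_mul hpH hd).trans hcard
    have h6 := (hp.pow_dvd_iff_le_factorization Nat.card_pos.ne').1 h5
    omega

end Cfsg.Agent.H365.SporEngine
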