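import Cfsg.Agent.H365.SporCheck

/-!
# The numerical checks for the sporadic groups and the Tits group
-/

set_option autoImplicit false
set_option maxRecDepth 100000

namespace Cfsg.Agent.H365.SporCheck

open Cfsg Cfsg.Agent.OrdDiv

/-- the order, the prime, its non-neighbours and the factorization -/
def rows : List (ℕ × ℕ × List ℕ × List (ℕ × ℕ)) :=
  [(17971200, 13, [2], [(2,11),(3,3),(5,2),(13,1)]),
   (7920, 11, [2], [(2,4),(3,2),(5,1),(11,1)]),
   (95040, 11, [2], [(2,6),(3,3),(5,1),(11,1)]),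
   (443520, 11, [2], [(2,7),(3,2),(5,1),(7,1),(11,1)]),
   (10200960, 23, [2], [(2,7),(3,2),(5,1),(7,1),(11,1),(23,1)]),
   (244823040, 23, [2], [(2,10),(3,3),(5,1),(7,1),(11,1),(23,1)]),
   (175560, 19, [2], [(2,3),(3,1),(5,1),(7,1),(11,1),(19,1)]),
   (604800, 7, [5], [(2,7),(3,3),(5,2),(7,1)]),
   (50232960, 19, [2], [(2,7),(3,5),(5,1),(17,1),(19,1)]),
   (86775571046077562880, 37, [2], [(2,21),(3,3),(5,1),(7,1),(11,3),(23,1),(29,1),(31,1),(37,1),(43,1)]),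
   (4157776806543360000, 23, [2, 7], [(2,21),(3,9),(5,4),(7,2),(11,1),(13,1),(23,1)]),
   (42305421312000, 23, [2, 5], [(2,18),(3,6),(5,3),(7,1),(11,1),(23,1)]),
   (495766656000, 23, [2, 5], [(2,10),(3,7),(5,3),(7,1),(11,1),(23,1)]),
   (898128000, 11, [2, 5, 7], [(2,7),(3,6),(5,3),(7,1),(11,1)]),
   (44352000, 11, [2], [(2,9),(3,2),(5,3),(7,1),(11,1)]),
   (448345497600, 11, [2, 5], [(2,13),(3,7),(5,2),(7,1),(11,1),(13,1)]),
   (4030387200, 17, [2, 7], [(2,10),(3,3),(5,2),(7,3),(17,1)]),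
   (145926144000, 29, [2], [(2,14),(3,3),(5,3),(7,1),(13,1),(29,1)]),
   (460815505920, 31, [2], [(2,9),(3,4),(5,1),(7,3),(11,1),(19,1),(31,1)]),
   (51765179004000000, 67, [2], [(2,8),(3,7),(5,6),(7,1),(11,1),(31,1),(37,1),(67,1)]),
   (64561751654400, 13, [2, 7], [(2,17),(3,9),(5,2),(7,1),(11,1),(13,1)]),
   (4089470473293004800, 23, [2, 13], [(2,18),(3,13),(5,2),(7,1),(11,1),(13,1),(17,1),(23,1)]),
   (1255205709190661721292800, 29, [2], [(2,21),(3,16),(5,2),(7,3),(11,1),(13,1),(17,1),(23,1),(29,1)]),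
   (273030912000000, 19, [2], [(2,14),(3,6),(5,6),(7,1),(11,1),(19,1)]),
   (90745943887872000, 19, [2], [(2,15),(3,10),(5,3),(7,2),(13,1),(19,1),(31,1)]),
   (4154781481226426191177580544000000, 47, [2], [(2,41),(3,13),(5,6),(7,2),(11,1),(13,1),(17,1),(19,1),(23,1),(31,1),(47,1)]),
   (808017424794512875886459904961710757005754368000000000, 71, [2], [(2,46),(3,20),(5,9),(7,6),(11,2),(13,3),(17,1),(19,1),(23,1),(29,1),(31,1),(41,1),(47,1),(59,1),(71,1)])]

theorem rows_chk : (rows.all fun x => chk x.2.2.2 x.1 x.2.1 x.2.2.1) = true := by decide +kernel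

end Cfsg.Agent.H365.SporCheck
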